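import Cfsg.Agent.Lib.SymChar81.Type
import Mathlib.Data.ZMod.Basic
import Mathlib.GroupTheory.Subgroup.Centralizer
import Mathlib.GroupTheory.PGroup
import Mathlib.Algebra.Group.TypeTags.Finite

/-!
# The model of an element with `w` cycles of length `p`

`shiftHom` is the elementary abelian group generated by the cycles; it is normal in the
centralizer of their product.
-/

set_option linter.unusedSectionVars false

namespace Cfsg.Agent.Lib.SymChar81

open Equiv Finset

variable {p w m : ℕ}

/-- The points. -/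
abbrev Pts (p w m : ℕ) : Type := (Fin w × ZMod p) ⊕ Fin m

/-- Translations on each of the `w` blocks. -/
def shiftHom (p w m : ℕ) : (Fin w → Multiplicative (ZMod p)) →* Perm (Pts p w m) where
  toFun c := sumCongr (Equiv.prodCongrRight fun i => Equiv.addLeft (c i).toAdd) (Equiv.refl _)
  map_one' := by
    ext a; rcases a with ⟨i, j⟩ | k <;> simp
  map_mul' c d := by
    ext a; rcases a with ⟨i, j⟩ | k <;> simp [Perm.mul_apply, add_assoc]

theorem shiftHom_inl (c : Fin w → Multiplicative (ZMod p)) (i : Fin w) (j : ZMod p) :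
    shiftHom p w m c (Sum.inl (i, j)) = Sum.inl (i, (c i).toAdd + j) := rfl

theorem shiftHom_inr (c : Fin w → Multiplicative (ZMod p)) (k : Fin m) :
    shiftHom p w m c (Sum.inr k) = Sum.inr k := rfl

theorem shiftHom_injective : Function.Injective (shiftHom p w m) := by
  intro c d h
  funext i
  have := congrFun (congrArg DFunLike.coe h) (Sum.inl (i, 0))
  rw [shiftHom_inl, shiftHom_inl] at this
  simpa using this

/-- The product of all the cycles. -/
def unitShift (p w : ℕ) : Fin w → Multiplicative (ZMod p) := fun _ => Multiplicative.ofAdd 1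

/-- The element with `w` cycles of length `p` acting as `τ` on the rest. -/
def modelPerm (p w : ℕ) {m : ℕ} (τ : Perm (Fin m)) : Perm (Pts p w m) :=
  sumCongr (Equiv.refl _) τ

theorem shiftHom_comm (c : Fin w → Multiplicative (ZMod p)) (τ : Perm (Fin m)) :
    Commute (shiftHom p w m c) (modelPerm p w τ) := by
  ext a; rcases a with ⟨i, j⟩ | k <;> simp [Perm.mul_apply, shiftHom, modelPerm]

theorem modelPerm_pow (τ : Perm (Fin m)) : ∀ r : ℕ,
    modelPerm p w τ ^ r = modelPerm p w (τ ^ r) := by
  intro r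
  induction r with
  | zero => ext a; rcases a with a | k <;> simp [modelPerm]
  | succ r ih =>
    rw [pow_succ, ih, pow_succ]
    ext a; rcases a with a | k <;> simp [modelPerm, Perm.mul_apply]

theorem shift_mul_model_inl (c : Fin w → Multiplicative (ZMod p)) (τ : Perm (Fin m)) (r : ℕ)
    (i : Fin w) (j : ZMod p) :
    ((shiftHom p w m c * modelPerm p w τ) ^ r) (Sum.inl (i, j)) =
      Sum.inl (i, r • (c i).toAdd + j) := by
  rw [(shiftHom_comm c τ).mul_pow, ← map_pow, modelPerm_pow, Perm.mul_apply]
  change shiftHom p w m (c ^ r) (Sum.inl (i, j)) = _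
  rw [shiftHom_inl, Pi.pow_apply, toAdd_pow]

theorem shift_mul_model_inr (c : Fin w → Multiplicative (ZMod p)) (τ : Perm (Fin m)) (r : ℕ)
    (k : Fin m) :
    ((shiftHom p w m c * modelPerm p w τ) ^ r) (Sum.inr k) = Sum.inr ((τ ^ r) k) := by
  rw [(shiftHom_comm c τ).mul_pow, ← map_pow, modelPerm_pow, Perm.mul_apply]
  rfl

/-- The orbit type of the model. -/
theorem otype_model [NeZero p] (τ : Perm (Fin m)) :
    otype (shiftHom p w m (unitShift p w) * modelPerm p w τ) =
      Multiset.replicate w p + otype τ := by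
  classical
  set g := shiftHom p w m (unitShift p w) * modelPerm p w τ with hg
  have hl : ∀ i j, orb g (Sum.inl (i, j)) =
      (univ : Finset (ZMod p)).map ⟨fun a => Sum.inl (i, a), fun a b h => by simpa using h⟩ := by
    intro i j
    ext z
    rw [mem_orb]
    simp only [Finset.mem_map, mem_univ, true_and, Function.Embedding.coeFn_mk]
    constructor
    · intro h
      obtain ⟨r, hr⟩ := h.exists_nat_pow_eq
      rw [shift_mul_model_inl] at hr
      exact ⟨_, hr⟩
    · rintro ⟨a, rfl⟩
      refine ⟨((a - j).val : ℤ), ?_⟩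
      rw [zpow_natCast, shift_mul_model_inl]
      simp [unitShift, nsmul_eq_mul]
      rfl
  have hr : ∀ k, orb g (Sum.inr k) = (orb τ k).map Function.Embedding.inr := by
    intro k
    ext z
    rw [mem_orb]
    simp only [Finset.mem_map, mem_orb, Function.Embedding.inr_apply]
    constructor
    · intro h
      obtain ⟨r, hr⟩ := h.exists_nat_pow_eq
      rw [shift_mul_model_inr] at hr
      exact ⟨_, ⟨(r : ℤ), by rw [zpow_natCast]⟩, hr⟩
    · rintro ⟨a, ha, rfl⟩
      obtain ⟨r, rfl⟩ := ha.exists_nat_pow_eq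
      exact ⟨(r : ℤ), by rw [zpow_natCast, shift_mul_model_inr]⟩
  set L : Fin w ↪ Finset (Pts p w m) := ⟨fun i => orb g (Sum.inl (i, 0)), fun a b h => by
    have := self_mem_orb g (Sum.inl (a, (0 : ZMod p)))
    rw [show orb g (Sum.inl (a, (0 : ZMod p))) = orb g (Sum.inl (b, 0)) from h, hl] at this
    simp only [Finset.mem_map, mem_univ, true_and, Function.Embedding.coeFn_mk] at this
    obtain ⟨_, e⟩ := this
    change Sum.inl _ = Sum.inl _ at e
    exact (congrArg Prod.fst (Sum.inl.inj e)).symm⟩ with hL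
  set E : Finset (Fin m) ↪ Finset (Pts p w m) := (mapEmbedding Function.Embedding.inr).toEmbedding
    with hE
  have hdis : Disjoint (univ.map L) ((univ.image (orb τ)).map E) := by
    rw [disjoint_left]
    intro O h1 h2
    obtain ⟨i, -, rfl⟩ := Finset.mem_map.mp h1
    obtain ⟨S, -, hS⟩ := Finset.mem_map.mp h2
    have := self_mem_orb g (Sum.inl (i, (0 : ZMod p)))
    rw [show orb g (Sum.inl (i, (0 : ZMod p))) = L i from rfl, ← hS] at this
    simp [hE] at this
  have himg : univ.image (orb g) = (univ.map L).disjUnion ((univ.image (orb τ)).map E) hdis := by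
    ext O
    simp only [mem_image, mem_univ, true_and, mem_disjUnion, Finset.mem_map]
    constructor
    · rintro ⟨⟨i, j⟩ | k, rfl⟩
      · exact Or.inl ⟨i, by simp [hL, hl]⟩
      · exact Or.inr ⟨orb τ k, ⟨k, rfl⟩, by simp [hE, hr]⟩
    · rintro (⟨i, rfl⟩ | ⟨_, ⟨k, rfl⟩, rfl⟩)
      · exact ⟨Sum.inl (i, 0), rfl⟩
      · exact ⟨Sum.inr k, by simp [hE, hr]⟩
  rw [otype, himg]
  change Multiset.map Finset.card ((univ.map L).val + ((univ.image (orb τ)).map E).val) = _
  rw [Multiset.map_add, Finset.map_val, Finset.map_val, Multiset.map_map, Multiset.map_map]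
  congr 1
  · refine Eq.trans (Multiset.map_congr rfl (g := fun _ => p) fun i _ => ?_)
      ((Multiset.map_const' _ _).trans ?_)
    · show (L i).card = p
      simp [hL, hl, ZMod.card]
    · simp
  · exact Multiset.map_congr rfl fun S _ => by simp [hE]

/-- The structure of an element commuting with the product of all the cycles. -/
theorem commute_structure [Fact p.Prime] {h : Perm (Pts p w m)}
    (hh : Commute h (shiftHom p w m (unitShift p w))) :
    ∃ (π : Perm (Fin w)) (d : Fin w → ZMod p),
      (∀ i j, h (Sum.inl (i, j)) = Sum.inl (π i, j + d i)) ∧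
      ∀ k, ∃ k', h (Sum.inr k) = Sum.inr k' := by
  set x := shiftHom p w m (unitShift p w) with hx
  have hxl : ∀ i j, x (Sum.inl (i, j)) = Sum.inl (i, 1 + j) := fun i j => rfl
  have hxr : ∀ k, x (Sum.inr k) = Sum.inr k := fun k => rfl
  have hcomm : ∀ a, h (x a) = x (h a) := fun a => congrFun (congrArg DFunLike.coe hh.eq) a
  have hmoved : ∀ a, x a = a ↔ ∃ k, a = Sum.inr k := by
    intro a
    rcases a with ⟨i, j⟩ | k
    · simp [hxl]
    · simp [hxr]
  have hl : ∀ i, ∃ d : Fin w × ZMod p, h (Sum.inl (i, 0)) = Sum.inl d := by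
    intro i
    rcases e : h (Sum.inl (i, (0 : ZMod p))) with d | k
    · exact ⟨d, rfl⟩
    · exfalso
      have h1 := hcomm (Sum.inl (i, 0))
      rw [e, hxr, ← e] at h1
      obtain ⟨k', hk'⟩ := (hmoved _).mp (h.injective h1)
      exact Sum.inl_ne_inr hk'
  choose d hd using hl
  have hj : ∀ (r : ℕ) (i : Fin w), h (Sum.inl (i, (r : ZMod p))) =
      Sum.inl ((d i).1, (r : ZMod p) + (d i).2) := by
    intro r
    induction r with
    | zero => intro i; simp [hd]
    | succ r ih =>
      intro i
      rw [show ((r + 1 : ℕ) : ZMod p) = 1 + (r : ZMod p) by push_cast; ring, ← hxl, hcomm, ih, hxl,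
        add_assoc]
  have hj' : ∀ i j, h (Sum.inl (i, j)) = Sum.inl ((d i).1, j + (d i).2) := fun i j => by
    have := hj j.val i
    simpa using this
  have hr : ∀ k, ∃ k', h (Sum.inr k) = Sum.inr k' := by
    intro k
    refine (hmoved _).mp ?_
    rw [← hcomm, hxr]
  have hπ : Function.Bijective fun i => (d i).1 := by
    refine Finite.injective_iff_bijective.mp fun a b hab => ?_
    have e1 := hj' a 0
    have e2 := hj' b ((d a).2 - (d b).2)
    rw [zero_add] at e1
    rw [sub_add_cancel, ← hab, ← e1] at e2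
    have := h.injective e2
    simp only [Sum.inl.injEq, Prod.mk.injEq] at this
    exact this.1.symm
  exact ⟨Equiv.ofBijective _ hπ, fun i => (d i).2, hj', hr⟩

/-- The blocks of translations are normal in the centralizer of their product. -/
theorem shift_normal [Fact p.Prime] {h : Perm (Pts p w m)}
    (hh : Commute h (shiftHom p w m (unitShift p w))) (c : Fin w → Multiplicative (ZMod p)) :
    ∃ c', h * shiftHom p w m c * h⁻¹ = shiftHom p w m c' := by
  obtain ⟨π, d, hj', hr⟩ := commute_structure hh
  refine ⟨fun i => c (π.symm i), ?_⟩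
  rw [mul_inv_eq_iff_eq_mul]
  ext a
  rcases a with ⟨i, j⟩ | k
  · rw [Perm.mul_apply, Perm.mul_apply, shiftHom_inl, hj', hj', shiftHom_inl]
    rw [π.symm_apply_apply, add_assoc]
  · obtain ⟨k', hk'⟩ := hr k
    rw [Perm.mul_apply, Perm.mul_apply, shiftHom_inr, hk', shiftHom_inr]

/-- An element of prescribed type `replicate w p + otype τ` with the group of its `p`-cycles. -/
theorem exists_model [Fact p.Prime] {n : ℕ} (hw : 0 < w) (hn : n = p * w + m) (τ : Perm (Fin m))
    (hτ : ¬ p ∣ orderOf τ) :
    ∃ (x y : Perm (Fin n)) (V : Subgroup (Perm (Fin n))), orderOf x = p ∧ ¬ p ∣ orderOf y ∧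
      Commute x y ∧ otype (x * y) = Multiset.replicate w p + otype τ ∧
      V ≤ Subgroup.centralizer {x} ∧
      (V.subgroupOf (Subgroup.centralizer {x})).Normal ∧
      (∀ a ∈ V, a ^ p = 1) ∧ (∀ a ∈ V, ∀ b ∈ V, a * b = b * a) ∧ Nat.card V = p ^ w := by
  classical
  haveI : NeZero p := ⟨(Fact.out : p.Prime).ne_zero⟩
  have hcard : Fintype.card (Pts p w m) = Fintype.card (Fin n) := by
    simp [ZMod.card, hn, mul_comm]
  let e := Fintype.equivOfCardEq hcard
  let f : Perm (Pts p w m) ≃* Perm (Fin n) := e.permCongrHom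
  let F : (Fin w → Multiplicative (ZMod p)) →* Perm (Fin n) :=
    f.toMonoidHom.comp (shiftHom p w m)
  have hF : Function.Injective F := f.injective.comp shiftHom_injective
  have hpow : ∀ c : Fin w → Multiplicative (ZMod p), c ^ p = 1 := fun c => by
    funext i
    apply Multiplicative.toAdd.injective
    simp [toAdd_pow]
  refine ⟨F (unitShift p w), f (modelPerm p w τ), F.range, ?_, ?_, ?_, ?_, ?_, ⟨?_⟩, ?_, ?_, ?_⟩
  · refine orderOf_eq_prime (by rw [← map_pow, hpow, map_one]) fun h => ?_
    have := congrFun ((map_eq_one_iff F hF).mp h) ⟨0, hw⟩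
    simp [unitShift] at this
  · rw [MulEquiv.orderOf_eq f]
    intro hd
    refine hτ (hd.trans ?_)
    exact orderOf_dvd_of_pow_eq_one (by
      rw [modelPerm_pow, pow_orderOf_eq_one]; ext a; rcases a with a | k <;> simp [modelPerm])
  · exact (shiftHom_comm _ τ).map f.toMonoidHom
  · show otype (f (shiftHom p w m (unitShift p w)) * f (modelPerm p w τ)) = _
    rw [← map_mul]
    show otype (e.permCongr _) = _
    rw [otype_permCongr, otype_model]
  · rintro _ ⟨c, rfl⟩
    rw [Subgroup.mem_centralizer_singleton_iff, ← map_mul, ← map_mul, mul_comm]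
  · rintro ⟨v, hvC⟩ hv ⟨h, hh⟩
    rw [Subgroup.mem_subgroupOf] at hv ⊢
    obtain ⟨c, hc⟩ := hv
    simp only at hc
    subst hc
    have hh' : Commute (f.symm h) (shiftHom p w m (unitShift p w)) := by
      have := (Subgroup.mem_centralizer_singleton_iff.mp hh : h * F (unitShift p w) = F _ * h)
      refine f.injective ?_
      change h * f _ = f _ * h at this
      simpa using this
    obtain ⟨c', hc'⟩ := shift_normal hh' c
    refine ⟨c', ?_⟩
    show f (shiftHom p w m c') = h * f (shiftHom p w m c) * h⁻¹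
    rw [← hc']
    simp
  · rintro _ ⟨c, rfl⟩
    rw [← map_pow, hpow, map_one]
  · rintro _ ⟨c, rfl⟩ _ ⟨d, rfl⟩
    rw [← map_mul, ← map_mul, mul_comm]
  · rw [← Nat.card_congr (F.ofInjective hF).toEquiv, Nat.card_fun,
      Nat.card_congr Multiplicative.toAdd, Nat.card_zmod, Nat.card_fin]

end Cfsg.Agent.Lib.SymChar81
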