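import Cfsg.Agent.Lib.SymChar81.Descend
import Cfsg.Agent.Lib.SymChar81.Model
import Cfsg.Agent.Lib.BlockSize.CountOne
import Cfsg.Agent.Lib.Blocks.Induced
import Cfsg.Prelude.Def_CaseTheorems

/-!
# The defect groups of a block of a symmetric group contain `w` commuting `p`-cycles
-/

set_option linter.unusedSectionVars false

namespace Cfsg.Agent.Lib.SymChar81

open Finset
open Cfsg.Agent.Lib.Blocks

attribute [local instance] Ideal.Quotient.field

variable {p : ℕ} [Fact p.Prime] {M : Ideal Cfsg.AlgInt} {G : Type} [Group G] [Finite G]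

/-- A non-zero value of a character of `B` at `x * y` gives a block of the centralizer of `x`
inducing `B`. -/
theorem exists_block_inducing (hM : Cfsg.IsPModular p M) {B : Set (Cfsg.IrrCharacter G)}
    (hB : Cfsg.IsPBlock M B) {χ : Cfsg.IrrCharacter G} (hχ : χ ∈ B) {x y : G} {k : ℕ}
    (hk : orderOf x = p ^ k) (hy : ¬ p ∣ orderOf y) (hxy : Commute x y)
    (hne : (χ : G → ℂ) (x * y) ≠ 0) :
    ∃ b : Set (Cfsg.IrrCharacter (Subgroup.centralizer ({x} : Set G))),
      Cfsg.IsInducedBlock M (Subgroup.centralizer ({x} : Set G)) b B := by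
  classical
  haveI := hM.2.1
  haveI := charP_residue hM
  haveI := Fintype.ofFinite G
  haveI := Fintype.ofFinite (Cfsg.IrrCharacter (Subgroup.centralizer ({x} : Set G)))
  haveI := Fintype.ofFinite (Subgroup.centralizer ({x} : Set G))
  by_contra hno
  push Not at hno
  set H := Subgroup.centralizer ({x} : Set G) with hH
  have hxP : IsPGroup p (Subgroup.zpowers x) :=
    IsPGroup.of_card (n := k) (by rw [Nat.card_zpowers, hk])
  have hxH : x ∈ H := Subgroup.mem_centralizer_singleton_iff.mpr rfl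
  have hPH : Subgroup.zpowers x ≤ H := Subgroup.zpowers_le.mpr hxH
  have hC : Subgroup.centralizer (Subgroup.zpowers x : Set G) ≤ H :=
    Subgroup.centralizer_le (Set.singleton_subset_iff.mpr (Subgroup.mem_zpowers x))
  have hCge : H ≤ Subgroup.centralizer (Subgroup.zpowers x : Set G) := by
    intro z hz
    refine Subgroup.mem_centralizer_iff.mpr ?_
    rintro _ ⟨i, rfl⟩
    exact ((show Commute z x from Subgroup.mem_centralizer_singleton_iff.mp hz).zpow_right i).eq.symm
  have hN : H ≤ Subgroup.normalizer (Subgroup.zpowers x : Set G) :=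
    hCge.trans (Subgroup.centralizer_le_normalizer _)
  have h0 : ∀ b : Set (Cfsg.IrrCharacter H), Cfsg.IsPBlock M b →
      ∑ z : H, Cfsg.blockCoeff b z * (χ : G → ℂ) ((z : G) * (x * y)) = 0 := by
    intro b hb
    rw [← finsum_eq_sum_of_fintype]
    refine finsum_blockCoeff_mul_eq_zero hM hb hk hy hxy
      (Subgroup.mem_centralizer_singleton_iff.mpr hxy.eq.symm) le_rfl χ fun ξ hξ => ?_
    obtain ⟨B', hind⟩ := inducedBlockDefined_of_le_normalizer hM hxP hPH hC hN hb
    obtain ⟨ψ, hψ⟩ := isPBlock_nonempty hind.2.1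
    rw [inducedBar_eq_omegaBar hind hξ hψ, omegaBar_blockIdemBar, if_neg]
    intro hmem
    refine hno b ?_
    rw [isPBlock_eq_blockOf hB hχ, ← blockOf_eq_of_mem hmem, ← isPBlock_eq_blockOf hind.2.1 hψ]
    exact hind
  refine hne ?_
  set Bs := (univ : Finset (Cfsg.IrrCharacter H)).image
    (fun θ : Cfsg.IrrCharacter H => Cfsg.blockOf M (θ : H → ℂ)) with hBs
  have hsum : ∀ z : H, ∑ b ∈ Bs, Cfsg.blockCoeff b z = if z = 1 then 1 else 0 := by
    intro z
    have h1 := coeff_idem (Set.univ : Set (Cfsg.IrrCharacter H)) z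
    rw [idem_univ] at h1
    have h2 : ((1 : MonoidAlgebra ℂ H)).coeff z = if z = 1 then 1 else 0 := by
      rw [MonoidAlgebra.one_def, MonoidAlgebra.coeff_single, Finsupp.single_apply]
      exact if_congr eq_comm rfl rfl
    rw [← h2, show (1 : MonoidAlgebra ℂ H) = ((1 : Subalgebra.center ℂ (MonoidAlgebra ℂ H)) :
      MonoidAlgebra ℂ H) from rfl, h1, blockCoeff_eq_sum,
      sum_congr rfl fun b _ => blockCoeff_eq_sum b z, ← mul_sum]
    congr 1
    rw [← sum_fiberwise_of_maps_to (g := fun θ : Cfsg.IrrCharacter H => Cfsg.blockOf M (θ : H → ℂ))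
      (t := Bs) (fun θ _ => mem_image_of_mem _ (mem_univ θ))]
    refine sum_congr rfl fun b hb => sum_congr ?_ fun _ _ => rfl
    obtain ⟨θ₀, -, rfl⟩ := mem_image.mp hb
    ext θ
    simp only [mem_filter, mem_univ, true_and, Set.mem_univ]
    exact ⟨fun h => blockOf_eq_of_mem h, fun h => h ▸ mem_blockOf_self θ⟩
  have h1 : ∑ b ∈ Bs, ∑ z : H, Cfsg.blockCoeff b z * (χ : G → ℂ) ((z : G) * (x * y)) = 0 :=
    sum_eq_zero fun b hb => by
      obtain ⟨θ, -, rfl⟩ := mem_image.mp hb
      exact h0 _ (isPBlock_blockOf θ)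
  rw [sum_comm] at h1
  simp only [← sum_mul, hsum, ite_mul, one_mul, zero_mul, sum_ite_eq', mem_univ, if_true] at h1
  simpa using h1

/-- A normal `p`-subgroup lies in every defect group. -/
theorem normal_le_defect (hM : Cfsg.IsPModular p M) {H : Type} [Group H] [Finite H]
    {V : Subgroup H} [V.Normal] (hV : IsPGroup p V) {b : Set (Cfsg.IrrCharacter H)}
    (hb : Cfsg.IsPBlock M b) {D : Subgroup H} (hD : Cfsg.IsDefectGroup p M b D) : V ≤ D := by
  haveI := hM.2.1
  haveI := charP_residue hM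
  obtain ⟨g, hg, S, rfl⟩ := hD
  refine normal_le_of_le_centralizer hV ?_ S
  have h := ((BrauerPairs.Bridge.isDefectClass_iff hb g).mp hg).2
  have hC : g ∈ Subgroup.centralizer (V : Set H) := by
    by_contra hn
    exact h (BrauerMap.Nilpotent.algHom_classSum_eq_zero hV hn _)
  exact fun u hu => Subgroup.mem_centralizer_singleton_iff.mpr
    (Subgroup.mem_centralizer_iff.mp hC u hu)

/-- A normal `p`-subgroup of the centralizer of the `p`-part of an element with a non-zero value
fuses into every defect group. -/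
theorem exists_conj_le_defect (hM : Cfsg.IsPModular p M) {B : Set (Cfsg.IrrCharacter G)}
    (hB : Cfsg.IsPBlock M B) {χ : Cfsg.IrrCharacter G} (hχ : χ ∈ B) {x y : G} {k : ℕ}
    (hk : orderOf x = p ^ k) (hy : ¬ p ∣ orderOf y) (hxy : Commute x y)
    (hne : (χ : G → ℂ) (x * y) ≠ 0) {V : Subgroup G} (hV : IsPGroup p V)
    (hVC : V ≤ Subgroup.centralizer ({x} : Set G))
    [(V.subgroupOf (Subgroup.centralizer ({x} : Set G))).Normal]
    {D : Subgroup G} (hD : Cfsg.IsDefectGroup p M B D) :
    ∃ g : G, V.map (MulAut.conj g).toMonoidHom ≤ D := by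
  haveI := hM.2.1
  obtain ⟨b, hind⟩ := exists_block_inducing hM hB hχ hk hy hxy hne
  obtain ⟨Db, hDb⟩ := exists_isDefectGroup (p := p) hind.1
  have hle := normal_le_defect hM
    (hV.of_equiv (Subgroup.subgroupOfEquivOfLe hVC).symm) hind.1 hDb
  obtain ⟨E, hE, hDE⟩ := exists_defectGroup_ge_of_induced hM hind hDb
  obtain ⟨g, rfl⟩ := isDefectGroup_conj hM hB hE hD
  refine ⟨g, Subgroup.map_mono fun v hv => hDE ⟨⟨v, hVC hv⟩, hle ?_, rfl⟩⟩
  exact hv

/-- The sectional rank bounds elementary abelian subgroups. -/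
theorem le_of_elementary {s w : ℕ} {D V : Subgroup G} (hs : Cfsg.SectionalPRankLE p s D)
    (hVD : V ≤ D) (h1 : ∀ a ∈ V, a ^ p = 1) (h2 : ∀ a ∈ V, ∀ b ∈ V, a * b = b * a)
    (hcard : Nat.card V = p ^ w) : w ≤ s := by
  let H := V.subgroupOf D
  have hcomm : ∀ a b : H ⧸ (⊥ : Subgroup H), a * b = b * a := by
    intro a b
    induction a using QuotientGroup.induction_on with
    | _ a =>
      induction b using QuotientGroup.induction_on with
      | _ b =>
        rw [← QuotientGroup.mk_mul, ← QuotientGroup.mk_mul]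
        exact congrArg _ (Subtype.ext (Subtype.ext (h2 _ a.2 _ b.2)))
  have hpow : ∀ a : H ⧸ (⊥ : Subgroup H), a ^ p = 1 := by
    intro a
    induction a using QuotientGroup.induction_on with
    | _ a =>
      rw [← QuotientGroup.mk_pow,
        show a ^ p = 1 from Subtype.ext (Subtype.ext (h1 _ a.2)), QuotientGroup.mk_one]
  have h := hs H (⊥ : Subgroup H) ⊤ ⟨⟨fun a b => Subtype.ext (hcomm a.1 b.1)⟩⟩ fun a _ => hpow a
  rw [Subgroup.card_top, Nat.card_congr (QuotientGroup.quotientBot (G := H)).toEquiv,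
    Nat.card_congr (Subgroup.subgroupOfEquivOfLe hVD).toEquiv, hcard] at h
  exact (Nat.pow_le_pow_iff_right (Fact.out : p.Prime).one_lt).mp h

end Cfsg.Agent.Lib.SymChar81
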