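import Cfsg.Agent.Lib.SymChar81.Core
import Mathlib.Combinatorics.Enumerative.Partition.Basic
import Mathlib.Data.Finset.Sort
import Mathlib.Tactic.IntervalCases

/-!
# Sharper counts of settled bead sets for `p = 2`
-/

set_option linter.unusedSectionVars false

namespace Cfsg.Agent.Lib.SymChar81

open Finset

/-- The multiset of gap numbers on the runner `r`. -/
def gapType (p r : ℕ) (B : Finset ℕ) : Multiset ℕ :=
  (runner p r B).val.map fun x => (gaps p B x).card

theorem gapType_sum (p r : ℕ) (B : Finset ℕ) : (gapType p r B).sum = wr p r B := rfl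

theorem gaps_mono {p : ℕ} {B : Finset ℕ} {x y : ℕ} (h : x ≤ y) (hm : x % p = y % p) :
    (gaps p B x).card ≤ (gaps p B y).card := by
  refine card_le_card fun z hz => ?_
  simp only [gaps, mem_filter, mem_range] at hz ⊢
  exact ⟨by omega, hz.2.1.trans hm, hz.2.2⟩

/-- The position of a bead from its index and its gap number. -/
theorem below_add_gaps {p r : ℕ} (hp : 0 < p) (B : Finset ℕ) {x : ℕ} (hx : x ∈ runner p r B) :
    x = r + p * (((runner p r B).filter (· < x)).card + (gaps p B x).card) := by
  have hxr : x % p = r := (mem_filter.mp hx).2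
  have hsplit : ((runner p r B).filter (· < x)).card + (gaps p B x).card = x / p := by
    rw [← card_runner_range hp x,
      ← card_filter_add_card_filter_not (s := (range x).filter fun y => y % p = x % p) (· ∈ B)]
    congr 1
    · congr 1
      ext y
      simp only [runner, mem_filter, mem_range, hxr]
      tauto
    · congr 1
      ext y
      simp only [gaps, mem_filter, mem_range]
      tauto
  rw [hsplit, ← hxr, Nat.mod_add_div]

/-- A runner is determined by its gap type. -/
theorem runner_eq_of_gapType {p r : ℕ} (hp : 0 < p) {B B' : Finset ℕ}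
    (h : gapType p r B = gapType p r B') : runner p r B = runner p r B' := by
  set m := (runner p r B').card
  have hcard : (runner p r B).card = m := by
    have := congrArg Multiset.card h
    simpa [gapType] using this
  have key : ∀ (C : Finset ℕ) (hC : (runner p r C).card = m),
      gapType p r C = ↑(List.ofFn fun i : Fin m =>
        (gaps p C ((runner p r C).orderEmbOfFin hC i)).card) ∧
      (List.ofFn fun i : Fin m =>
        (gaps p C ((runner p r C).orderEmbOfFin hC i)).card).Pairwise (· ≤ ·) ∧
      ∀ i, (runner p r C).orderEmbOfFin hC i =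
        r + p * ((i : ℕ) + (gaps p C ((runner p r C).orderEmbOfFin hC i)).card) := by
    intro C hC
    set f := (runner p r C).orderEmbOfFin hC with hf
    have himg : (univ : Finset (Fin m)).image f = runner p r C := image_orderEmbOfFin_univ _ _
    have hmod : ∀ i, f i % p = r := fun i =>
      (mem_filter.mp (orderEmbOfFin_mem (runner p r C) hC i)).2
    refine ⟨?_, ?_, fun i => ?_⟩
    · rw [gapType]
      conv_lhs => rw [← himg]
      rw [image_val_of_injOn f.injective.injOn, Multiset.map_map, List.ofFn_eq_map, Fin.univ_def]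
      rfl
    · rw [List.pairwise_ofFn]
      exact fun i j hij => gaps_mono (f.monotone hij.le) ((hmod i).trans (hmod j).symm)
    · have h1 := below_add_gaps hp C (orderEmbOfFin_mem (runner p r C) hC i)
      rw [← hf] at h1
      have h2 : ((runner p r C).filter (· < f i)).card = i := by
        conv_lhs => rw [← himg]
        rw [filter_image, card_image_of_injective _ f.injective]
        simp only [OrderEmbedding.lt_iff_lt]
        rw [Finset.filter_gt_eq_Iio, Fin.card_Iio]
      rwa [h2] at h1
  obtain ⟨e1, p1, q1⟩ := key B hcard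
  obtain ⟨e2, p2, q2⟩ := key B' rfl
  rw [e1, e2, Multiset.coe_eq_coe] at h
  have hl := h.eq_of_pairwise (fun a b _ _ h1 h2 => le_antisymm h1 h2) p1 p2
  have hg := List.ofFn_inj.mp hl
  rw [← image_orderEmbOfFin_univ (runner p r B) hcard, ← image_orderEmbOfFin_univ (runner p r B') rfl]
  refine image_congr fun i _ => ?_
  have h1 := congrFun hg i
  rw [q1 i, q2 i, h1]

/-- Settled bead sets on two runners inject into the partitions of `w`. -/
theorem fam_two_le_partition (R : ℕ → ℕ) (w : ℕ) :
    ∃ F : Finset (Finset ℕ), Fam 2 R w ⊆ ↑F ∧ F.card ≤ Fintype.card (Nat.Partition w) := by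
  classical
  have hsum : ∀ B : Fam 2 R w, (gapType 2 1 B.1).sum = w := by
    rintro ⟨B, -, h0, hw⟩
    rw [gapType_sum]
    simp only [wt, sum_range_succ, range_zero, sum_empty, zero_add] at hw
    show wr 2 1 B = w
    omega
  let Φ : Fam 2 R w → Nat.Partition w := fun B => Nat.Partition.ofSums w _ (hsum B)
  have hΦ : Function.Injective Φ := by
    rintro ⟨B, hR, h0, hw⟩ ⟨B', hR', h0', hw'⟩ h
    have hparts : (gapType 2 1 B).filter (· ≠ 0) = (gapType 2 1 B').filter (· ≠ 0) :=
      congrArg Nat.Partition.parts h
    have hc : ∀ r < 2, (gapType 2 r B).card = (gapType 2 r B').card := fun r hr => by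
      simp only [gapType, Multiset.card_map, ← Finset.card_def, hR r hr, hR' r hr]
    have h1 : gapType 2 1 B = gapType 2 1 B' := by
      rw [← Multiset.filter_add_not (fun a => a ≠ 0) (gapType 2 1 B),
        ← Multiset.filter_add_not (fun a => a ≠ 0) (gapType 2 1 B'), hparts]
      congr 1
      simp only [ne_eq, not_not, Multiset.filter_eq']
      congr 1
      have e1 := congrArg Multiset.card (Multiset.filter_add_not (fun a => a ≠ 0) (gapType 2 1 B))
      have e2 := congrArg Multiset.card (Multiset.filter_add_not (fun a => a ≠ 0) (gapType 2 1 B'))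
      simp only [ne_eq, not_not, Multiset.filter_eq', Multiset.card_add,
        Multiset.card_replicate] at e1 e2
      have := congrArg Multiset.card hparts
      simp only [ne_eq] at this
      have := hc 1 (by omega)
      omega
    have hzero : ∀ C : Finset ℕ, wr 2 0 C = 0 →
        gapType 2 0 C = Multiset.replicate (gapType 2 0 C).card 0 := by
      intro C hC
      refine Multiset.eq_replicate.mpr ⟨rfl, fun a ha => ?_⟩
      exact (Multiset.sum_eq_zero_iff.mp ((gapType_sum 2 0 C).trans hC)) a ha
    have h2 : gapType 2 0 B = gapType 2 0 B' := by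
      rw [hzero B h0, hzero B' h0', hc 0 (by omega)]
    have r0 := runner_eq_of_gapType (by omega) h2
    have r1 := runner_eq_of_gapType (by omega) h1
    refine Subtype.ext (Finset.ext fun x => ?_)
    rcases Nat.mod_two_eq_zero_or_one x with hx | hx
    · have := Finset.ext_iff.mp r0 x
      simpa [runner, hx] using this
    · have := Finset.ext_iff.mp r1 x
      simpa [runner, hx] using this
  haveI : Finite (Fam 2 R w) := Finite.of_injective Φ hΦ
  haveI := Fintype.ofFinite (Fam 2 R w)
  refine ⟨(univ : Finset (Fam 2 R w)).image Subtype.val, fun B hB => ?_,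
    card_image_le.trans (Fintype.card_le_of_injective Φ hΦ)⟩
  exact mem_image.mpr ⟨⟨B, hB⟩, mem_univ _, rfl⟩

theorem parts_counts {w : ℕ} (hw : w ≤ 4) (P : Nat.Partition w) :
    P.parts.count 1 + 2 * P.parts.count 2 + 3 * P.parts.count 3 + 4 * P.parts.count 4 = w ∧
      ∀ i, 4 < i → P.parts.count i = 0 := by
  have hle : ∀ i ∈ P.parts, 1 ≤ i ∧ i ≤ 4 := fun i hi =>
    ⟨P.parts_pos hi, (Multiset.le_sum_of_mem hi).trans (by rw [P.parts_sum]; exact hw)⟩
  refine ⟨?_, fun i hi => Multiset.count_eq_zero.mpr fun h => by have := hle i h; omega⟩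
  have h := Finset.sum_multiset_count_of_subset P.parts (Finset.Icc 1 4) fun i hi =>
    mem_Icc.mpr (hle i (Multiset.mem_toFinset.mp hi))
  rw [P.parts_sum] at h
  conv_rhs => rw [h]
  rw [show Finset.Icc 1 4 = ({1, 2, 3, 4} : Finset ℕ) from rfl]
  simp only [smul_eq_mul, mem_insert, mem_singleton, OfNat.one_ne_ofNat,
    OfNat.ofNat_eq_ofNat, Nat.succ_ne_self, not_false_eq_true, sum_insert, sum_singleton,
    or_self, Nat.reduceEqDiff]
  ring

/-- The code of a small partition. -/
def partCode {w : ℕ} (P : Nat.Partition w) : ℕ × ℕ × ℕ :=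
  (P.parts.count 2, P.parts.count 3, P.parts.count 4)

theorem card_partition_le {w : ℕ} (hw : w ≤ 4) {T : Finset (ℕ × ℕ × ℕ)}
    (hT : ∀ a b c, 2 * a + 3 * b + 4 * c ≤ w → (a, b, c) ∈ T) :
    Fintype.card (Nat.Partition w) ≤ T.card := by
  refine card_le_card_of_injOn (s := univ) partCode (fun P _ => ?_) fun P _ Q _ h => ?_
  · have := (parts_counts hw P).1
    exact hT _ _ _ (by omega)
  · simp only [partCode, Prod.mk.injEq] at h
    obtain ⟨h2, h3, h4⟩ := h
    obtain ⟨eP, zP⟩ := parts_counts hw P
    obtain ⟨eQ, zQ⟩ := parts_counts hw Q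
    refine Nat.Partition.ext (Multiset.ext.mpr fun i => ?_)
    rcases Nat.lt_or_ge 4 i with hi | hi
    · rw [zP i hi, zQ i hi]
    · interval_cases i
      · rw [Multiset.count_eq_zero.mpr fun h => (P.parts_pos h).false,
          Multiset.count_eq_zero.mpr fun h => (Q.parts_pos h).false]
      · omega
      · exact h2
      · exact h3
      · exact h4

theorem fam_two_three (R : ℕ → ℕ) :
    ∃ F : Finset (Finset ℕ), Fam 2 R 3 ⊆ ↑F ∧ F.card ≤ 3 := by
  obtain ⟨F, h1, h2⟩ := fam_two_le_partition R 3
  exact ⟨F, h1, h2.trans (card_partition_le (by omega)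
    (T := {(0, 0, 0), (1, 0, 0), (0, 1, 0)}) fun a b c h => by
      simp only [mem_insert, mem_singleton, Prod.mk.injEq]; omega)⟩

theorem fam_two_large (R : ℕ → ℕ) : ∀ v : ℕ,
    ∃ F : Finset (Finset ℕ), Fam 2 R (v + 4) ⊆ ↑F ∧ F.card ≤ 5 * 2 ^ v := by
  intro v
  induction v with
  | zero =>
    obtain ⟨F, h1, h2⟩ := fam_two_le_partition R 4
    exact ⟨F, h1, h2.trans ((card_partition_le (by omega)
      (T := {(0, 0, 0), (1, 0, 0), (2, 0, 0), (0, 1, 0), (0, 0, 1)}) fun a b c h => by
        simp only [mem_insert, mem_singleton, Prod.mk.injEq]; omega).trans (by simp))⟩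
  | succ v ih =>
    obtain ⟨F, hF, hcard⟩ := ih
    refine ⟨F.biUnion fun C => (cands 2 (v + 4) C).image fun y => insert (y + 2) (C.erase y),
      ?_, ?_⟩
    · intro B hB
      obtain ⟨y, hy, e⟩ := child hB
      exact mem_biUnion.mpr ⟨_, hF (parent_mem hB).1, mem_image.mpr ⟨y, hy, e.symm⟩⟩
    · refine (card_biUnion_le_card_mul _ _ 2 fun C _ => card_image_le.trans
        ((card_cands 2 (v + 4) (by omega) C).trans (le_of_eq (by simp)))).trans ?_
      rw [pow_succ, ← mul_assoc]
      exact Nat.mul_le_mul_right _ hcard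

end Cfsg.Agent.Lib.SymChar81
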