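import Cfsg.Agent.Lib.SymChar81.Model
import Mathlib.GroupTheory.SpecificGroups.Alternating

/-!
# The regular four group normalised by the centralizer of a double transposition
-/

set_option linter.unusedSectionVars false

namespace Cfsg.Agent.Lib.SymChar81

open Equiv Finset

variable {m : ℕ}

/-- The four points permuted regularly. -/
def kleinPerm (a b : ZMod 2) : Perm (Fin 2 × ZMod 2) :=
  Equiv.prodCongr (Equiv.addLeft (show Fin 2 from a)) (Equiv.addLeft b)

/-- The regular four group. -/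
def kleinHom (m : ℕ) : Multiplicative (ZMod 2) × Multiplicative (ZMod 2) →* Perm (Pts 2 2 m) where
  toFun c := sumCongr (kleinPerm c.1.toAdd c.2.toAdd) (Equiv.refl _)
  map_one' := by
    ext a; rcases a with ⟨i, j⟩ | k
    · simp [kleinPerm]
      exact zero_add i
    · simp
  map_mul' c d := by
    ext a; rcases a with ⟨i, j⟩ | k
    · simp [kleinPerm, Perm.mul_apply, add_assoc]
      exact add_assoc (G := ZMod 2) c.1.toAdd d.1.toAdd i
    · simp [Perm.mul_apply]

theorem kleinHom_inl (c : Multiplicative (ZMod 2) × Multiplicative (ZMod 2)) (i : Fin 2)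
    (j : ZMod 2) : kleinHom m c (Sum.inl (i, j)) =
      Sum.inl ((show Fin 2 from c.1.toAdd) + i, c.2.toAdd + j) := rfl

theorem kleinHom_inr (c : Multiplicative (ZMod 2) × Multiplicative (ZMod 2)) (k : Fin m) :
    kleinHom m c (Sum.inr k) = Sum.inr k := rfl

theorem kleinHom_injective : Function.Injective (kleinHom m) := by
  intro c d h
  have := congrFun (congrArg DFunLike.coe h) (Sum.inl ((0 : Fin 2), (0 : ZMod 2)))
  rw [kleinHom_inl, kleinHom_inl] at this
  simp only [add_zero, Sum.inl.injEq, Prod.mk.injEq] at this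
  exact Prod.ext (Multiplicative.toAdd.injective
    (add_right_cancel (G := ZMod 2) this.1)) (Multiplicative.toAdd.injective this.2)

theorem sign_kleinPerm : ∀ a b : ZMod 2, Perm.sign (kleinPerm a b) = 1 := by
  decide

theorem sign_kleinHom (c : Multiplicative (ZMod 2) × Multiplicative (ZMod 2)) :
    Perm.sign (kleinHom m c) = 1 := by
  show Perm.sign (sumCongr _ _) = 1
  rw [Perm.sign_sumCongr, sign_kleinPerm]
  simp

theorem kleinHom_unit : kleinHom m (1, Multiplicative.ofAdd 1) = shiftHom 2 2 m (unitShift 2 2) := by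
  ext a; rcases a with ⟨i, j⟩ | k
  · rw [kleinHom_inl, shiftHom_inl]
    simp [unitShift]
    exact zero_add i
  · rw [kleinHom_inr, shiftHom_inr]

theorem klein_perm_eq : ∀ (π : Perm (Fin 2)) (a i : Fin 2), π (a + i) = a + π i := by decide

theorem klein_shift_eq : ∀ (d : Fin 2 → ZMod 2) (a i : Fin 2),
    d (a + i) = d i + (show ZMod 2 from a) * (d 0 + d 1) := by decide

/-- It is normalised by the centralizer of the double transposition. -/
theorem klein_normal {h : Perm (Pts 2 2 m)}
    (hh : Commute h (shiftHom 2 2 m (unitShift 2 2)))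
    (c : Multiplicative (ZMod 2) × Multiplicative (ZMod 2)) :
    ∃ c', h * kleinHom m c * h⁻¹ = kleinHom m c' := by
  haveI : Fact (Nat.Prime 2) := ⟨Nat.prime_two⟩
  obtain ⟨π, d, hl, hr⟩ := commute_structure hh
  refine ⟨(c.1, Multiplicative.ofAdd (c.2.toAdd + c.1.toAdd * (d 0 + d 1))), ?_⟩
  rw [mul_inv_eq_iff_eq_mul]
  ext a
  rcases a with ⟨i, j⟩ | k
  · rw [Perm.mul_apply, Perm.mul_apply, kleinHom_inl, hl, hl, kleinHom_inl, klein_perm_eq,
      klein_shift_eq d (show Fin 2 from c.1.toAdd) i]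
    congr 2
    rw [toAdd_ofAdd]
    show c.2.toAdd + j + (d i + c.1.toAdd * (d 0 + d 1)) =
      c.2.toAdd + c.1.toAdd * (d 0 + d 1) + (j + d i)
    ring
  · obtain ⟨k', hk'⟩ := hr k
    rw [Perm.mul_apply, Perm.mul_apply, kleinHom_inr, hk', kleinHom_inr]

/-- A double transposition with the four group. -/
theorem exists_klein {n : ℕ} (hn : n = 2 * 2 + m) (τ : Perm (Fin m)) (hτ : ¬ 2 ∣ orderOf τ) :
    ∃ (x y : Perm (Fin n)) (V : Subgroup (Perm (Fin n))), orderOf x = 2 ∧ ¬ 2 ∣ orderOf y ∧
      Commute x y ∧ otype (x * y) = Multiset.replicate 2 2 + otype τ ∧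
      V ≤ Subgroup.centralizer {x} ∧
      (V.subgroupOf (Subgroup.centralizer {x})).Normal ∧
      V ≤ alternatingGroup (Fin n) ∧
      (∀ a ∈ V, a ^ 2 = 1) ∧ (∀ a ∈ V, ∀ b ∈ V, a * b = b * a) ∧ Nat.card V = 2 ^ 2 := by
  classical
  have hcard : Fintype.card (Pts 2 2 m) = Fintype.card (Fin n) := by simp [hn]
  let e := Fintype.equivOfCardEq hcard
  let f : Perm (Pts 2 2 m) ≃* Perm (Fin n) := e.permCongrHom
  let F : Multiplicative (ZMod 2) × Multiplicative (ZMod 2) →* Perm (Fin n) :=
    f.toMonoidHom.comp (kleinHom m)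
  have hF : Function.Injective F := f.injective.comp kleinHom_injective
  have hsq : ∀ c : Multiplicative (ZMod 2), c ^ 2 = 1 := by decide
  have hpow : ∀ c : Multiplicative (ZMod 2) × Multiplicative (ZMod 2), c ^ 2 = 1 := fun c =>
    Prod.ext (by simp [hsq]) (by simp [hsq])
  refine ⟨F (1, Multiplicative.ofAdd 1), f (modelPerm 2 2 τ), F.range, ?_, ?_, ?_, ?_, ?_, ⟨?_⟩,
    ?_, ?_, ?_, ?_⟩
  · haveI : Fact (Nat.Prime 2) := ⟨Nat.prime_two⟩
    refine orderOf_eq_prime (by rw [← map_pow, hpow, map_one]) fun h => ?_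
    have := congrArg Prod.snd ((map_eq_one_iff F hF).mp h)
    simp at this
  · rw [MulEquiv.orderOf_eq f]
    intro hd
    refine hτ (hd.trans ?_)
    exact orderOf_dvd_of_pow_eq_one (by
      rw [modelPerm_pow, pow_orderOf_eq_one]; ext a; rcases a with a | k <;> simp [modelPerm])
  · show Commute (f (kleinHom m _)) (f _)
    rw [kleinHom_unit]
    exact (shiftHom_comm _ τ).map f.toMonoidHom
  · show otype (f (kleinHom m _) * f (modelPerm 2 2 τ)) = _
    rw [← map_mul, kleinHom_unit]
    show otype (e.permCongr _) = _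
    rw [otype_permCongr, otype_model]
  · rintro _ ⟨c, rfl⟩
    rw [Subgroup.mem_centralizer_singleton_iff, ← map_mul, ← map_mul, mul_comm]
  · rintro ⟨v, hvC⟩ hv ⟨h, hh⟩
    rw [Subgroup.mem_subgroupOf] at hv ⊢
    obtain ⟨c, hc⟩ := hv
    simp only at hc
    subst hc
    have hh' : Commute (f.symm h) (shiftHom 2 2 m (unitShift 2 2)) := by
      have := (Subgroup.mem_centralizer_singleton_iff.mp hh :
        h * F (1, Multiplicative.ofAdd 1) = F _ * h)
      refine f.injective ?_
      change h * f (kleinHom m _) = f (kleinHom m _) * h at this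
      rw [kleinHom_unit] at this
      simpa using this
    obtain ⟨c', hc'⟩ := klein_normal hh' c
    refine ⟨c', ?_⟩
    show f (kleinHom m c') = h * f (kleinHom m c) * h⁻¹
    rw [← hc']
    simp
  · rintro _ ⟨c, rfl⟩
    rw [Equiv.Perm.mem_alternatingGroup]
    show Perm.sign (e.permCongr (kleinHom m c)) = 1
    rw [Perm.sign_permCongr, sign_kleinHom]
  · rintro _ ⟨c, rfl⟩
    rw [← map_pow, hpow, map_one]
  · rintro _ ⟨c, rfl⟩ _ ⟨d, rfl⟩
    rw [← map_mul, ← map_mul, mul_comm]
  · rw [← Nat.card_congr (F.ofInjective hF).toEquiv, Nat.card_prod,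
      Nat.card_congr Multiplicative.toAdd, Nat.card_zmod]
    rfl

end Cfsg.Agent.Lib.SymChar81
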