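import Cfsg.Agent.Lib.SymChar81.WeightOne
import Cfsg.Agent.Lib.SymChar81.FamTwo
import Cfsg.Agent.Lib.SymChar81.Klein
import Cfsg.Agent.Lib.SymChar81.Defect
import Cfsg.Agent.S4438
import Cfsg.Agent.Lib.Blocks.ContribRank

/-!
# The rank of a block of an alternating group
-/

set_option linter.unusedSectionVars false

namespace Cfsg.Agent.Lib.SymChar81

open Finset

variable {n p : ℕ} [Fact p.Prime]

/-- A non-trivial `p`-group has positive sectional rank. -/
theorem one_le_of_ne_bot {G : Type} [Group G] [Finite G] {s : ℕ} {D : Subgroup G}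
    (hs : Cfsg.SectionalPRankLE p s D) (hPD : IsPGroup p D) (hD1 : D ≠ ⊥) : 1 ≤ s := by
  have hp : p.Prime := Fact.out
  obtain ⟨a, ha, ha1⟩ := D.bot_or_exists_ne_one.resolve_left hD1
  obtain ⟨k, hk⟩ := IsPGroup.iff_orderOf.mp hPD ⟨a, ha⟩
  rw [Subgroup.orderOf_mk] at hk
  have hk0 : k ≠ 0 := fun h => ha1 (orderOf_eq_one_iff.mp (by rw [hk, h, pow_zero]))
  have hz : orderOf (a ^ (p ^ (k - 1))) = p := by
    rw [orderOf_pow' a (pow_ne_zero _ hp.ne_zero), hk,
      Nat.gcd_eq_right (pow_dvd_pow p (Nat.sub_le k 1)), Nat.pow_div (Nat.sub_le k 1) hp.pos,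
      show k - (k - 1) = 1 by omega, pow_one]
  refine le_of_elementary (V := Subgroup.zpowers (a ^ (p ^ (k - 1)))) hs
    (Subgroup.zpowers_le.mpr (D.pow_mem ha _)) ?_ ?_ (by rw [Nat.card_zpowers, hz, pow_one])
  · rintro _ ⟨i, rfl⟩
    show ((a ^ (p ^ (k - 1))) ^ i) ^ p = 1
    rw [← zpow_natCast, ← zpow_mul, mul_comm, zpow_mul, zpow_natCast]
    have h := pow_orderOf_eq_one (a ^ (p ^ (k - 1)))
    rw [hz] at h
    rw [h, one_zpow]
  · rintro _ ⟨i, rfl⟩ _ ⟨j, rfl⟩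
    exact ((Commute.refl _).zpow_zpow i j).eq

/-- An elementary abelian subgroup of the symmetric group inside a defect group of the covering
block gives a bound on the sectional rank. -/
theorem le_sectional {s k : ℕ} {A : Subgroup (Equiv.Perm (Fin n))} [A.Normal]
    {D : Subgroup A} (hs : Cfsg.SectionalPRankLE p s D) {P : Subgroup (Equiv.Perm (Fin n))}
    (hPQ : P ⊓ A = D.map A.subtype) {V : Subgroup (Equiv.Perm (Fin n))} {g : Equiv.Perm (Fin n)}
    (hg : V.map (MulAut.conj g).toMonoidHom ≤ P) (h1 : ∀ a ∈ V, a ^ p = 1)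
    (h2 : ∀ a ∈ V, ∀ b ∈ V, a * b = b * a)
    (hk : Nat.card (V ⊓ A : Subgroup _) = p ^ k) : k ≤ s := by
  set W := (V ⊓ A).map (MulAut.conj g).toMonoidHom with hW
  have hWA : W ≤ A := by
    rintro _ ⟨a, ha, rfl⟩
    exact ‹A.Normal›.conj_mem a ha.2 g
  have hWD : W.subgroupOf A ≤ D := by
    intro a ha
    have h : (a : Equiv.Perm (Fin n)) ∈ P ⊓ A :=
      ⟨hg (Subgroup.map_mono inf_le_left ha), a.2⟩
    rw [hPQ] at h
    obtain ⟨d, hd, he⟩ := h
    rwa [← Subtype.ext (a1 := d) he]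
  refine le_of_elementary hs hWD ?_ ?_ ?_
  · intro a ha
    obtain ⟨v, hv, he⟩ := (Subgroup.mem_subgroupOf.mp ha : (a : Equiv.Perm (Fin n)) ∈ W)
    apply Subtype.ext
    rw [Subgroup.coe_pow, ← he, ← map_pow, h1 v hv.1, map_one]
    rfl
  · intro a ha c hc
    obtain ⟨v, hv, he⟩ := (Subgroup.mem_subgroupOf.mp ha : (a : Equiv.Perm (Fin n)) ∈ W)
    obtain ⟨u, hu, he'⟩ := (Subgroup.mem_subgroupOf.mp hc : (c : Equiv.Perm (Fin n)) ∈ W)
    apply Subtype.ext
    rw [Subgroup.coe_mul, Subgroup.coe_mul, ← he, ← he', ← map_mul, ← map_mul,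
      h2 v hv.1 u hu.1]
  · rw [Nat.card_congr (Subgroup.subgroupOfEquivOfLe hWA).toEquiv, hW,
      Nat.card_congr ((V ⊓ A).equivMapOfInjective _ (MulAut.conj g).injective).toEquiv.symm, hk]

/-- Counting the split characters by their bead sets. -/
theorem card_splitReg_le {N : ℕ} (hn : n ≤ N) {M : Ideal Cfsg.AlgInt}
    (hM : Cfsg.IsPModular p M) {t : Equiv.Perm (Fin n)} (ht : t ∉ alternatingGroup (Fin n))
    (hidx : (alternatingGroup (Fin n)).index = 2)
    {B : Set (Cfsg.IrrCharacter (Equiv.Perm (Fin n)))} (hB : Cfsg.IsPBlock M B)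
    {χ0 : Cfsg.IrrCharacter (Equiv.Perm (Fin n))} (hχ0 : χ0 ∈ B) {b0 : Fin N → ℤ}
    (hb0 : HasBead n χ0 b0) {F : Finset (Finset ℕ)}
    (hF : SymFam p N (rc p b0) (wt p (beadSet b0)) ⊆ ↑F) :
    Nat.card (splitReg p (alternatingGroup (Fin n)) t B) ≤ F.card := by
  classical
  set A := alternatingGroup (Fin n)
  choose bd hbd using fun χ : Cfsg.IrrCharacter (Equiv.Perm (Fin n)) => exists_hasBead hn χ
  have hmem : ∀ χ : splitReg p A t B, beadSet (bd χ.1) ∈ F := by
    intro χ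
    have hvan := splitReg_vanishes hidx ht χ.2
    have hR := rc_eq_of_block hn hM hB hχ0 χ.2.1 hb0 (hbd χ.1)
    refine hF ⟨fun r _ => by rw [card_runner_beadSet (hbd χ.1).1.1 (hbd χ.1).1.2.1, hR], ?_, ?_⟩
    · exact wt_eq_of_box (R := rc p b0) (Fact.out : p.Prime).pos
        (mem_box.mpr ⟨(hbd χ.1).1.2.1, (hbd χ.1).1.2.2, hR⟩)
        (mem_box.mpr ⟨hb0.1.2.1, hb0.1.2.2, rfl⟩) (hbd χ.1).1.1 hb0.1.1
    · refine symSet_of_selfAssociate hn (hbd χ.1) fun σ => ?_
      by_cases hσ : σ ∈ A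
      · rw [Equiv.Perm.mem_alternatingGroup.mp hσ]; simp
      · rw [hvan σ hσ, mul_zero]
  rw [← Fintype.card_coe F, ← Nat.card_eq_fintype_card]
  refine Nat.card_le_card_of_injective (fun χ : splitReg p A t B => (⟨_, hmem χ⟩ : F)) ?_
  intro χ χ' h
  obtain ⟨π, hπ⟩ := exists_perm_of_beadSet_eq (hbd χ'.1).1.1 (hbd χ.1).1.2.1 (hbd χ'.1).1.2.1
    (congrArg Subtype.val h).symm
  exact Subtype.ext (HasBead.eq (hπ ▸ (hbd χ.1).comp π) (hbd χ'.1))

/-- A block of weight `0` has trivial defect groups. -/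
theorem defect_eq_bot_of_weight_zero {N : ℕ} (hn : n ≤ N) {M : Ideal Cfsg.AlgInt}
    (hM : Cfsg.IsPModular p M)
    {B : Set (Cfsg.IrrCharacter (Equiv.Perm (Fin n)))} (hB : Cfsg.IsPBlock M B)
    {χ0 : Cfsg.IrrCharacter (Equiv.Perm (Fin n))} (hχ0 : χ0 ∈ B) {b0 : Fin N → ℤ}
    (hb0 : HasBead n χ0 b0) (hw : wt p (beadSet b0) = 0)
    {P : Subgroup (Equiv.Perm (Fin n))} (hP : Cfsg.IsDefectGroup p M B P) : P = ⊥ := by
  classical
  haveI := hM.2.1
  have hp0 : 0 < p := (Fact.out : p.Prime).pos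
  have hall : ∀ χ ∈ B, χ = χ0 := by
    intro χ hχ
    obtain ⟨c, hc⟩ := exists_hasBead hn χ
    have hR := rc_eq_of_block hn hM hB hχ0 hχ hb0 hc
    have hwc : wt p (beadSet c) = 0 := by
      rw [← hw]
      exact wt_eq_of_box (R := rc p b0) hp0 (mem_box.mpr ⟨hc.1.2.1, hc.1.2.2, hR⟩)
        (mem_box.mpr ⟨hb0.1.2.1, hb0.1.2.2, rfl⟩) hc.1.1 hb0.1.1
    have hset : beadSet c = beadSet b0 := by
      refine eq_of_mem_fam_zero hp0 (R := rc p b0) ⟨fun r _ => ?_, ?_, hwc⟩ ⟨fun r _ => ?_, ?_, hw⟩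
      · rw [card_runner_beadSet hc.1.1 hc.1.2.1, hR]
      · exact sum_eq_zero_iff.mp hwc 0 (mem_range.mpr hp0)
      · rw [card_runner_beadSet hb0.1.1 hb0.1.2.1]
      · exact sum_eq_zero_iff.mp hw 0 (mem_range.mpr hp0)
    obtain ⟨π, hπ⟩ := exists_perm_of_beadSet_eq hc.1.1 hb0.1.2.1 hc.1.2.1 hset
    exact HasBead.eq hc (hπ ▸ hb0.comp π)
  have hB1 : Nat.card B = 1 := Nat.card_eq_one_iff_unique.mpr
    ⟨⟨fun a b => Subtype.ext ((hall a.1 a.2).trans (hall b.1 b.2).symm)⟩, ⟨⟨χ0, hχ0⟩⟩⟩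
  have hd := (Blocks.Contrib.card_eq_one_iff hM hB).mp hB1
  have hc := Blocks.card_isDefectGroup hM hB hP
  rw [hd, pow_zero] at hc
  exact Subgroup.card_eq_one.mp hc

/-- **The rank bound.** -/
theorem blockRank_alternating_lt {M : Ideal Cfsg.AlgInt} (hM : Cfsg.IsPModular p M)
    {b : Set (Cfsg.IrrCharacter (alternatingGroup (Fin n)))} (hb : Cfsg.IsPBlock M b)
    {D : Subgroup (alternatingGroup (Fin n))} (hD : Cfsg.IsDefectGroup p M b D) (hD1 : D ≠ ⊥)
    {s : ℕ} (hs : Cfsg.SectionalPRankLE p s D) : Cfsg.blockRank p b < p ^ s := by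
  classical
  haveI := hM.2.1
  have hp : p.Prime := Fact.out
  -- degree at least two
  have hn2 : 2 ≤ n := by
    by_contra h
    haveI : Subsingleton (Fin n) := by
      rw [← Fintype.card_le_one_iff_subsingleton, Fintype.card_fin]; omega
    haveI : Subsingleton (alternatingGroup (Fin n)) := ⟨fun a c => Subtype.ext (Subsingleton.elim _ _)⟩
    exact hD1 ((Subgroup.eq_bot_iff_forall D).mpr fun a _ => Subsingleton.elim _ _)
  haveI : Nontrivial (Fin n) := Fin.nontrivial_iff_two_le.mpr hn2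
  have hidx : (alternatingGroup (Fin n)).index = 2 := alternatingGroup.index_eq_two
  obtain ⟨t, ht⟩ : ∃ t, t ∉ (alternatingGroup (Fin n)) := by
    refine ⟨Equiv.swap (⟨0, by omega⟩ : Fin n) ⟨1, by omega⟩, ?_⟩
    rw [Equiv.Perm.mem_alternatingGroup, Equiv.Perm.sign_swap (by simp [Fin.ext_iff])]
    decide
  -- the covering block
  obtain ⟨θ0, hθ0⟩ := Blocks.isPBlock_nonempty hb
  obtain ⟨χ0, hχ0⟩ := exists_char_over θ0
  set B := Cfsg.blockOf M (χ0 : Equiv.Perm (Fin n) → ℂ)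
  have hB : Cfsg.IsPBlock M B := Blocks.isPBlock_blockOf χ0
  have hχB : χ0 ∈ B := Blocks.mem_blockOf_self χ0
  have hcov : ∃ χ ∈ B, ∃ θ ∈ b,
      Cfsg.classInner (fun a : (alternatingGroup (Fin n)) => (χ : Equiv.Perm (Fin n) → ℂ) a) (θ : (alternatingGroup (Fin n)) → ℂ) ≠ 0 :=
    ⟨χ0, hχB, θ0, hθ0, hχ0⟩
  obtain ⟨P, hP, hPQ⟩ := Cfsg.Agent.S4438.result p M hM (alternatingGroup (Fin n)) b hb (D.map (alternatingGroup (Fin n)).subtype)
    (Subgroup.map_subtype_le D)
    (by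
      rw [show (D.map (alternatingGroup (Fin n)).subtype).subgroupOf (alternatingGroup (Fin n)) = D from
        Subgroup.comap_map_eq_self_of_injective (alternatingGroup (Fin n)).subtype_injective D]
      exact hD) B hB hcov
  obtain ⟨b0, hb0⟩ := exists_hasBead (N := n) le_rfl χ0
  have hmain := blockRank_covered hM hidx ht hb hB hcov
  set w := wt p (beadSet b0) with hw
  rcases Nat.eq_zero_or_pos w with hw0 | hwpos
  · exfalso
    have hPbot := defect_eq_bot_of_weight_zero le_rfl hM hB hχB hb0 hw0 hP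
    refine hD1 (Subgroup.map_injective (alternatingGroup (Fin n)).subtype_injective ?_)
    rw [← hPQ, hPbot, bot_inf_eq, Subgroup.map_bot]
  have hDp : IsPGroup p D := by
    obtain ⟨g, -, S, hS⟩ := hD
    exact hS ▸ S.2.map _
  have hs1 := one_le_of_ne_bot hs hDp hD1
  rcases (show w = 1 ∨ 2 ≤ w by omega) with hw1 | hw2
  · rw [splitReg_eq_empty le_rfl (by omega) hM ht hidx hB hχB hb0 hw1] at hmain
    have h := blockRank_le_weight le_rfl hM hB hχB hb0
    rw [← hw, if_neg (by omega), hw1] at h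
    simp only [Nat.card_coe_set_eq, Set.ncard_empty, Nat.sub_self, pow_zero, mul_one,
      add_zero] at h hmain
    calc Cfsg.blockRank p b ≤ p - 1 := hmain.trans h
      _ < p := Nat.sub_lt hp.pos one_pos
      _ ≤ p ^ s := Nat.le_self_pow (by omega) p
  -- the cycles
  have hgp : ∑ i, gp p b0 i = w := (wt_occ_eq_sum_gp hp.pos hb0.1.1 hb0.1.2.1).symm
  obtain ⟨m, K, hnm, hK, hcore, hgz, hchi⟩ := chi_replicate hp.pos w n b0 hb0.1 hgp
  obtain ⟨σ, hσ, hσp⟩ := exists_chi_core_ne_zero hp.pos hcore hgz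
  have hσreg := (isPRegular_iff σ).mpr hσp
  have hval : ∀ g : Equiv.Perm (Fin n), otype g = Multiset.replicate w p + otype σ →
      (χ0 : Equiv.Perm (Fin n) → ℂ) g ≠ 0 := by
    intro g hg
    obtain ⟨-, e, he, hχb⟩ := id hb0
    have hm : (otype σ).sum = m := by rw [otype_sum, Fintype.card_fin]
    have hv : theta n b0 g ≠ 0 := by
      rw [theta, hg, hchi _ hm, Int.cast_ne_zero]
      exact mul_ne_zero (by exact_mod_cast hK.ne') hσ
    rw [hχb, Pi.smul_apply, smul_eq_mul]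
    rcases he with rfl | rfl <;> simpa using hv
  obtain ⟨x, y, V, hx, hy, hxy, htype, hVC, hVn, hVp, hVc, hVcard⟩ := exists_model hwpos hnm σ hσreg
  obtain ⟨g, hg⟩ := exists_conj_le_defect hM hB hχB (k := 1) (by rw [hx, pow_one]) hy hxy
    (hval _ htype) (IsPGroup.of_card hVcard) hVC hP
  obtain ⟨k, hk⟩ := IsPGroup.iff_card.mp
    ((IsPGroup.of_card hVcard).to_le (inf_le_left : V ⊓ (alternatingGroup (Fin n)) ≤ V))
  have hks : k ≤ s := le_sectional hs hPQ hg hVp hVc hk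
  rcases hp.eq_two_or_odd with h2 | hodd
  swap
  · -- odd primes
    have hVA : V ≤ (alternatingGroup (Fin n)) := by
      intro a ha
      rw [Equiv.Perm.mem_alternatingGroup]
      have h := congrArg Equiv.Perm.sign (hVp a ha)
      rw [map_pow, map_one] at h
      rcases Int.units_eq_one_or (Equiv.Perm.sign a) with h' | h'
      · exact h'
      · rw [h', Odd.neg_one_pow (Nat.odd_iff.mpr hodd)] at h
        exact absurd h (by decide)
    have hkw : k = w := by
      rw [inf_eq_left.mpr hVA, hVcard] at hk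
      exact (Nat.pow_right_injective hp.two_le hk).symm
    obtain ⟨F1, F2, -, hF2, hF2card⟩ :=
      symFam_odd (N := n) (R := rc p b0) (by have := hp.two_le; omega) hodd (by omega) (w - 2)
    rw [show w - 2 + 2 = w by omega] at hF2
    rw [show w - 2 + 1 = w - 1 by omega] at hF2card
    have hsc := card_splitReg_le le_rfl hM ht hidx hB hχB hb0 hF2
    have h := blockRank_le_weight le_rfl hM hB hχB hb0
    rw [← hw, if_neg (by omega)] at h
    have hps : p ^ w ≤ p ^ s := Nat.pow_le_pow_right hp.pos (hkw ▸ hks)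
    have hpw : (p - 1) * p ^ (w - 1) + p ^ (w - 1) = p ^ w := by
      rw [← Nat.succ_mul, show (p - 1).succ = p by have := hp.pos; omega, ← pow_succ',
        show w - 1 + 1 = w by omega]
    omega
  -- `p = 2`
  subst h2
  have hkw : w ≤ k + 1 := by
    have h1 : (⊥ : Subgroup (Equiv.Perm (Fin n))).relIndex (V ⊓ (alternatingGroup (Fin n))) * (V ⊓ (alternatingGroup (Fin n))).relIndex V =
        (⊥ : Subgroup (Equiv.Perm (Fin n))).relIndex V :=
      Subgroup.relIndex_mul_relIndex _ _ _ bot_le inf_le_left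
    rw [Subgroup.relIndex_bot_left, Subgroup.relIndex_bot_left, Subgroup.inf_relIndex_left, hk,
      hVcard] at h1
    have h2 : (alternatingGroup (Fin n)).relIndex V ≤ 2 := by
      have h := Subgroup.relIndex_le_of_le_right (H := (alternatingGroup (Fin n))) (le_top : V ≤ ⊤)
        (by rw [Subgroup.relIndex_top_right, hidx]; decide)
      rwa [Subgroup.relIndex_top_right, hidx] at h
    have h3 : 2 ^ w ≤ 2 ^ (k + 1) := by
      rw [pow_succ, ← h1]; exact Nat.mul_le_mul_left _ h2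
    exact (Nat.pow_le_pow_iff_right (by norm_num)).mp h3
  rcases (show w = 2 ∨ w = 3 ∨ 4 ≤ w by omega) with hw' | hw' | hw'
  · -- weight two
    rw [hw'] at hnm hval
    obtain ⟨x2, y2, V2, hx2, hy2, hxy2, htype2, hVC2, hVn2, hVA2, hVp2, hVc2, hVcard2⟩ :=
      exists_klein hnm σ hσreg
    obtain ⟨g2, hg2⟩ := exists_conj_le_defect hM hB hχB (k := 1) (by rw [hx2, pow_one]) hy2 hxy2
      (hval _ htype2) (IsPGroup.of_card hVcard2) hVC2 hP
    have hs2 : 2 ≤ s := le_sectional hs hPQ hg2 hVp2 hVc2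
      (by rw [inf_eq_left.mpr hVA2, hVcard2])
    obtain ⟨F1, F2, -, hF2, hF2card⟩ := symFam_two (N := n) (R := rc 2 b0) (by omega) 0
    have hsc := card_splitReg_le le_rfl hM ht hidx hB hχB hb0
      (show SymFam 2 n (rc 2 b0) w ⊆ ↑F2 by rw [hw']; exact hF2)
    have h := blockRank_le_weight le_rfl hM hB hχB hb0
    rw [← hw, if_neg (by omega), hw'] at h
    simp only [pow_zero] at hF2card
    have hps : 2 ^ 2 ≤ 2 ^ s := Nat.pow_le_pow_right (by omega) hs2
    omega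
  · -- weight three
    obtain ⟨F1, F2, ⟨hF1, hF1card⟩, -⟩ := symFam_two (N := n) (R := rc 2 b0) (by omega) 1
    have hsc := card_splitReg_le le_rfl hM ht hidx hB hχB hb0
      (show SymFam 2 n (rc 2 b0) w ⊆ ↑F1 by rw [hw']; exact hF1)
    obtain ⟨F, hF, hFcard⟩ := fam_two_three (rc 2 b0)
    have h := blockRank_le_fam le_rfl hM hB hχB hb0
      (show Fam 2 (rc 2 b0) (wt 2 (beadSet b0)) ⊆ ↑F by rw [← hw, hw']; exact hF)
    have hps : 2 ^ 2 ≤ 2 ^ s := Nat.pow_le_pow_right (by omega) (by omega)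
    omega
  · obtain ⟨u, hu⟩ : ∃ u, w = u + 4 := ⟨w - 4, by omega⟩
    obtain ⟨F, hF, hFcard⟩ := fam_two_large (rc 2 b0) u
    have h := blockRank_le_fam le_rfl hM hB hχB hb0
      (show Fam 2 (rc 2 b0) (wt 2 (beadSet b0)) ⊆ ↑F by rw [← hw, hu]; exact hF)
    have hps : 2 ^ (u + 3) ≤ 2 ^ s := Nat.pow_le_pow_right (by omega) (by omega)
    rw [pow_add] at hps
    have hu0 : 0 < 2 ^ u := Nat.two_pow_pos u
    rcases Nat.even_or_odd' w with ⟨v, hv | hv⟩
    · obtain ⟨v', rfl⟩ : ∃ v', v = v' + 1 := ⟨v - 1, by omega⟩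
      obtain ⟨F1, F2, -, hF2, hF2card⟩ := symFam_two (N := n) (R := rc 2 b0) (by omega) v'
      have hsc := card_splitReg_le le_rfl hM ht hidx hB hχB hb0
        (show SymFam 2 n (rc 2 b0) w ⊆ ↑F2 by rw [hv]; exact hF2)
      have hvu : 2 ^ v' ≤ 2 ^ (u + 1) := Nat.pow_le_pow_right (by omega) (by omega)
      rw [pow_succ] at hvu
      omega
    · obtain ⟨F1, F2, ⟨hF1, hF1card⟩, -⟩ := symFam_two (N := n) (R := rc 2 b0) (by omega) v
      have hsc := card_splitReg_le le_rfl hM ht hidx hB hχB hb0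
        (show SymFam 2 n (rc 2 b0) w ⊆ ↑F1 by rw [hv]; exact hF1)
      omega

end Cfsg.Agent.Lib.SymChar81
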