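import Cfsg.Agent.Lib.Clifford.Basic
import Cfsg.Agent.S4432
import Cfsg.Prelude.Def_BlockRank
import Mathlib.GroupTheory.Index
import Mathlib.LinearAlgebra.Dimension.Constructions

/-!
# Blocks of a subgroup of index two

The regular rank of a covered block is at most the rank of the covering block plus the number of
its split characters whose halves differ on regular elements.
-/

set_option linter.unusedSectionVars false

namespace Cfsg.Agent.Lib.SymChar81

open Finset
open Cfsg.Agent.Lib.Clifford.Basic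
open scoped ComplexConjugate

variable {G : Type} [Group G] [Fintype G] {N : Subgroup G} [N.Normal] [Fintype N]

theorem conjC_sq_eq (hidx : N.index = 2) (θ : Cfsg.IrrCharacter N) (t : G) :
    conjC N t (conjC N t (θ : N → ℂ)) = θ := by
  rw [← conjC_mul]
  exact conjC_of_mem N (Characters.Basic.isClassFunction_irr θ)
    (Subgroup.mul_self_mem_of_index_two hidx t)

theorem conjC_eq_of_notMem (hidx : N.index = 2) (θ : Cfsg.IrrCharacter N) {t g : G} (ht : t ∉ N)
    (hg : g ∉ N) : conjC N g (θ : N → ℂ) = conjC N t (θ : N → ℂ) := by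
  have hm : g * t⁻¹ ∈ N := by
    rw [Subgroup.mul_mem_iff_of_index_two hidx, Subgroup.inv_mem_iff]
    exact iff_of_false hg ht
  conv_lhs => rw [show g = (g * t⁻¹) * t by group]
  rw [conjC_mul, conjC_of_mem N (Characters.Basic.isClassFunction_irr θ) hm]

theorem conjC_cases (hidx : N.index = 2) (θ : Cfsg.IrrCharacter N) {t : G} (ht : t ∉ N) (g : G) :
    conjC N g (θ : N → ℂ) = θ ∨ conjC N g (θ : N → ℂ) = conjC N t (θ : N → ℂ) := by
  by_cases hg : g ∈ N
  · exact Or.inl (conjC_of_mem N (Characters.Basic.isClassFunction_irr θ) hg)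
  · exact Or.inr (conjC_eq_of_notMem hidx θ ht hg)

/-- Clifford theory for index two: the split case. -/
theorem restrict_split (hidx : N.index = 2) {t : G} (ht : t ∉ N) (χ : Cfsg.IrrCharacter G)
    (θ : Cfsg.IrrCharacter N) (hθ : Cfsg.classInner (fun n : N => (χ : G → ℂ) n) θ ≠ 0)
    (hne : conjC N t (θ : N → ℂ) ≠ θ) :
    (fun n : N => (χ : G → ℂ) n) = (θ : N → ℂ) + conjC N t (θ : N → ℂ) ∧
      ∀ g ∉ N, (χ : G → ℂ) g = 0 := by
  classical
  have hT : inertia N (θ : N → ℂ) = N := by
    refine le_antisymm (fun g hg => ?_) (le_inertia N (Characters.Basic.isClassFunction_irr θ))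
    by_contra h
    exact hne ((conjC_eq_of_notMem hidx θ ht h).symm.trans hg)
  set e := Cfsg.classInner (fun n : N => (χ : G → ℂ) n) (θ : N → ℂ) with he
  have hN0 : (Nat.card N : ℂ) ≠ 0 := Induced.Basic.subgroup_card_ne_zero N
  have hG : Nat.card G = 2 * Nat.card N := by rw [← N.index_mul_card, hidx]
  have hcN : (univ.filter fun x : G => x ∈ N).card = Nat.card N := by
    rw [Nat.card_eq_fintype_card, Fintype.card_subtype]
  have hcC : (univ.filter fun x : G => x ∉ N).card = Nat.card N := by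
    have := card_filter_add_card_filter_not (s := (univ : Finset G)) (fun x => x ∈ N)
    rw [hcN, card_univ, ← Nat.card_eq_fintype_card, hG] at this
    omega
  have hres : (fun n : N => (χ : G → ℂ) n) = e • ((θ : N → ℂ) + conjC N t (θ : N → ℂ)) := by
    rw [clifford N χ.2 θ hθ, hT, ← he,
      ← sum_filter_add_sum_filter_not univ (fun x : G => x ∈ N) fun x => conjC N x (θ : N → ℂ),
      sum_congr rfl fun x hx => conjC_of_mem N (Characters.Basic.isClassFunction_irr θ)
        (mem_filter.mp hx).2,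
      sum_congr rfl fun x hx => conjC_eq_of_notMem hidx θ ht (mem_filter.mp hx).2,
      sum_const, sum_const, hcN, hcC, ← Nat.cast_smul_eq_nsmul ℂ, ← Nat.cast_smul_eq_nsmul ℂ,
      ← smul_add, smul_smul, div_mul_cancel₀ _ hN0]
  obtain ⟨k, hk⟩ := Characters.Basic.exists_classInner_nat
    (Characters.Basic.isCharacter_comp N.subtype (Characters.Basic.isCharacter_irr χ))
    (Characters.Basic.isCharacter_irr θ)
  have hk' : e = (k : ℂ) := hk
  have hself : Cfsg.classInner ((θ : N → ℂ) + conjC N t (θ : N → ℂ))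
      ((θ : N → ℂ) + conjC N t (θ : N → ℂ)) = 2 := by
    rw [Induced.Basic.classInner_add_left, Induced.Basic.classInner_add_right,
      Induced.Basic.classInner_add_right,
      Characters.Basic.classInner_self_irr,
      show Cfsg.classInner (conjC N t (θ : N → ℂ)) (conjC N t (θ : N → ℂ)) = 1 from
        Characters.Basic.classInner_self_irr ⟨_, isIrrCharacter_conjC N t θ.2⟩,
      show Cfsg.classInner (θ : N → ℂ) (conjC N t (θ : N → ℂ)) = 0 from
        Characters.Basic.classInner_irr_of_ne (χ := θ) (ψ := ⟨_, isIrrCharacter_conjC N t θ.2⟩)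
          fun h => hne (congrArg Subtype.val h).symm,
      show Cfsg.classInner (conjC N t (θ : N → ℂ)) (θ : N → ℂ) = 0 from
        Characters.Basic.classInner_irr_of_ne (χ := ⟨_, isIrrCharacter_conjC N t θ.2⟩) (ψ := θ)
          fun h => hne (congrArg Subtype.val h)]
    norm_num
  have hn1 : Cfsg.classInner (fun n : N => (χ : G → ℂ) n) (fun n : N => (χ : G → ℂ) n) =
      ((2 * k * k : ℕ) : ℂ) := by
    rw [hres, Induced.Basic.classInner_smul_left, Induced.Basic.classInner_smul_right, hself, hk',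
      Complex.conj_natCast]
    push_cast; ring
  have hn2 := Characters.Basic.classInner_self_irr χ
  rw [Cfsg.classInner] at hn1 hn2
  have hns : ∀ z : ℂ, z * conj z = ((Complex.normSq z : ℝ) : ℂ) := Complex.mul_conj
  simp only [hns, ← Complex.ofReal_sum] at hn1 hn2
  have hsplit : ∑ n : N, Complex.normSq ((χ : G → ℂ) n) +
      ∑ g ∈ univ.filter (fun x : G => x ∉ N), Complex.normSq ((χ : G → ℂ) g) =
      ∑ g : G, Complex.normSq ((χ : G → ℂ) g) := by
    rw [← sum_filter_add_sum_filter_not univ (fun x : G => x ∈ N)]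
    congr 1
    exact (sum_subtype (p := fun x : G => x ∈ N) _ (fun x => by simp)
      fun g => Complex.normSq ((χ : G → ℂ) g)).symm
  have hposN : (0 : ℝ) < Nat.card N := by exact_mod_cast Nat.card_pos
  have hA : ∑ n : N, Complex.normSq ((χ : G → ℂ) n) = ((2 * k * k : ℕ) : ℝ) * Nat.card N := by
    rw [inv_mul_eq_iff_eq_mul₀ hN0] at hn1
    rw [mul_comm]
    exact_mod_cast hn1
  have hB : ∑ g : G, Complex.normSq ((χ : G → ℂ) g) = 2 * (Nat.card N : ℝ) := by
    rw [inv_mul_eq_iff_eq_mul₀ Induced.Basic.natCard_ne_zero, mul_one, hG] at hn2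
    exact_mod_cast hn2
  have hCnn : 0 ≤ ∑ g ∈ univ.filter (fun x : G => x ∉ N), Complex.normSq ((χ : G → ℂ) g) :=
    sum_nonneg fun g _ => Complex.normSq_nonneg _
  have hk1 : k = 1 := by
    rcases Nat.lt_or_ge k 2 with h | h
    · rcases Nat.eq_zero_or_pos k with h0 | h0
      · exact absurd (hk'.trans (by rw [h0, Nat.cast_zero])) hθ
      · omega
    · exfalso
      have h4 : (2 * 2 * 2 : ℝ) ≤ ((2 * k * k : ℕ) : ℝ) := by
        have : 2 * 2 * 2 ≤ 2 * k * k := Nat.mul_le_mul (Nat.mul_le_mul_left 2 h) h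
        exact_mod_cast this
      nlinarith
  refine ⟨by rw [hres, hk', hk1, Nat.cast_one, one_smul], fun g hg => ?_⟩
  have hC0 : ∑ g ∈ univ.filter (fun x : G => x ∉ N), Complex.normSq ((χ : G → ℂ) g) = 0 := by
    rw [hk1] at hA
    push_cast at hA
    linarith
  exact Complex.normSq_eq_zero.mp
    ((sum_eq_zero_iff_of_nonneg fun g _ => Complex.normSq_nonneg _).mp hC0 g (by simpa using hg))

theorem exists_char_over (θ : Cfsg.IrrCharacter N) :
    ∃ χ : Cfsg.IrrCharacter G, Cfsg.classInner (fun n : N => (χ : G → ℂ) n) θ ≠ 0 := by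
  have hc : Cfsg.IsCharacter G (Cfsg.indFun N (θ : N → ℂ)) :=
    Induced.Character.isCharacter_indFun N (Characters.Basic.isCharacter_irr θ)
  have hne : Cfsg.indFun N (θ : N → ℂ) ≠ 0 := fun h => by
    have h1 := congrFun h 1
    rw [Induced.Basic.indFun_one, Pi.zero_apply] at h1
    exact mul_ne_zero (Nat.cast_ne_zero.mpr Subgroup.index_ne_zero_of_finite)
      (Characters.Basic.apply_one_ne_zero θ) h1
  obtain ⟨χ, hχ⟩ := exists_constituent hc hne
  rw [Induced.Basic.frobenius_reciprocity N _ (Characters.Basic.isClassFunction_irr χ)] at hχ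
  exact ⟨χ, classInner_ne_zero_symm hχ⟩

/-- `p`-regular restriction to `N`. -/
def resMap (N : Subgroup G) : (G → ℂ) →ₗ[ℂ] (N → ℂ) where
  toFun f n := f n
  map_add' _ _ := rfl
  map_smul' _ _ := rfl

theorem pRegularPart_coe {p : ℕ} (f : G → ℂ) :
    Cfsg.pRegularPart p (fun n : N => f n) = resMap N (Cfsg.pRegularPart p f) := by
  classical
  funext n
  show (if Cfsg.IsPRegular p n then f n else 0) = if Cfsg.IsPRegular p (n : G) then f n else 0
  simp only [Cfsg.IsPRegular, Subgroup.orderOf_coe]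
  by_cases h : p ∣ orderOf n <;> simp [h]

theorem pRegularPart_smul {H : Type} [Group H] {p : ℕ} (c : ℂ) (f : H → ℂ) :
    Cfsg.pRegularPart p (c • f) = c • Cfsg.pRegularPart p f := by
  classical
  funext n
  simp only [Cfsg.pRegularPart, Pi.smul_apply]
  split_ifs <;> simp

theorem pRegularPart_add {H : Type} [Group H] {p : ℕ} (f g : H → ℂ) :
    Cfsg.pRegularPart p (f + g) = Cfsg.pRegularPart p f + Cfsg.pRegularPart p g := by
  classical
  funext n
  simp only [Cfsg.pRegularPart, Pi.add_apply]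
  split_ifs <;> simp

/-- The characters of `B` splitting into halves which differ on regular elements. -/
def splitReg (p : ℕ) (N : Subgroup G) [N.Normal] [Fintype N] (t : G)
    (B : Set (Cfsg.IrrCharacter G)) : Set (Cfsg.IrrCharacter G) :=
  {χ | χ ∈ B ∧ ∃ θ : Cfsg.IrrCharacter N, Cfsg.classInner (fun n : N => (χ : G → ℂ) n) θ ≠ 0 ∧
    Cfsg.pRegularPart p ((θ : N → ℂ) - conjC N t (θ : N → ℂ)) ≠ 0}

theorem splitReg_vanishes {p : ℕ} (hidx : N.index = 2) {t : G} (ht : t ∉ N)
    {B : Set (Cfsg.IrrCharacter G)} {χ : Cfsg.IrrCharacter G} (h : χ ∈ splitReg p N t B) :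
    ∀ g ∉ N, (χ : G → ℂ) g = 0 := by
  obtain ⟨-, θ, hθ, hne⟩ := h
  refine (restrict_split hidx ht χ θ hθ fun e => hne ?_).2
  rw [e, sub_self]
  classical
  funext n
  simp [Cfsg.pRegularPart]

/-- **The rank of a covered block.** -/
theorem blockRank_covered {p : ℕ} [Fact p.Prime] {M : Ideal Cfsg.AlgInt}
    (hM : Cfsg.IsPModular p M) (hidx : N.index = 2) {t : G} (ht : t ∉ N)
    {b : Set (Cfsg.IrrCharacter N)} (hb : Cfsg.IsPBlock M b)
    {B : Set (Cfsg.IrrCharacter G)} (hB : Cfsg.IsPBlock M B)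
    (hcov : ∃ χ ∈ B, ∃ θ ∈ b, Cfsg.classInner (fun n : N => (χ : G → ℂ) n) (θ : N → ℂ) ≠ 0) :
    Cfsg.blockRank p b ≤ Cfsg.blockRank p B + Nat.card (splitReg p N t B) := by
  classical
  haveI := Fintype.ofFinite (Cfsg.IrrCharacter G)
  set V := Submodule.span ℂ
    ((fun χ : Cfsg.IrrCharacter G => Cfsg.pRegularPart p (χ : G → ℂ)) '' B) with hV
  set g : splitReg p N t B → (N → ℂ) := fun χ => Cfsg.pRegularPart p
    ((χ.2.2.choose : N → ℂ) - conjC N t (χ.2.2.choose : N → ℂ)) with hg
  haveI := Fintype.ofFinite (splitReg p N t B)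
  have hle : Submodule.span ℂ
      ((fun θ : Cfsg.IrrCharacter N => Cfsg.pRegularPart p (θ : N → ℂ)) '' b) ≤
      V.map (resMap N) ⊔ Submodule.span ℂ (↑(univ.image g) : Set (N → ℂ)) := by
    rw [Submodule.span_le]
    rintro _ ⟨θ, hθb, rfl⟩
    obtain ⟨χ, hχB, hχθ⟩ := Cfsg.Agent.S4432.result p M hM N B hB b hb hcov θ hθb
    have hres : Cfsg.pRegularPart p (fun n : N => (χ : G → ℂ) n) ∈
        V.map (resMap N) ⊔ Submodule.span ℂ (↑(univ.image g) : Set (N → ℂ)) := by
      rw [pRegularPart_coe]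
      exact Submodule.mem_sup_left ⟨_, Submodule.subset_span ⟨χ, hχB, rfl⟩, rfl⟩
    simp only [SetLike.mem_coe]
    by_cases hinv : conjC N t (θ : N → ℂ) = θ
    · have h := restrict_eq_smul N χ.2 θ hχθ fun x => by
        rcases conjC_cases hidx θ ht x with h | h <;> simp [h, hinv]
      rw [h, pRegularPart_smul] at hres
      have := Submodule.smul_mem _
        (Cfsg.classInner (fun n : N => (χ : G → ℂ) n) (θ : N → ℂ))⁻¹ hres
      rwa [smul_smul, inv_mul_cancel₀ hχθ, one_smul] at this
    · obtain ⟨hsplit, -⟩ := restrict_split hidx ht χ θ hχθ hinv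
      have hδ : Cfsg.pRegularPart p ((θ : N → ℂ) - conjC N t (θ : N → ℂ)) ∈
          V.map (resMap N) ⊔ Submodule.span ℂ (↑(univ.image g) : Set (N → ℂ)) := by
        by_cases h0 : Cfsg.pRegularPart p ((θ : N → ℂ) - conjC N t (θ : N → ℂ)) = 0
        · rw [h0]; exact zero_mem _
        set x : splitReg p N t B := ⟨χ, hχB, θ, hχθ, h0⟩
        obtain ⟨hx1, -⟩ := x.2.2.choose_spec
        set θ0 := x.2.2.choose
        have hgx : g x ∈ V.map (resMap N) ⊔ Submodule.span ℂ (↑(univ.image g) : Set (N → ℂ)) :=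
          Submodule.mem_sup_right (Submodule.subset_span (by simp))
        obtain ⟨u, hu⟩ := exists_conj_of_constituents N χ.2 hx1 hχθ
        rcases conjC_cases hidx θ0 ht u with h | h
        · rw [← hu, h]; exact hgx
        · rw [← hu, h, conjC_sq_eq hidx θ0 t,
            show conjC N t (θ0 : N → ℂ) - (θ0 : N → ℂ) =
              (-1 : ℂ) • ((θ0 : N → ℂ) - conjC N t (θ0 : N → ℂ)) by
              rw [neg_one_smul, neg_sub], pRegularPart_smul]
          exact Submodule.smul_mem _ _ hgx
      have hhalf : (θ : N → ℂ) = (2 : ℂ)⁻¹ • ((fun n : N => (χ : G → ℂ) n) +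
          ((θ : N → ℂ) - conjC N t (θ : N → ℂ))) := by
        rw [hsplit]
        funext n
        simp only [Pi.smul_apply, Pi.add_apply, Pi.sub_apply, smul_eq_mul]
        ring
      rw [hhalf, pRegularPart_smul, pRegularPart_add]
      exact Submodule.smul_mem _ _ (add_mem hres hδ)
  refine (Submodule.finrank_mono hle).trans ((Submodule.finrank_add_le_finrank_add_finrank _ _).trans
    (Nat.add_le_add (Submodule.finrank_map_le _ _) ?_))
  refine (finrank_span_finset_le_card _).trans (card_image_le.trans ?_)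
  rw [card_univ, Nat.card_eq_fintype_card]

end Cfsg.Agent.Lib.SymChar81
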