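import Mathlib.GroupTheory.Perm.Sign
import Mathlib.Data.Fin.Tuple.Sort
import Mathlib.Algebra.BigOperators.Fin
import Mathlib.Algebra.Order.BigOperators.Group.Finset
import Mathlib.Data.Int.Interval
import Mathlib.Tactic.Ring
import Mathlib.Tactic.Linarith

/-!
# The Murnaghan-Nakayama functions on bead tuples

`chi M b` is defined on multisets `M` of cycle lengths and integer tuples `b` (bead positions,
a beta-set with an order) by the Murnaghan-Nakayama rule.
-/

namespace Cfsg.Agent.Lib.SymChar81

open Finset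

variable {N : ℕ}

/-- Lower the `i`th bead by `k`. -/
def sh (k : ℤ) (i : Fin N) (b : Fin N → ℤ) : Fin N → ℤ := Function.update b i (b i - k)

theorem sh_self (k : ℤ) (i : Fin N) (b : Fin N → ℤ) : sh k i b i = b i - k := by simp [sh]

theorem sh_of_ne (k : ℤ) {i j : Fin N} (b : Fin N → ℤ) (h : j ≠ i) : sh k i b j = b j := by
  simp [sh, h]

theorem sh_comm (k l : ℤ) (i j : Fin N) (b : Fin N → ℤ) :
    sh l j (sh k i b) = sh k i (sh l j b) := by
  by_cases h : i = j
  · subst h; funext a
    by_cases ha : a = i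
    · subst ha; simp [sh]; ring
    · simp [sh, ha]
  · funext a
    simp only [sh, Function.update_apply]
    split_ifs <;> simp_all

theorem sum_sh (k : ℤ) (i : Fin N) (b : Fin N → ℤ) : ∑ a, sh k i b a = (∑ a, b a) - k := by
  simp only [sh]
  rw [Finset.sum_update_of_mem (mem_univ i), ← Finset.sum_erase_add univ b (mem_univ i),
    Finset.sdiff_singleton_eq_erase]
  ring

theorem sh_comp_perm (k : ℤ) (i : Fin N) (b : Fin N → ℤ) (τ : Equiv.Perm (Fin N)) :
    sh k (τ.symm i) (b ∘ τ) = sh k i b ∘ τ := by
  funext a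
  simp only [sh, Function.update_apply, Function.comp]
  simp only [Equiv.eq_symm_apply, Equiv.apply_symm_apply]

theorem sh_sh_neg (k : ℤ) (i : Fin N) (b : Fin N → ℤ) : sh k i (sh (-k) i b) = b := by
  funext a
  by_cases ha : a = i
  · subst ha; simp [sh]
  · simp [sh, ha]

/-- The sign base function. -/
def base (b : Fin N → ℤ) : ℤ :=
  ∑ τ : Equiv.Perm (Fin N), (Equiv.Perm.sign τ : ℤ) * if b = (fun i => ((τ i : ℕ) : ℤ)) then 1 else 0

/-- One step of the rule: lower some bead by `k`. -/
def opR (k : ℕ) (F : (Fin N → ℤ) → ℤ) (b : Fin N → ℤ) : ℤ := ∑ i, F (sh k i b)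

instance opRLeftCommutative : LeftCommutative (opR (N := N)) where
  left_comm k l F := by
    funext b
    simp only [opR]
    rw [Finset.sum_comm]
    simp only [sh_comm]

/-- The Murnaghan-Nakayama function. -/
def chi (M : Multiset ℕ) : (Fin N → ℤ) → ℤ := M.foldr opR base

theorem chi_zero : chi (N := N) 0 = base := Multiset.foldr_zero _ _

theorem chi_cons (k : ℕ) (M : Multiset ℕ) (b : Fin N → ℤ) :
    chi (k ::ₘ M) b = ∑ i, chi M (sh k i b) := by
  rw [chi, Multiset.foldr_cons]
  rfl

/-- The total of the bottom positions. -/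
def tot (N : ℕ) : ℤ := ∑ i : Fin N, ((i : ℕ) : ℤ)

theorem base_ne_zero {b : Fin N → ℤ} (h : base b ≠ 0) :
    ∃ τ : Equiv.Perm (Fin N), b = fun i => ((τ i : ℕ) : ℤ) := by
  by_contra hc
  push Not at hc
  exact h (Finset.sum_eq_zero fun τ _ => by rw [if_neg (hc τ), mul_zero])

theorem chi_ne_zero_nonneg : ∀ {M : Multiset ℕ} {b : Fin N → ℤ}, chi M b ≠ 0 →
    (∀ i, 0 ≤ b i) ∧ ∑ i, b i = tot N + M.sum := by
  intro M
  induction M using Multiset.induction with
  | empty =>
    intro b h
    rw [chi_zero] at h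
    obtain ⟨τ, rfl⟩ := base_ne_zero h
    refine ⟨fun i => Int.natCast_nonneg _, ?_⟩
    rw [Multiset.sum_zero, Nat.cast_zero, add_zero, tot]
    exact Equiv.sum_comp τ (fun i => ((i : ℕ) : ℤ))
  | cons k M ih =>
    intro b h
    rw [chi_cons] at h
    obtain ⟨i, -, hi⟩ := Finset.exists_ne_zero_of_sum_ne_zero h
    obtain ⟨h1, h2⟩ := ih hi
    refine ⟨fun a => ?_, ?_⟩
    · by_cases ha : a = i
      · subst ha; have := h1 a; rw [sh_self] at this; omega
      · have := h1 a; rwa [sh_of_ne _ _ ha] at this
    · rw [sum_sh] at h2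
      rw [Multiset.sum_cons, Nat.cast_add]
      linarith

theorem base_comp (b : Fin N → ℤ) (π : Equiv.Perm (Fin N)) :
    base (b ∘ π) = (Equiv.Perm.sign π : ℤ) * base b := by
  rw [base, base, Finset.mul_sum]
  rw [← Equiv.sum_comp (Equiv.mulRight π)]
  refine Finset.sum_congr rfl fun τ _ => ?_
  simp only [Equiv.coe_mulRight, map_mul, Units.val_mul]
  have : (b ∘ π = fun i => (((τ * π) i : ℕ) : ℤ)) ↔ b = fun i => ((τ i : ℕ) : ℤ) := by
    constructor
    · intro h; funext i
      have := congrFun h (π.symm i)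
      simpa [Equiv.Perm.mul_apply] using this
    · intro h; funext i
      simp [h, Equiv.Perm.mul_apply]
  simp only [this]
  ring

theorem chi_comp (M : Multiset ℕ) : ∀ (b : Fin N → ℤ) (π : Equiv.Perm (Fin N)),
    chi M (b ∘ π) = (Equiv.Perm.sign π : ℤ) * chi M b := by
  induction M using Multiset.induction with
  | empty => intro b π; rw [chi_zero]; exact base_comp b π
  | cons k M ih =>
    intro b π
    rw [chi_cons, chi_cons, Finset.mul_sum, ← Equiv.sum_comp π.symm]
    exact Finset.sum_congr rfl fun i _ => by rw [sh_comp_perm, ih]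

theorem eq_zero_of_antisymm {F : (Fin N → ℤ) → ℤ}
    (hF : ∀ b (π : Equiv.Perm (Fin N)), F (b ∘ π) = (Equiv.Perm.sign π : ℤ) * F b)
    {b : Fin N → ℤ} (hb : ¬ Function.Injective b) : F b = 0 := by
  rw [Function.not_injective_iff] at hb
  obtain ⟨i, j, hij, hne⟩ := hb
  have h := hF b (Equiv.swap i j)
  have e : b ∘ Equiv.swap i j = b := by
    funext a
    simp only [Function.comp, Equiv.swap_apply_def]
    split_ifs <;> simp_all
  rw [e, Equiv.Perm.sign_swap hne] at h
  push_cast at h
  linarith

theorem chi_eq_zero_of_not_injective {M : Multiset ℕ} {b : Fin N → ℤ}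
    (hb : ¬ Function.Injective b) : chi M b = 0 :=
  eq_zero_of_antisymm (chi_comp M) hb

theorem chi_ne_zero_injective {M : Multiset ℕ} {b : Fin N → ℤ} (h : chi M b ≠ 0) :
    Function.Injective b := by
  by_contra hb
  exact h (chi_eq_zero_of_not_injective hb)

/-- The number of gaps below the `i`th bead. -/
def gap (b : Fin N → ℤ) (i : Fin N) : ℤ := b i - (univ.filter fun l => b l < b i).card

theorem sum_gap {b : Fin N → ℤ} (hb : Function.Injective b) :
    ∑ i, gap b i = (∑ i, b i) - tot N := by
  have hmono : StrictMono (b ∘ Tuple.sort b) :=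
    (Tuple.monotone_sort b).strictMono_of_injective (hb.comp (Tuple.sort b).injective)
  simp only [gap, Finset.sum_sub_distrib, tot]
  congr 1
  rw [← Equiv.sum_comp (Tuple.sort b)]
  refine Finset.sum_congr rfl fun i _ => ?_
  have : (univ.filter fun l => b l < b (Tuple.sort b i)) =
      (Finset.Iio i).map (Tuple.sort b).toEmbedding := by
    ext l
    simp only [mem_filter, mem_univ, true_and, mem_map_equiv, mem_Iio]
    rw [← hmono.lt_iff_lt]
    simp
  rw [this, card_map, Fin.card_Iio]

theorem card_lt_le {b : Fin N → ℤ} (hb : Function.Injective b) (h0 : ∀ i, 0 ≤ b i) (x : ℤ)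
    (s : Finset ℤ) (hs : ∀ l, b l < x → b l ∉ s) (hsx : s ⊆ Finset.Ico 0 x) :
    ((univ.filter fun l => b l < x).card : ℤ) ≤ ((Finset.Ico (0 : ℤ) x).card : ℤ) - s.card := by
  have h1 : ((univ.filter fun l => b l < x).image b) ⊆ Finset.Ico 0 x \ s := by
    intro y hy
    simp only [mem_image, mem_filter, mem_univ, true_and] at hy
    obtain ⟨l, hl, rfl⟩ := hy
    exact mem_sdiff.mpr ⟨Finset.mem_Ico.mpr ⟨h0 l, hl⟩, hs l hl⟩
  have h2 := card_le_card h1
  rw [card_image_of_injective _ hb, card_sdiff_of_subset hsx] at h2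
  have := card_le_card hsx
  omega

theorem gap_nonneg {b : Fin N → ℤ} (hb : Function.Injective b) (h0 : ∀ i, 0 ≤ b i) (i : Fin N) :
    0 ≤ gap b i := by
  have h := card_lt_le hb h0 (b i) ∅ (fun _ _ => by simp) (empty_subset _)
  rw [Int.card_Ico] at h
  have := h0 i
  simp only [gap, card_empty] at *
  omega

theorem tot_le_sum {b : Fin N → ℤ} (hb : Function.Injective b) (h0 : ∀ i, 0 ≤ b i) :
    tot N ≤ ∑ i, b i := by
  have h1 := sum_gap hb
  have h2 : 0 ≤ ∑ i, gap b i := sum_nonneg fun i _ => gap_nonneg hb h0 i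
  linarith

theorem le_bound {b : Fin N → ℤ} (hb : Function.Injective b) (h0 : ∀ i, 0 ≤ b i) (i : Fin N) :
    b i < N + ((∑ i, b i) - tot N) := by
  have h1 := sum_gap hb
  have h2 : gap b i ≤ ∑ a, gap b a :=
    single_le_sum (fun a _ => gap_nonneg hb h0 a) (mem_univ i)
  have h3 : ((univ.filter fun l => b l < b i).card) < N := by
    have := card_lt_card (s := univ.filter fun l => b l < b i) (t := univ)
      ⟨subset_univ _, fun h => by simpa using h (mem_univ i)⟩
    simpa using this
  rw [gap] at h2
  have : ((univ.filter fun l => b l < b i).card : ℤ) < N := by exact_mod_cast h3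
  linarith

/-- A tuple of small weight occupies every low position. -/
theorem exists_eq_of_small {b : Fin N → ℤ} (hb : Function.Injective b) (h0 : ∀ i, 0 ≤ b i)
    {x : ℤ} (hx : 0 ≤ x) (hsum : ((∑ i, b i) - tot N) + x < N) : ∃ i, b i = x := by
  by_contra hc
  push Not at hc
  rw [← sum_gap hb] at hsum
  have hbelow : ((univ.filter fun l => b l < x).card : ℤ) ≤ x := by
    have h := card_lt_le hb h0 x ∅ (fun _ _ => by simp) (empty_subset _)
    rw [Int.card_Ico] at h
    simp only [card_empty] at h
    omega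
  have habove : ∀ i ∈ univ.filter (fun l => ¬ b l < x), 1 ≤ gap b i := by
    intro i hi
    simp only [mem_filter, mem_univ, true_and, not_lt] at hi
    have hlt : x < b i := lt_of_le_of_ne hi (hc i).symm
    have h := card_lt_le hb h0 (b i) {x} (fun l _ => by simpa using hc l)
      (by simp [hx, hlt])
    rw [Int.card_Ico, card_singleton] at h
    simp only [gap]
    omega
  have h1 : ((univ.filter fun l => ¬ b l < x).card : ℤ) ≤ ∑ i, gap b i := by
    calc ((univ.filter fun l => ¬ b l < x).card : ℤ)
        = ∑ _i ∈ univ.filter (fun l => ¬ b l < x), (1 : ℤ) := by simp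
      _ ≤ ∑ i ∈ univ.filter (fun l => ¬ b l < x), gap b i := sum_le_sum habove
      _ ≤ ∑ i, gap b i := sum_le_sum_of_subset_of_nonneg (subset_univ _)
          fun i _ _ => gap_nonneg hb h0 i
  have h2 := card_filter_add_card_filter_not (s := (univ : Finset (Fin N)))
    (fun l => b l < x)
  rw [card_univ, Fintype.card_fin] at h2
  omega

/-- Raising a bead by `k` in all ways kills a type with no part `k`. -/
theorem sum_chi_raise {k : ℕ} (hk : 0 < k) : ∀ {M : Multiset ℕ}, (∀ l ∈ M, l ≠ k) → M.sum ≤ N →
    ∀ {u : Fin N → ℤ}, (∀ i, 0 ≤ u i) → ∑ i, chi M (sh (-(k : ℤ)) i u) = 0 := by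
  intro M
  induction M using Multiset.induction with
  | empty =>
    intro _ _ u hu
    by_cases hinj : Function.Injective u
    · refine sum_eq_zero fun i _ => ?_
      by_contra h
      have h1 := (chi_ne_zero_nonneg h).2
      rw [sum_sh, Multiset.sum_zero, Nat.cast_zero, add_zero, sub_neg_eq_add] at h1
      have := tot_le_sum hinj hu
      omega
    · exact eq_zero_of_antisymm (F := fun u => ∑ i, chi 0 (sh (-(k : ℤ)) i u)) (fun b π => by
        rw [mul_sum, ← Equiv.sum_comp π.symm]
        exact sum_congr rfl fun i _ => by rw [sh_comp_perm, chi_comp]) hinj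
  | cons l M ih =>
    intro hl hsum u hu
    have hlk : l ≠ k := hl l (Multiset.mem_cons_self _ _)
    rw [Multiset.sum_cons] at hsum
    by_cases hinj : Function.Injective u
    swap
    · exact eq_zero_of_antisymm (F := fun u => ∑ i, chi (l ::ₘ M) (sh (-(k : ℤ)) i u))
        (fun b π => by
          rw [mul_sum, ← Equiv.sum_comp π.symm]
          exact sum_congr rfl fun i _ => by rw [sh_comp_perm, chi_comp]) hinj
    simp only [chi_cons, sh_comm (-(k : ℤ)) (l : ℤ)]
    rw [sum_comm]
    refine sum_eq_zero fun j _ => ?_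
    by_cases hj : (l : ℤ) ≤ u j
    · refine ih (fun a ha => hl a (Multiset.mem_cons_of_mem ha)) (by omega) fun i => ?_
      by_cases hij : i = j
      · subst hij; rw [sh_self]; omega
      · rw [sh_of_ne _ _ hij]; exact hu i
    · refine sum_eq_zero fun i _ => ?_
      by_contra h
      obtain ⟨h0, hs⟩ := chi_ne_zero_nonneg h
      have hi' := chi_ne_zero_injective h
      have hij : i = j := by
        by_contra hij
        have := h0 j
        rw [sh_of_ne _ _ (Ne.symm hij), sh_self] at this
        omega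
      subst hij
      rw [sum_sh, sum_sh] at hs
      have hy : 0 ≤ u i - l + k := by
        have := h0 i
        rw [sh_self, sh_self] at this
        omega
      obtain ⟨c, hc⟩ := exists_eq_of_small hinj hu hy (by omega)
      have hci : c ≠ i := fun e => by subst e; omega
      apply hci
      apply hi'
      rw [sh_of_ne _ _ hci, sh_of_ne _ _ hci, sh_self, sh_self, hc]
      ring

end Cfsg.Agent.Lib.SymChar81
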