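import Cfsg.Agent.Lib.SymChar81.Irr
import Cfsg.Agent.Lib.Blocks.Basic
import Mathlib.GroupTheory.Sylow

/-!
# Residues of beads and blocks of symmetric groups

The residue counts modulo `p` of the bead positions are constant on every `p`-block.
-/

set_option linter.unusedSectionVars false

namespace Cfsg.Agent.Lib.SymChar81

open Finset
open scoped ComplexConjugate

variable {N n p : ℕ}

/-- A set of characters whose columns at regular and singular elements are orthogonal has a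
locally integral idempotent. -/
theorem memLocalRing_of_sum_zero {G : Type} [Group G] [Fintype G] {M : Ideal Cfsg.AlgInt}
    [M.IsMaximal] [Fact p.Prime] (hM : Cfsg.IsPModular p M)
    [Fintype (Cfsg.IrrCharacter G)] (A : Set (Cfsg.IrrCharacter G)) [DecidablePred (· ∈ A)]
    (h : ∀ g x : G, Cfsg.IsPRegular p g → ¬ Cfsg.IsPRegular p x →
      ∑ χ : Cfsg.IrrCharacter G with χ ∈ A, (χ : G → ℂ) g * conj ((χ : G → ℂ) x) = 0) (g : G) :
    Cfsg.MemLocalRing M (Cfsg.blockCoeff A g) := by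
  classical
  have hp : p.Prime := Fact.out
  have h1 : Cfsg.IsPRegular p (1 : G) := by
    rw [Cfsg.IsPRegular, orderOf_one]; exact hp.not_dvd_one
  show Cfsg.blockCoeff A g ∈ Blocks.localRing M
  rw [Blocks.blockCoeff_eq_sum]
  by_cases hg : Cfsg.IsPRegular p g
  swap
  · rw [h 1 g h1 hg, mul_zero]; exact zero_mem _
  obtain ⟨P⟩ : Nonempty (Sylow p G) := inferInstance
  set φ : G → ℂ := fun x =>
    ∑ χ : Cfsg.IrrCharacter G with χ ∈ A, (χ : G → ℂ) x * conj ((χ : G → ℂ) g) with hφ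
  have hzero : ∀ x : (P : Subgroup G), x ≠ 1 → φ x = 0 := by
    intro x hx
    have hs : ¬ Cfsg.IsPRegular p (x : G) := by
      intro hreg
      obtain ⟨k, hk⟩ := (IsPGroup.iff_orderOf.mp P.2) x
      rw [Cfsg.IsPRegular, Subgroup.orderOf_coe, hk] at hreg
      rcases k with _ | k
      · exact hx (orderOf_eq_one_iff.mp (by rw [hk, pow_zero]))
      · exact hreg (dvd_pow_self p k.succ_ne_zero)
    have e := congrArg conj (h g x hg hs)
    simp only [map_sum, map_mul, RingHomCompTriple.comp_apply, RingHom.id_apply,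
      map_zero] at e
    rw [hφ]
    refine Eq.trans (sum_congr rfl fun χ _ => ?_) e
    rw [mul_comm]
  have hsum : ∑ x : (P : Subgroup G), φ x = φ 1 :=
    (sum_eq_single (1 : (P : Subgroup G)) (fun x _ hx => hzero x hx) (by simp)).trans rfl
  have hmem : (Nat.card (P : Subgroup G) : ℂ)⁻¹ * φ 1 ∈ Blocks.localRing M := by
    rw [← hsum, hφ]
    simp only
    rw [sum_comm, mul_sum]
    refine sum_mem fun χ _ => ?_
    obtain ⟨k, hk⟩ := Characters.Basic.exists_classInner_nat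
      (Characters.Basic.isCharacter_comp (P : Subgroup G).subtype
        (Characters.Basic.isCharacter_irr χ))
      (Characters.Basic.isCharacter_one (G := (P : Subgroup G)))
    have hk' : (Nat.card (P : Subgroup G) : ℂ)⁻¹ * ∑ x : (P : Subgroup G),
        (χ : G → ℂ) x * conj ((χ : G → ℂ) g) = (k : ℂ) * conj ((χ : G → ℂ) g) := by
      rw [← sum_mul, ← mul_assoc, ← hk, Cfsg.classInner]
      simp
    rw [hk', ← Characters.Basic.apply_inv (Characters.Basic.isCharacter_irr χ)]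
    exact mul_mem (natCast_mem _ _) (Blocks.mem_localRing_of_isIntegral
      (Characters.Basic.isIntegral_apply (Characters.Basic.isCharacter_irr χ) _))
  have hsplit : (Nat.card G : ℂ)⁻¹ * (∑ χ : Cfsg.IrrCharacter G with χ ∈ A,
      (χ : G → ℂ) 1 * conj ((χ : G → ℂ) g)) = (((P : Subgroup G).index : ℂ))⁻¹ *
        ((Nat.card (P : Subgroup G) : ℂ)⁻¹ * φ 1) := by
    rw [← (P : Subgroup G).card_mul_index, Nat.cast_mul, mul_inv_rev, mul_assoc]
  rw [hsplit]
  exact mul_mem (Blocks.natCast_inv_mem_localRing hM P.not_dvd_index) hmem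

/-- The residue counts. -/
def rc (p : ℕ) (b : Fin N → ℤ) (r : ℕ) : ℕ := (univ.filter fun i => b i % (p : ℤ) = r).card

theorem rc_comp (b : Fin N → ℤ) (π : Equiv.Perm (Fin N)) : rc p (b ∘ π) = rc p b := by
  funext r
  exact card_bij' (fun i _ => π i) (fun i _ => π.symm i) (by simp) (by simp) (by simp) (by simp)

theorem rc_sh {k : ℤ} (hk : (p : ℤ) ∣ k) (i : Fin N) (b : Fin N → ℤ) :
    rc p (sh k i b) = rc p b := by
  funext r
  rw [rc, rc]
  congr 1
  refine filter_congr fun a _ => ?_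
  by_cases ha : a = i
  · subst ha
    obtain ⟨c, rfl⟩ := hk
    rw [sh_self, Int.sub_mul_emod_self_left]
  · rw [sh_of_ne _ _ ha]

/-- Non-negative tuples of weight `n` with residue counts `R`. -/
noncomputable def Box (p n : ℕ) (R : ℕ → ℕ) : Finset (Fin N → ℤ) := by
  classical
  exact (Fintype.piFinset fun _ : Fin N => Icc (0 : ℤ) (tot N + n)).filter fun b =>
    ∑ i, b i = tot N + n ∧ rc p b = R

theorem mem_box {R : ℕ → ℕ} {b : Fin N → ℤ} :
    b ∈ Box p n R ↔ (∀ i, 0 ≤ b i) ∧ ∑ i, b i = tot N + n ∧ rc p b = R := by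
  classical
  simp only [Box, mem_filter, Fintype.mem_piFinset, mem_Icc]
  refine ⟨fun h => ⟨fun i => (h.1 i).1, h.2⟩, fun h => ⟨fun i => ⟨h.1 i, ?_⟩, h.2⟩⟩
  rw [← h.2.1]
  exact single_le_sum (fun a _ => h.1 a) (mem_univ i)

/-- Removing a part divisible by `p` stays inside the residue class. -/
theorem sum_box_cons {A : Type*} [AddCommGroup A] {k : ℕ} (hk : p ∣ k) (hkn : k ≤ n)
    (R : ℕ → ℕ) (T : Multiset ℕ) (F : (Fin N → ℤ) → A) :
    ∑ b ∈ Box p n R, chi (k ::ₘ T) b • F b =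
      ∑ u ∈ Box p (n - k) R, chi T u • ∑ i, F (sh (-(k : ℤ)) i u) := by
  simp only [chi_cons, sum_smul, smul_sum]
  rw [sum_comm, sum_comm (s := Box p (n - k) R)]
  refine sum_congr rfl fun i _ => ?_
  have hkZ : (p : ℤ) ∣ (k : ℤ) := Int.natCast_dvd_natCast.mpr hk
  have hback : ∀ b : Fin N → ℤ, sh (-(k : ℤ)) i (sh (k : ℤ) i b) = b := fun b => by
    have := sh_sh_neg (-(k : ℤ)) i b
    rwa [neg_neg] at this
  refine sum_bij_ne_zero (fun b _ _ => sh (k : ℤ) i b) ?_ ?_ ?_ ?_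
  · intro b hb hne
    obtain ⟨h0, hs, hr⟩ := mem_box.mp hb
    have hc : chi T (sh (k : ℤ) i b) ≠ 0 := fun e => hne (by rw [e, zero_smul])
    refine mem_box.mpr ⟨(chi_ne_zero_nonneg hc).1, ?_, by rw [rc_sh hkZ, hr]⟩
    rw [sum_sh, hs, Nat.cast_sub hkn]
    ring
  · intro b _ _ b' _ _ e
    rw [← hback b, e, hback]
  · intro u hu hne
    obtain ⟨h0, hs, hr⟩ := mem_box.mp hu
    refine ⟨sh (-(k : ℤ)) i u, mem_box.mpr ⟨fun a => ?_, ?_, ?_⟩, ?_, sh_sh_neg _ i u⟩
    · by_cases ha : a = i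
      · subst ha; have := h0 a; rw [sh_self]; omega
      · rw [sh_of_ne _ _ ha]; exact h0 a
    · rw [sum_sh, hs, Nat.cast_sub hkn]; ring
    · rw [rc_sh hkZ.neg_right, hr]
    · rwa [sh_sh_neg]
  · intro b _ _
    rw [hback]

theorem isPRegular_iff [Fact p.Prime] (σ : Equiv.Perm (Fin n)) :
    Cfsg.IsPRegular p σ ↔ ∀ k ∈ otype σ, ¬ p ∣ k := by
  have hp : p.Prime := Fact.out
  rw [Cfsg.IsPRegular, ← Equiv.Perm.lcm_cycleType]
  constructor
  · intro h k hk hdvd
    have hk1 : k ≠ 1 := fun e => hp.not_dvd_one (e ▸ hdvd)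
    exact h (hdvd.trans (Multiset.dvd_lcm (by
      rw [← otype_filter_eq_cycleType]; exact Multiset.mem_filter.mpr ⟨hk, hk1⟩)))
  · intro h hdvd
    have h' : p ∣ σ.cycleType.prod := hdvd.trans
      (Multiset.lcm_dvd.mpr fun a ha => Multiset.dvd_prod ha)
    obtain ⟨a, ha, hpa⟩ := hp.prime.exists_mem_multiset_dvd h'
    rw [← otype_filter_eq_cycleType] at ha
    exact h a (Multiset.mem_filter.mp ha).1 hpa

/-- Raising a bead by a multiple of `p` in all ways vanishes on regular elements. -/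
theorem sum_theta_raise [Fact p.Prime] (hn : n ≤ N) {k : ℕ} (hk : 0 < k) (hpk : p ∣ k)
    {σ : Equiv.Perm (Fin n)} (hσ : Cfsg.IsPRegular p σ) {u : Fin N → ℤ} (hu : ∀ i, 0 ≤ u i) :
    ∑ i, chi (otype σ) (sh (-(k : ℤ)) i u) = 0 :=
  sum_chi_raise hk (fun _ hl e => (isPRegular_iff σ).mp hσ _ (e ▸ hl) hpk)
    (by rw [otype_sum, Fintype.card_fin]; exact hn) hu

theorem sum_box_chi [Fact p.Prime] (hn : n ≤ N) (R : ℕ → ℕ) {σ τ : Equiv.Perm (Fin n)}
    (hσ : Cfsg.IsPRegular p σ) (hτ : ¬ Cfsg.IsPRegular p τ) :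
    ∑ b ∈ Box (N := N) p n R, chi (otype σ) b * chi (otype τ) b = 0 := by
  rw [isPRegular_iff] at hτ
  push Not at hτ
  obtain ⟨k, hk, hpk⟩ := hτ
  have hcons := Multiset.cons_erase hk
  have hkn : k ≤ n := (Multiset.le_sum_of_mem hk).trans (by rw [otype_sum, Fintype.card_fin])
  rw [← hcons]
  have h := sum_box_cons (N := N) hpk hkn R ((otype τ).erase k) (fun b => chi (otype σ) b)
  simp only [smul_eq_mul] at h
  rw [sum_congr rfl fun b _ => mul_comm (chi (otype σ) b) _, h]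
  refine sum_eq_zero fun u hu => ?_
  rw [sum_theta_raise hn (otype_pos hk) hpk hσ (mem_box.mp hu).1, mul_zero]

/-! ## Characters and beads -/

/-- The character `χ` is a signed bead function of `b`. -/
def HasBead (n : ℕ) (χ : Cfsg.IrrCharacter (Equiv.Perm (Fin n))) (b : Fin N → ℤ) : Prop :=
  IsBead n b ∧ ∃ e : ℂ, (e = 1 ∨ e = -1) ∧ (χ : Equiv.Perm (Fin n) → ℂ) = e • theta n b

theorem exists_hasBead (hn : n ≤ N) (χ : Cfsg.IrrCharacter (Equiv.Perm (Fin n))) :
    ∃ b : Fin N → ℤ, HasBead n χ b := exists_bead hn χ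

theorem exists_char_of_bead {b : Fin N → ℤ} (hb : IsBead n b) :
    ∃ χ : Cfsg.IrrCharacter (Equiv.Perm (Fin n)), HasBead n χ b := by
  rcases signed_theta hb with h | h
  · exact ⟨⟨_, h⟩, hb, 1, Or.inl rfl, (one_smul _ _).symm⟩
  · exact ⟨⟨_, h⟩, hb, -1, Or.inr rfl, (neg_one_smul ℂ (theta n b)).symm⟩

theorem isBead_comp {b : Fin N → ℤ} (hb : IsBead n b) (π : Equiv.Perm (Fin N)) :
    IsBead n (b ∘ π) :=
  ⟨hb.1.comp π.injective, fun i => hb.2.1 _, (Equiv.sum_comp π b).trans hb.2.2⟩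

theorem HasBead.comp {χ : Cfsg.IrrCharacter (Equiv.Perm (Fin n))} {b : Fin N → ℤ}
    (h : HasBead n χ b) (π : Equiv.Perm (Fin N)) : HasBead n χ (b ∘ π) := by
  obtain ⟨hb, e, he, hχ⟩ := h
  refine ⟨isBead_comp hb π, e * ((Equiv.Perm.sign π : ℤ) : ℂ), ?_, ?_⟩
  · rcases he with rfl | rfl <;> rcases Int.units_eq_one_or (Equiv.Perm.sign π) with h | h <;>
      simp [h]
  · rw [hχ, theta_comp, smul_smul, mul_assoc, ← Int.cast_mul, Int.units_coe_mul_self,
      Int.cast_one, mul_one]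

theorem HasBead.exists_perm {χ : Cfsg.IrrCharacter (Equiv.Perm (Fin n))} {b b' : Fin N → ℤ}
    (h : HasBead n χ b) (h' : HasBead n χ b') : ∃ π : Equiv.Perm (Fin N), b' = b ∘ π := by
  obtain ⟨-, e, he, hχ⟩ := h
  obtain ⟨-, e', he', hχ'⟩ := h'
  have h1 := Characters.Basic.classInner_self_irr χ
  nth_rw 1 [hχ] at h1
  rw [hχ'] at h1
  by_contra hne
  push Not at hne
  have hz : eps n b b' = 0 := by
    unfold eps
    split_ifs
    · exact sum_eq_zero fun τ _ => by rw [if_neg (hne τ), mul_zero]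
    · rfl
  have h2 : Cfsg.classInner (e • theta n b) (e' • theta n b') =
      e * conj e' * Cfsg.classInner (theta n b) (theta n b') := by
    simp only [Cfsg.classInner, mul_sum, Pi.smul_apply, smul_eq_mul, map_mul]
    exact sum_congr rfl fun _ _ => by ring
  rw [h2, classInner_theta, hz] at h1
  simp at h1

theorem HasBead.rc_eq {χ : Cfsg.IrrCharacter (Equiv.Perm (Fin n))} {b b' : Fin N → ℤ}
    (h : HasBead n χ b) (h' : HasBead n χ b') : rc p b' = rc p b := by
  obtain ⟨π, rfl⟩ := h.exists_perm h'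
  exact rc_comp b π

theorem HasBead.eq {χ χ' : Cfsg.IrrCharacter (Equiv.Perm (Fin n))} {b : Fin N → ℤ}
    (h : HasBead n χ b) (h' : HasBead n χ' b) : χ = χ' := by
  obtain ⟨-, e, he, hχ⟩ := h
  obtain ⟨-, e', he', hχ'⟩ := h'
  by_contra hne
  have h0 := Characters.Basic.classInner_irr_of_ne hne
  have h1 := Characters.Basic.classInner_self_irr χ
  have : (χ' : Equiv.Perm (Fin n) → ℂ) = (e' * e) • (χ : Equiv.Perm (Fin n) → ℂ) := by
    rw [hχ, hχ', smul_smul, mul_assoc]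
    rcases he with rfl | rfl <;> simp
  rw [this] at h0
  have h2 : Cfsg.classInner (χ : Equiv.Perm (Fin n) → ℂ) ((e' * e) • (χ : Equiv.Perm (Fin n) → ℂ))
      = conj (e' * e) * Cfsg.classInner (χ : Equiv.Perm (Fin n) → ℂ) χ := by
    simp only [Cfsg.classInner, mul_sum, Pi.smul_apply, smul_eq_mul, map_mul]
    exact sum_congr rfl fun _ _ => by ring
  rw [h2, h1] at h0
  rcases he with rfl | rfl <;> rcases he' with rfl | rfl <;> simp at h0

/-- The residue counts are constant on a block. -/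
theorem rc_eq_of_block [Fact p.Prime] (hn : n ≤ N) {M : Ideal Cfsg.AlgInt}
    (hM : Cfsg.IsPModular p M) {B : Set (Cfsg.IrrCharacter (Equiv.Perm (Fin n)))}
    (hB : Cfsg.IsPBlock M B) {χ ψ : Cfsg.IrrCharacter (Equiv.Perm (Fin n))} (hχ : χ ∈ B)
    (hψ : ψ ∈ B) {b c : Fin N → ℤ} (hb : HasBead n χ b) (hc : HasBead n ψ c) :
    rc p c = rc p b := by
  classical
  haveI := hM.2.1
  letI := Fintype.ofFinite (Cfsg.IrrCharacter (Equiv.Perm (Fin n)))
  set R := rc p b with hR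
  let A : Set (Cfsg.IrrCharacter (Equiv.Perm (Fin n))) :=
    {θ | ∃ d : Fin N → ℤ, HasBead n θ d ∧ rc p d = R}
  suffices hsub : Cfsg.blockOf M (χ : Equiv.Perm (Fin n) → ℂ) ⊆ A by
    rw [← Blocks.isPBlock_eq_blockOf hB hχ] at hsub
    obtain ⟨d, hd, hdR⟩ := hsub hψ
    rw [← hdR]
    exact hd.rc_eq hc
  refine Blocks.blockOf_subset_of_memLocalRing (A := A)
    (memLocalRing_of_sum_zero hM A fun σ τ hσ hτ => ?_) ⟨b, hb, rfl⟩
  -- pass to beads
  set Bd := (Box (N := N) p n R).filter Function.Injective with hBd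
  have hbead : ∀ d ∈ Bd, IsBead n d := fun d hd => by
    rw [hBd, mem_filter, mem_box] at hd
    exact ⟨hd.2, hd.1.1, hd.1.2.1⟩
  choose ch hch using fun d (hd : d ∈ Bd) => exists_char_of_bead (hbead d hd)
  have hBdA : ∀ θ ∈ A, ∀ d : Fin N → ℤ, HasBead n θ d → d ∈ Bd := by
    rintro θ ⟨d0, hd0, hd0R⟩ d hd
    rw [hBd, mem_filter, mem_box]
    exact ⟨⟨hd.1.2.1, hd.1.2.2, (hd0.rc_eq hd).trans hd0R⟩, hd.1.1⟩
  have hfib : ∀ θ ∈ A, (Bd.filter fun d => HasBead n θ d).card = N.factorial := by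
    intro θ hθ
    obtain ⟨d0, hd0, -⟩ := id hθ
    have e : (Bd.filter fun d => HasBead n θ d) =
        univ.image fun π : Equiv.Perm (Fin N) => d0 ∘ π := by
      ext d
      simp only [mem_filter, mem_image, mem_univ, true_and]
      constructor
      · rintro ⟨-, hd⟩
        obtain ⟨π, rfl⟩ := hd0.exists_perm hd
        exact ⟨π, rfl⟩
      · rintro ⟨π, rfl⟩
        exact ⟨hBdA θ hθ _ (hd0.comp π), hd0.comp π⟩
    rw [e, card_image_of_injective, card_univ, Fintype.card_perm, Fintype.card_fin]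
    exact fun π π' h => Equiv.ext fun i => hd0.1.1 (congrFun h i)
  have key : ∑ θ : Cfsg.IrrCharacter (Equiv.Perm (Fin n)) with θ ∈ A,
      ∑ d ∈ Bd.filter (fun d => HasBead n θ d), ((chi (otype σ) d * chi (otype τ) d : ℤ) : ℂ) =
        ((∑ d ∈ Box (N := N) p n R, chi (otype σ) d * chi (otype τ) d : ℤ) : ℂ) := by
    rw [Int.cast_sum, ← sum_biUnion]
    · refine sum_subset ?_ ?_
      · intro d hd
        simp only [mem_biUnion, mem_filter, hBd] at hd
        obtain ⟨_, _, hd, _⟩ := hd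
        exact hd.1
      · intro d hd hnot
        by_cases hi : Function.Injective d
        · have hdB : d ∈ Bd := mem_filter.mpr ⟨hd, hi⟩
          exact absurd (mem_biUnion.mpr ⟨ch d hdB, mem_filter.mpr ⟨mem_univ _, d, hch d hdB,
            (mem_box.mp hd).2.2⟩, mem_filter.mpr ⟨hdB, hch d hdB⟩⟩) hnot
        · rw [chi_eq_zero_of_not_injective hi, zero_mul, Int.cast_zero]
    · intro θ _ θ' _ hne
      exact disjoint_filter.mpr fun d _ h h' => hne (h.eq h')
  rw [sum_box_chi hn R hσ hτ, Int.cast_zero] at key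
  have hterm : ∀ θ ∈ univ.filter (fun θ : Cfsg.IrrCharacter (Equiv.Perm (Fin n)) => θ ∈ A),
      ∑ d ∈ Bd.filter (fun d => HasBead n θ d), ((chi (otype σ) d * chi (otype τ) d : ℤ) : ℂ) =
        (N.factorial : ℂ) * ((θ : Equiv.Perm (Fin n) → ℂ) σ *
          conj ((θ : Equiv.Perm (Fin n) → ℂ) τ)) := by
    intro θ hθ
    rw [mem_filter] at hθ
    rw [← hfib θ hθ.2, ← nsmul_eq_mul, ← sum_const]
    refine sum_congr rfl fun d hd => ?_
    obtain ⟨-, -, e, he, hθd⟩ := mem_filter.mp hd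
    rw [hθd]
    rcases he with rfl | rfl <;> simp [theta]
  rw [sum_congr rfl hterm, ← mul_sum, mul_eq_zero] at key
  exact key.resolve_left (Nat.cast_ne_zero.mpr N.factorial_ne_zero)

end Cfsg.Agent.Lib.SymChar81
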