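import Mathlib.Data.Finset.Max
import Mathlib.Algebra.BigOperators.Intervals
import Mathlib.Algebra.BigOperators.Ring.Finset
import Mathlib.Algebra.Order.BigOperators.Group.Finset
import Mathlib.Data.Nat.Prime.Basic
import Mathlib.Data.Nat.Lattice
import Mathlib.Tactic.Ring
import Mathlib.Tactic.Linarith

/-!
# Bead sets on `p` runners

The weight of a bead set and the bound `(p - 1) * p ^ (w - 1)` for the number of bead sets of
weight `w` with given runner lengths and nothing moved on runner `0`.
-/

namespace Cfsg.Agent.Lib.SymChar81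

open Finset

/-- The runner `r`. -/
def runner (p r : ℕ) (B : Finset ℕ) : Finset ℕ := B.filter fun x => x % p = r

/-- The gaps below `x` on its runner. -/
def gaps (p : ℕ) (B : Finset ℕ) (x : ℕ) : Finset ℕ :=
  (range x).filter fun y => y % p = x % p ∧ y ∉ B

/-- The weight of the runner `r`. -/
def wr (p r : ℕ) (B : Finset ℕ) : ℕ := ∑ x ∈ runner p r B, (gaps p B x).card

/-- The weight. -/
def wt (p : ℕ) (B : Finset ℕ) : ℕ := ∑ r ∈ range p, wr p r B

theorem sum_below : ∀ s : Finset ℕ,
    ∑ x ∈ s, (s.filter (· < x)).card = ∑ i ∈ range s.card, i := by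
  intro s
  induction s using Finset.induction_on_max with
  | empty => simp
  | insert a s ha ih =>
    have hmem : a ∉ s := fun h => lt_irrefl a (ha a h)
    rw [sum_insert hmem, card_insert_of_notMem hmem, sum_range_succ, add_comm]
    congr 1
    · rw [← ih]
      refine sum_congr rfl fun x hx => ?_
      rw [filter_insert, if_neg (by have := ha x hx; omega)]
    · rw [filter_insert, if_neg (lt_irrefl a), filter_true_of_mem ha]

theorem card_runner_range {p : ℕ} (hp : 0 < p) (x : ℕ) :
    ((range x).filter fun y => y % p = x % p).card = x / p := by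
  have e : (range x).filter (fun y => y % p = x % p) =
      (range (x / p)).image (fun j => x % p + p * j) := by
    ext y
    simp only [mem_filter, mem_range, mem_image]
    constructor
    · rintro ⟨hy, hm⟩
      refine ⟨y / p, ?_, by rw [← hm]; exact Nat.mod_add_div y p⟩
      have h1 := Nat.mod_add_div y p
      have h2 := Nat.mod_add_div x p
      by_contra hc
      have : p * (x / p) ≤ p * (y / p) := Nat.mul_le_mul_left p (by omega)
      omega
    · rintro ⟨j, hj, rfl⟩
      refine ⟨?_, ?_⟩
      · have h2 := Nat.mod_add_div x p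
        have : p * j + p ≤ p * (x / p) := by
          rw [← Nat.mul_succ]; exact Nat.mul_le_mul_left p hj
        omega
      · rw [Nat.add_mul_mod_self_left, Nat.mod_mod]
  rw [e, card_image_of_injective, card_range]
  intro a b h
  exact Nat.eq_of_mul_eq_mul_left hp (by simpa using h)

/-- The sum of the positions on a runner determines its weight. -/
theorem runner_sum {p : ℕ} (hp : 0 < p) (r : ℕ) (B : Finset ℕ) :
    ∑ x ∈ runner p r B, x = r * (runner p r B).card +
      p * ((∑ i ∈ range (runner p r B).card, i) + wr p r B) := by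
  have hc : r * (runner p r B).card = ∑ _x ∈ runner p r B, r :=
    ((Finset.sum_const_nat fun _ _ => rfl).trans (mul_comm _ _)).symm
  rw [← sum_below, wr, ← sum_add_distrib, mul_sum, hc, ← sum_add_distrib]
  refine sum_congr rfl fun x hx => ?_
  have hxr : x % p = r := (mem_filter.mp hx).2
  have hsplit : ((runner p r B).filter (· < x)).card + (gaps p B x).card = x / p := by
    rw [← card_runner_range hp x,
      ← card_filter_add_card_filter_not (s := (range x).filter fun y => y % p = x % p) (· ∈ B)]
    congr 1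
    · congr 1
      ext y
      simp only [runner, mem_filter, mem_range, hxr]
      tauto
    · congr 1
      ext y
      simp only [gaps, mem_filter, mem_range]
      tauto
  rw [hsplit, ← hxr, Nat.mod_add_div]

theorem wr_congr {p r : ℕ} (hp : 0 < p) {B B' : Finset ℕ}
    (h : runner p r B = runner p r B') : wr p r B = wr p r B' := by
  have h1 := runner_sum hp r B
  have h2 := runner_sum hp r B'
  rw [h] at h1
  exact Nat.add_left_cancel (n := ∑ i ∈ range (runner p r B').card, i)
    (Nat.eq_of_mul_eq_mul_left hp (by omega))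

/-- The first gap on the runner `r`. -/
noncomputable def first (p r : ℕ) (B : Finset ℕ) : ℕ := sInf {y | y % p = r ∧ y ∉ B}

theorem first_spec {p r : ℕ} (hr : r < p) (B : Finset ℕ) :
    first p r B % p = r ∧ first p r B ∉ B ∧ ∀ y, y % p = r → y < first p r B → y ∈ B := by
  have hne : {y | y % p = r ∧ y ∉ B}.Nonempty := by
    refine ⟨r + p * (B.sup id + 1), ?_, fun hc => ?_⟩
    · rw [Nat.add_mul_mod_self_left, Nat.mod_eq_of_lt hr]
    · have := le_sup (f := id) hc
      simp only [id] at this
      have : B.sup id + 1 ≤ p * (B.sup id + 1) := Nat.le_mul_of_pos_left _ (by omega)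
      omega
  have h := Nat.sInf_mem hne
  refine ⟨h.1, h.2, fun y hy hlt => ?_⟩
  by_contra hc
  exact Nat.notMem_of_lt_sInf hlt ⟨hy, hc⟩

theorem first_eq {p r : ℕ} (hr : r < p) {B : Finset ℕ} {g : ℕ} (h1 : g % p = r) (h2 : g ∉ B)
    (h3 : ∀ y, y % p = r → y < g → y ∈ B) : first p r B = g := by
  obtain ⟨e1, e2, e3⟩ := first_spec hr B
  rcases lt_trichotomy (first p r B) g with h | h | h
  · exact absurd (h3 _ e1 h) e2
  · exact h
  · exact absurd (e3 _ h1 h) h2

theorem wr_pos_iff {p r : ℕ} (hr : r < p) {B : Finset ℕ} :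
    0 < wr p r B ↔ ∃ x ∈ B, x % p = r ∧ first p r B < x := by
  obtain ⟨e1, e2, e3⟩ := first_spec hr B
  rw [wr, sum_pos_iff_of_nonneg fun _ _ => Nat.zero_le _]
  constructor
  · rintro ⟨x, hx, hpos⟩
    obtain ⟨y, hy⟩ := card_pos.mp hpos
    simp only [gaps, mem_filter, mem_range] at hy
    have hxr := (mem_filter.mp hx).2
    refine ⟨x, (mem_filter.mp hx).1, hxr, ?_⟩
    by_contra hc
    exact hy.2.2 (e3 y (hy.2.1.trans hxr) (by omega))
  · rintro ⟨x, hx, hxr, hlt⟩
    exact ⟨x, mem_filter.mpr ⟨hx, hxr⟩, card_pos.mpr ⟨first p r B,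
      mem_filter.mpr ⟨mem_range.mpr hlt, e1.trans hxr.symm, e2⟩⟩⟩

/-- The first bead above the first gap. -/
noncomputable def second (p r : ℕ) (B : Finset ℕ) : ℕ :=
  sInf {x | x ∈ B ∧ x % p = r ∧ first p r B < x}

theorem second_spec {p r : ℕ} (hr : r < p) {B : Finset ℕ} (h : 0 < wr p r B) :
    second p r B ∈ B ∧ second p r B % p = r ∧ first p r B < second p r B ∧
      ∀ x ∈ B, x % p = r → first p r B < x → second p r B ≤ x := by
  have hne : {x | x ∈ B ∧ x % p = r ∧ first p r B < x}.Nonempty := (wr_pos_iff hr).mp h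
  have h' := Nat.sInf_mem hne
  exact ⟨h'.1, h'.2.1, h'.2.2, fun x h1 h2 h3 => Nat.sInf_le ⟨h1, h2, h3⟩⟩

/-- The last runner carrying weight. -/
noncomputable def lastRunner (p : ℕ) (B : Finset ℕ) : ℕ :=
  ((range p).filter fun r => 0 < wr p r B).sup id

theorem lastRunner_spec {p : ℕ} {B : Finset ℕ} (h : 0 < wt p B) :
    lastRunner p B < p ∧ 0 < wr p (lastRunner p B) B ∧
      ∀ r < p, lastRunner p B < r → wr p r B = 0 := by
  rw [wt, sum_pos_iff_of_nonneg fun _ _ => Nat.zero_le _] at h
  obtain ⟨r, hr, hpos⟩ := h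
  obtain ⟨a, ha, hsup⟩ := exists_mem_eq_sup ((range p).filter fun r => 0 < wr p r B)
    ⟨r, mem_filter.mpr ⟨hr, hpos⟩⟩ id
  rw [mem_filter, mem_range] at ha
  simp only [id] at hsup
  refine ⟨by rw [lastRunner, hsup]; exact ha.1, by rw [lastRunner, hsup]; exact ha.2,
    fun c hc hlt => ?_⟩
  by_contra hne
  have := le_sup (f := id) (mem_filter.mpr ⟨mem_range.mpr hc, Nat.pos_of_ne_zero hne⟩ :
    c ∈ (range p).filter fun r => 0 < wr p r B)
  simp only [id, lastRunner] at *
  omega

/-- Move one bead one step down. -/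
noncomputable def parent (p : ℕ) (B : Finset ℕ) : Finset ℕ :=
  insert (second p (lastRunner p B) B - p) (B.erase (second p (lastRunner p B) B))

theorem parent_spec {p : ℕ} {B : Finset ℕ} (h : 0 < wt p B) :
    let r := lastRunner p B
    let x := second p r B
    p ≤ x ∧ (x - p) % p = r ∧ x - p ∉ B ∧ x ∈ B ∧
      (∀ c, (runner p c (parent p B)).card = (runner p c B).card) ∧
      (∀ c, c ≠ r → wr p c (parent p B) = wr p c B) ∧
      wr p r B = wr p r (parent p B) + 1 ∧
      (x - p = first p r B ∧ first p r (parent p B) = x ∨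
        0 < wr p r (parent p B) ∧ second p r (parent p B) = x - p) := by
  intro r x
  obtain ⟨hr, hwr, -⟩ := lastRunner_spec h
  change r < p at hr
  change 0 < wr p r B at hwr
  obtain ⟨hx, hxr, hgx, hmin⟩ := second_spec hr hwr
  obtain ⟨hg1, hg2, hg3⟩ := first_spec hr B
  change x ∈ B at hx
  change x % p = r at hxr
  change first p r B < x at hgx
  have hgp : first p r B + p ≤ x := by
    have h1 := Nat.mod_add_div (first p r B) p
    have h2 := Nat.mod_add_div x p
    have h3 : first p r B / p < x / p := by
      by_contra hc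
      have : p * (x / p) ≤ p * (first p r B / p) := Nat.mul_le_mul_left p (by omega)
      omega
    have : p * (first p r B / p) + p ≤ p * (x / p) := by
      rw [← Nat.mul_succ]; exact Nat.mul_le_mul_left p h3
    omega
  have hpx : p ≤ x := by omega
  have hmod : (x - p) % p = r := by
    rw [← hxr]; conv_rhs => rw [← Nat.sub_add_cancel hpx, Nat.add_mod_right]
  have hnot : x - p ∉ B := fun hc => by
    rcases Nat.lt_or_ge (first p r B) (x - p) with hl | hl
    · have h' : x ≤ x - p := hmin _ hc hmod hl
      omega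
    · exact hg2 (by rwa [show first p r B = x - p by omega])
  have hother : ∀ c, c ≠ r → runner p c (parent p B) = runner p c B := by
    intro c hc
    ext y
    simp only [runner, parent, mem_filter, mem_insert, mem_erase]
    constructor
    · rintro ⟨rfl | ⟨-, hy⟩, hyc⟩
      · exact absurd (hyc.symm.trans hmod) hc
      · exact ⟨hy, hyc⟩
    · rintro ⟨hy, hyc⟩
      exact ⟨Or.inr ⟨fun e => hc (hyc.symm.trans (e ▸ hxr)), hy⟩, hyc⟩
  have hrun : runner p r (parent p B) = insert (x - p) ((runner p r B).erase x) := by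
    ext y
    simp only [runner, parent, mem_filter, mem_insert, mem_erase]
    constructor
    · rintro ⟨rfl | ⟨hne, hy⟩, hyc⟩
      · exact Or.inl rfl
      · exact Or.inr ⟨hne, hy, hyc⟩
    · rintro (rfl | ⟨hne, hy, hyc⟩)
      · exact ⟨Or.inl rfl, hmod⟩
      · exact ⟨Or.inr ⟨hne, hy⟩, hyc⟩
  have hxrun : x ∈ runner p r B := mem_filter.mpr ⟨hx, hxr⟩
  have hnrun : x - p ∉ (runner p r B).erase x := fun hc => hnot (mem_filter.mp (mem_erase.mp hc).2).1
  have hcard : (runner p r (parent p B)).card = (runner p r B).card := by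
    rw [hrun, card_insert_of_notMem hnrun, card_erase_add_one hxrun]
  have hp : 0 < p := by omega
  have hdrop : wr p r B = wr p r (parent p B) + 1 := by
    have h1 := runner_sum hp r B
    have h2 := runner_sum hp r (parent p B)
    rw [hcard, hrun, sum_insert hnrun] at h2
    have h3 : (∑ y ∈ (runner p r B).erase x, y) + x = ∑ y ∈ runner p r B, y :=
      sum_erase_add _ (fun y => y) hxrun
    set S : ℕ := ∑ i ∈ range (runner p r B).card, i
    have h4 : p * (S + wr p r B) = p * (S + (wr p r (parent p B) + 1)) := by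
      rw [show S + (wr p r (parent p B) + 1) = (S + wr p r (parent p B)) + 1 by ring,
        Nat.mul_succ]
      omega
    exact Nat.add_left_cancel (Nat.eq_of_mul_eq_mul_left hp h4)
  refine ⟨hpx, hmod, hnot, hx, fun c => ?_, fun c hc => wr_congr hp (hother c hc), hdrop, ?_⟩
  · by_cases hc : c = r
    · rw [hc]; exact hcard
    · rw [hother c hc]
  · have hmem : ∀ y, y ∈ parent p B ↔ y = x - p ∨ (y ≠ x ∧ y ∈ B) := fun y => by
      simp only [parent, mem_insert, mem_erase, r, x]
    by_cases hcase : x - p = first p r B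
    · refine Or.inl ⟨hcase, first_eq hr hxr (fun hc => ?_) fun y hy hlt => ?_⟩
      · rcases (hmem x).mp hc with h' | h'
        · omega
        · exact h'.1 rfl
      · rw [hmem]
        rcases lt_trichotomy y (first p r B) with hl | hl | hl
        · exact Or.inr ⟨by omega, hg3 y hy hl⟩
        · exact Or.inl (by omega)
        · exfalso
          have h1 := Nat.mod_add_div y p
          have h2 := Nat.mod_add_div x p
          have h2' := Nat.mod_add_div (first p r B) p
          have a1 : first p r B / p < y / p := by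
            by_contra hc
            have := Nat.mul_le_mul_left p (Nat.le_of_not_lt hc)
            omega
          have a2 : y / p < x / p := by
            by_contra hc
            have := Nat.mul_le_mul_left p (Nat.le_of_not_lt hc)
            omega
          have := Nat.mul_le_mul_left p (Nat.succ_le_of_lt a1)
          have := Nat.mul_le_mul_left p (Nat.succ_le_of_lt a2)
          simp only [Nat.mul_succ] at *
          omega
    · have hf : first p r (parent p B) = first p r B := by
        refine first_eq hr hg1 (fun hc => ?_) fun y hy hlt => (hmem y).mpr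
          (Or.inr ⟨by omega, hg3 y hy hlt⟩)
        rcases (hmem _).mp hc with h' | h'
        · exact hcase h'.symm
        · exact hg2 h'.2
      have hin : x - p ∈ parent p B := (hmem _).mpr (Or.inl rfl)
      have hpos : 0 < wr p r (parent p B) :=
        (wr_pos_iff hr).mpr ⟨x - p, hin, hmod, by rw [hf]; omega⟩
      obtain ⟨s1, s2, s3, s4⟩ := second_spec hr hpos
      refine Or.inr ⟨hpos, le_antisymm (s4 _ hin hmod (by rw [hf]; omega)) ?_⟩
      rcases (hmem _).mp s1 with h' | h'
      · omega
      · have h'' : x ≤ second p r (parent p B) := hmin _ h'.2 s2 (hf ▸ s3)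
        omega

/-- Bead sets of weight `w` with runner lengths `R` and runner `0` unmoved. -/
def Fam (p : ℕ) (R : ℕ → ℕ) (w : ℕ) : Set (Finset ℕ) :=
  {B | (∀ r < p, (runner p r B).card = R r) ∧ wr p 0 B = 0 ∧ wt p B = w}

theorem eq_of_mem_fam_zero {p : ℕ} (hp : 0 < p) {R : ℕ → ℕ} {B B' : Finset ℕ}
    (h : B ∈ Fam p R 0) (h' : B' ∈ Fam p R 0) : B = B' := by
  have key : ∀ B ∈ Fam p R 0, ∀ y, y ∈ B ↔ y < first p (y % p) B := by
    rintro B ⟨-, -, h0⟩ y
    have hr : y % p < p := Nat.mod_lt _ hp
    obtain ⟨g1, g2, g3⟩ := first_spec hr B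
    have hz : ¬ 0 < wr p (y % p) B := by
      have := sum_eq_zero_iff.mp h0 (y % p) (mem_range.mpr hr)
      omega
    rw [wr_pos_iff hr] at hz
    refine ⟨fun hy => ?_, fun hy => g3 y rfl hy⟩
    rcases lt_trichotomy y (first p (y % p) B) with hl | hl | hl
    · exact hl
    · exact absurd (hl ▸ hy) g2
    · exact absurd ⟨y, hy, rfl, hl⟩ hz
  have hfirst : ∀ r < p, first p r B = first p r B' := by
    intro r hr
    have aux : ∀ C ∈ Fam p R 0, ∀ D ∈ Fam p R 0, ¬ first p r C < first p r D := by
      intro C hC D hD hlt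
      obtain ⟨c1, c2, -⟩ := first_spec hr C
      have hsub : runner p r C ⊂ runner p r D := by
        rw [Finset.ssubset_iff_of_subset]
        · refine ⟨first p r C, mem_filter.mpr ⟨(key D hD _).mpr (by rw [c1]; exact hlt), c1⟩,
            fun hc => c2 (mem_filter.mp hc).1⟩
        · intro y hy
          rw [runner, mem_filter] at hy ⊢
          refine ⟨(key D hD _).mpr ?_, hy.2⟩
          have := (key C hC _).mp hy.1
          rw [hy.2] at this ⊢
          omega
      have := card_lt_card hsub
      rw [hC.1 r hr, hD.1 r hr] at this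
      omega
    have a1 := aux B h B' h'
    have a2 := aux B' h' B h
    omega
  ext y
  rw [key B h, key B' h', hfirst _ (Nat.mod_lt _ hp)]

theorem parent_mem {p : ℕ} {R : ℕ → ℕ} {w : ℕ} {B : Finset ℕ} (hB : B ∈ Fam p R (w + 1)) :
    parent p B ∈ Fam p R w ∧ lastRunner p B ≠ 0 := by
  obtain ⟨hR, h0, hw⟩ := hB
  have hpos : 0 < wt p B := by omega
  obtain ⟨hlt, hwpos, -⟩ := lastRunner_spec hpos
  obtain ⟨-, -, -, -, hc, ho, hd, -⟩ := parent_spec hpos
  have hne : lastRunner p B ≠ 0 := fun e => by rw [e] at hwpos; omega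
  refine ⟨⟨fun r hr => by rw [hc, hR r hr], by rw [ho 0 (Ne.symm hne)]; exact h0, ?_⟩, hne⟩
  have h1 := sum_erase_add (range p) (fun r => wr p r B) (mem_range.mpr hlt)
  have h2 := sum_erase_add (range p) (fun r => wr p r (parent p B)) (mem_range.mpr hlt)
  have h3 : ∑ r ∈ (range p).erase (lastRunner p B), wr p r (parent p B) =
      ∑ r ∈ (range p).erase (lastRunner p B), wr p r B :=
    sum_congr rfl fun r hr => ho r (mem_erase.mp hr).1
  simp only [wt] at hw ⊢
  omega

/-- The possible places of the moved bead. -/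
noncomputable def cands (p w : ℕ) (C : Finset ℕ) : Finset ℕ :=
  (Ico 1 p).image (fun r => first p r C - p) ∪
    if w = 0 then ∅ else {second p (lastRunner p C) C}

theorem card_cands (p w : ℕ) (hp : 0 < p) (C : Finset ℕ) :
    (cands p w C).card ≤ if w = 0 then p - 1 else p := by
  refine (card_union_le _ _).trans ?_
  have h1 : ((Ico 1 p).image (fun r => first p r C - p)).card ≤ p - 1 :=
    card_image_le.trans (by simp)
  split_ifs with hw
  · simpa using h1
  · rw [card_singleton]; omega

theorem child {p : ℕ} {R : ℕ → ℕ} {w : ℕ} {B : Finset ℕ} (hB : B ∈ Fam p R (w + 1)) :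
    ∃ y ∈ cands p w (parent p B), B = insert (y + p) ((parent p B).erase y) := by
  obtain ⟨hmem, hne⟩ := parent_mem hB
  have hpos : 0 < wt p B := by have := hB.2.2; omega
  obtain ⟨hlt, -, hlast⟩ := lastRunner_spec hpos
  obtain ⟨hpx, -, hnot, hx, -, ho, -, hcase⟩ := parent_spec hpos
  refine ⟨second p (lastRunner p B) B - p, ?_, ?_⟩
  · rw [cands, mem_union, mem_image]
    rcases hcase with ⟨-, h2⟩ | ⟨h1, h2⟩
    · exact Or.inl ⟨lastRunner p B, mem_Ico.mpr ⟨Nat.pos_of_ne_zero hne, hlt⟩, by rw [h2]⟩
    · right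
      have hw : w ≠ 0 := by
        rintro rfl
        have := sum_eq_zero_iff.mp hmem.2.2 (lastRunner p B) (mem_range.mpr hlt)
        omega
      have hr' : lastRunner p (parent p B) = lastRunner p B := by
        have hwpos : 0 < wt p (parent p B) := by have := hmem.2.2; omega
        obtain ⟨a1, a2, a3⟩ := lastRunner_spec hwpos
        rcases lt_trichotomy (lastRunner p (parent p B)) (lastRunner p B) with hl | hl | hl
        · have := a3 _ hlt hl; omega
        · exact hl
        · rw [ho _ (by omega), hlast _ a1 hl] at a2; omega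
      rw [if_neg hw, mem_singleton, hr', h2]
  · rw [Nat.sub_add_cancel hpx, parent, erase_insert (fun h => hnot (mem_erase.mp h).2),
      insert_erase hx]

/-- **The count of bead sets.** -/
theorem fam_finite_card {p : ℕ} (hp : 0 < p) (R : ℕ → ℕ) : ∀ w : ℕ,
    ∃ F : Finset (Finset ℕ), Fam p R w ⊆ ↑F ∧
      F.card ≤ if w = 0 then 1 else (p - 1) * p ^ (w - 1) := by
  intro w
  induction w with
  | zero =>
    by_cases h : (Fam p R 0).Nonempty
    · obtain ⟨B, hB⟩ := h
      exact ⟨{B}, fun C hC => by simp [eq_of_mem_fam_zero hp hC hB], by simp⟩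
    · exact ⟨∅, fun C hC => absurd ⟨C, hC⟩ h, by simp⟩
  | succ w ih =>
    obtain ⟨F, hF, hcard⟩ := ih
    refine ⟨F.biUnion fun C => (cands p w C).image fun y => insert (y + p) (C.erase y), ?_, ?_⟩
    · intro B hB
      obtain ⟨y, hy, e⟩ := child hB
      exact mem_biUnion.mpr ⟨_, hF (parent_mem hB).1, mem_image.mpr ⟨y, hy, e.symm⟩⟩
    · rw [if_neg (Nat.succ_ne_zero w), Nat.add_sub_cancel]
      refine (card_biUnion_le_card_mul _ _ _ fun C _ =>
        card_image_le.trans (card_cands p w hp C)).trans ?_
      rcases Nat.eq_zero_or_pos w with hw | hw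
      · subst hw
        simp only [if_pos, pow_zero, mul_one] at hcard ⊢
        calc F.card * (p - 1) ≤ 1 * (p - 1) := Nat.mul_le_mul_right _ hcard
          _ = p - 1 := one_mul _
      · rw [if_neg (by omega)] at hcard ⊢
        calc F.card * p ≤ (p - 1) * p ^ (w - 1) * p := Nat.mul_le_mul_right _ hcard
          _ = (p - 1) * p ^ w := by rw [mul_assoc, ← pow_succ, Nat.sub_add_cancel hw]

end Cfsg.Agent.Lib.SymChar81
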