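import Cfsg.Agent.Lib.SymChar81.Block
import Cfsg.Agent.Lib.SymChar81.Core

/-!
# Removing all hooks of length `p`

`chi` at a type with `w` parts equal to `p`, where `w` is the weight of the bead set, is a positive
multiple of `chi` of the core; the core has a non-zero value at a type with no part divisible by `p`.
-/

set_option linter.unusedSectionVars false

namespace Cfsg.Agent.Lib.SymChar81

open Finset

variable {N n p : ℕ}

/-- The set of occupied positions of a non-negative tuple. -/
def occ (b : Fin N → ℤ) : Finset ℕ := univ.image fun i => (b i).toNat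

/-- The number of gaps below the `i`th bead on its runner. -/
def gp (p : ℕ) (b : Fin N → ℤ) (i : Fin N) : ℕ := (gaps p (occ b) (b i).toNat).card

/-- The core of a tuple. -/
def core (p : ℕ) (b : Fin N → ℤ) (i : Fin N) : ℤ := b i - p * gp p b i

theorem gaps_eq_zero_iff {p : ℕ} {B : Finset ℕ} {x : ℕ} :
    (gaps p B x).card = 0 ↔ ∀ y < x, y % p = x % p → y ∈ B := by
  rw [card_eq_zero, eq_empty_iff_forall_notMem]
  simp only [gaps, mem_filter, mem_range, not_and, not_not]

theorem mem_occ {b : Fin N → ℤ} (h0 : ∀ i, 0 ≤ b i) {z : ℕ} :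
    z ∈ occ b ↔ ∃ l, b l = z := by
  simp only [occ, mem_image, mem_univ, true_and]
  exact exists_congr fun l => by have := h0 l; omega

/-- Moving a bead down into a free place. -/
theorem gp_sh (hp : 0 < p) {b : Fin N → ℤ} (hinj : Function.Injective b) (h0 : ∀ i, 0 ≤ b i)
    {i : Fin N} (hi : Function.Injective (sh (p : ℤ) i b)) (hi0 : ∀ a, 0 ≤ sh (p : ℤ) i b a) :
    gp p b i = gp p (sh (p : ℤ) i b) i + 1 ∧ ∀ a, a ≠ i → gp p (sh (p : ℤ) i b) a = gp p b a := by
  set c := sh (p : ℤ) i b with hc
  have hci : c i = b i - p := sh_self _ _ _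
  have hca : ∀ a, a ≠ i → c a = b a := fun a ha => sh_of_ne _ _ ha
  obtain ⟨x, hx⟩ := Int.eq_ofNat_of_zero_le (h0 i)
  have hxp : p ≤ x := by have := hi0 i; rw [hci, hx] at this; omega
  have hfree : x - p ∉ occ b := by
    rw [mem_occ h0]
    rintro ⟨l, hl⟩
    have hli : l ≠ i := by rintro rfl; omega
    exact hli (hi (by rw [hca l hli, hci]; omega))
  have hocc : ∀ z, z ∈ occ c ↔ z = x - p ∨ (z ≠ x ∧ z ∈ occ b) := by
    intro z
    rw [mem_occ hi0, mem_occ h0]
    constructor
    · rintro ⟨l, hl⟩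
      by_cases hli : l = i
      · subst hli; left; omega
      · right
        rw [hca l hli] at hl
        refine ⟨fun e => hli (hinj (by rw [hl, hx, e])), l, hl⟩
    · rintro (rfl | ⟨hz, l, hl⟩)
      · exact ⟨i, by omega⟩
      · exact ⟨l, by rw [hca l (by rintro rfl; omega), hl]⟩
  refine ⟨?_, fun a ha => ?_⟩
  · have e : gaps p (occ b) x = insert (x - p) (gaps p (occ c) (x - p)) := by
      have hm : (x - p) % p = x % p := by
        conv_rhs => rw [← Nat.sub_add_cancel hxp, Nat.add_mod_right]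
      ext z
      simp only [gaps, mem_insert, mem_filter, mem_range, hocc, hm]
      constructor
      · rintro ⟨hz, hzm, hzn⟩
        rcases Nat.lt_trichotomy z (x - p) with hl | hl | hl
        · exact Or.inr ⟨hl, hzm, by rintro (h | h) <;> [omega; exact hzn h.2]⟩
        · exact Or.inl hl
        · exfalso
          have h1 := Nat.mod_add_div z p
          have h2 := Nat.mod_add_div x p
          have a1 : z / p < x / p := by
            by_contra hc'
            have := Nat.mul_le_mul_left p (Nat.le_of_not_lt hc')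
            omega
          have := Nat.mul_le_mul_left p (Nat.succ_le_of_lt a1)
          simp only [Nat.mul_succ] at this
          omega
      · rintro (rfl | ⟨hz, hzm, hzn⟩)
        · exact ⟨by omega, hm, hfree⟩
        · exact ⟨by omega, hzm, fun h => hzn (Or.inr ⟨by omega, h⟩)⟩
    rw [gp, gp, hci, hx, show ((x : ℤ)).toNat = x from rfl,
      show ((x : ℤ) - p).toNat = x - p by omega, e, card_insert_of_notMem]
    simp [gaps]
  · rw [gp, gp, hca a ha]
    set y := (b a).toNat with hy
    have hyo : y ∈ occ b := (mem_occ h0).mpr ⟨a, by have := h0 a; omega⟩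
    have hyx : y ≠ x := fun e => ha (hinj (by have := h0 a; omega))
    have hyp : y ≠ x - p := fun e => hfree (e ▸ hyo)
    have hm : (x - p) % p = x % p := by
      conv_rhs => rw [← Nat.sub_add_cancel hxp, Nat.add_mod_right]
    by_cases hcase : x < y ∧ x % p = y % p
    · refine card_bij' (fun z _ => if z = x then x - p else z)
        (fun z _ => if z = x - p then x else z) ?_ ?_ ?_ ?_
      · intro z hz
        simp only [mem_coe, gaps, mem_filter, mem_range, hocc] at hz ⊢
        split_ifs with h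
        · subst h; exact ⟨by omega, hm.trans hcase.2, hfree⟩
        · exact ⟨hz.1, hz.2.1, fun hb => hz.2.2 (Or.inr ⟨h, hb⟩)⟩
      · intro z hz
        simp only [mem_coe, gaps, mem_filter, mem_range, hocc] at hz ⊢
        split_ifs with h
        · subst h
          exact ⟨hcase.1, hcase.2, by rintro (h | h) <;> [omega; exact h.1 rfl]⟩
        · exact ⟨hz.1, hz.2.1, by rintro (h' | h') <;> [exact h h'; exact hz.2.2 h'.2]⟩
      · intro z hz
        simp only [gaps, mem_filter, mem_range, hocc] at hz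
        by_cases h : z = x
        · simp [h]
        · simp only [if_neg h]
          rw [if_neg]
          exact fun e => hz.2.2 (Or.inl e)
      · intro z hz
        simp only [gaps, mem_filter, mem_range] at hz
        by_cases h : z = x - p
        · simp [h]
        · simp only [if_neg h]
          rw [if_neg]
          exact fun e => hz.2.2 (e ▸ (mem_occ h0).mpr ⟨i, hx⟩)
    · congr 1
      refine filter_congr fun z hz => and_congr_right fun hzm => ?_
      rw [mem_range] at hz
      rw [hocc]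
      have hzx : z ≠ x := fun e => hcase ⟨e ▸ hz, e ▸ hzm⟩
      have hzp : z ≠ x - p := by
        intro e
        subst e
        rw [hm] at hzm
        refine hcase ⟨?_, hzm⟩
        by_contra hxy
        have h1 := Nat.mod_add_div y p
        have h2 := Nat.mod_add_div x p
        have a1 : y / p < x / p := by
          by_contra hc'
          have := Nat.mul_le_mul_left p (Nat.le_of_not_lt hc')
          omega
        have := Nat.mul_le_mul_left p (Nat.succ_le_of_lt a1)
        simp only [Nat.mul_succ] at this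
        omega
      simp [hzx, hzp]

theorem core_sh (hp : 0 < p) {b : Fin N → ℤ} (hinj : Function.Injective b) (h0 : ∀ i, 0 ≤ b i)
    {i : Fin N} (hi : Function.Injective (sh (p : ℤ) i b)) (hi0 : ∀ a, 0 ≤ sh (p : ℤ) i b a) :
    core p (sh (p : ℤ) i b) = core p b := by
  obtain ⟨e1, e2⟩ := gp_sh hp hinj h0 hi hi0
  funext a
  by_cases ha : a = i
  · subst ha; rw [core, core, e1, sh_self]; push_cast; ring
  · rw [core, core, e2 a ha, sh_of_ne _ _ ha]

theorem exists_movable (hp : 0 < p) {b : Fin N → ℤ} (hinj : Function.Injective b)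
    (h0 : ∀ i, 0 ≤ b i) (h : 0 < ∑ i, gp p b i) :
    ∃ i, Function.Injective (sh (p : ℤ) i b) ∧ ∀ a, 0 ≤ sh (p : ℤ) i b a := by
  obtain ⟨i0, -, hi0⟩ := sum_pos_iff_of_nonneg (fun _ _ => Nat.zero_le _) |>.mp h
  obtain ⟨i, hi, hmin⟩ := (univ.filter fun i => 0 < gp p b i).exists_min_image b
    ⟨i0, by simpa using hi0⟩
  rw [mem_filter] at hi
  obtain ⟨x, hx⟩ := Int.eq_ofNat_of_zero_le (h0 i)
  obtain ⟨y, hy⟩ := card_pos.mp hi.2
  simp only [gaps, mem_filter, mem_range, hx, Int.toNat_natCast] at hy
  have hxy : y + p ≤ x := by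
    have h1 := Nat.mod_add_div y p
    have h2 := Nat.mod_add_div x p
    have a1 : y / p < x / p := by
      by_contra hc'
      have := Nat.mul_le_mul_left p (Nat.le_of_not_lt hc')
      omega
    have := Nat.mul_le_mul_left p (Nat.succ_le_of_lt a1)
    simp only [Nat.mul_succ] at this
    omega
  have hpx : p ≤ x := by omega
  have hfree : ∀ l, b l ≠ (x : ℤ) - p := by
    intro l hl
    have hly : y ≠ x - p := fun e => hy.2.2 (e ▸ (mem_occ h0).mpr ⟨l, by omega⟩)
    have hl' : (b l).toNat = x - p := by omega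
    have hgl : 0 < gp p b l := by
      refine card_pos.mpr ⟨y, ?_⟩
      simp only [gaps, mem_filter, mem_range, hl']
      refine ⟨by omega, ?_, hy.2.2⟩
      rw [hy.2.1]
      conv_lhs => rw [← Nat.sub_add_cancel hpx, Nat.add_mod_right]
    have := hmin l (mem_filter.mpr ⟨mem_univ _, hgl⟩)
    omega
  refine ⟨i, fun a c hac => ?_, fun a => ?_⟩
  · by_cases ha : a = i <;> by_cases hc : c = i
    · rw [ha, hc]
    · subst ha; rw [sh_self, sh_of_ne _ _ hc, hx] at hac; exact absurd hac.symm (hfree c)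
    · subst hc; rw [sh_self, sh_of_ne _ _ ha, hx] at hac; exact absurd hac (hfree a)
    · rw [sh_of_ne _ _ ha, sh_of_ne _ _ hc] at hac; exact hinj hac
  · by_cases ha : a = i
    · subst ha; rw [sh_self]; omega
    · rw [sh_of_ne _ _ ha]; exact h0 a

/-- **The descent to the core.** -/
theorem chi_replicate (hp : 0 < p) : ∀ (w n : ℕ) (b : Fin N → ℤ), IsBead n b →
    ∑ i, gp p b i = w →
      ∃ m K : ℕ, n = p * w + m ∧ 0 < K ∧ IsBead m (core p b) ∧ (∀ i, gp p (core p b) i = 0) ∧
        ∀ M : Multiset ℕ, M.sum = m →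
          chi (Multiset.replicate w p + M) b = K * chi M (core p b) := by
  intro w
  induction w with
  | zero =>
    intro n b hb hw
    have hz : ∀ i, gp p b i = 0 := fun i => sum_eq_zero_iff.mp hw i (mem_univ i)
    have hc : core p b = b := funext fun i => by simp [core, hz i]
    exact ⟨n, 1, by omega, one_pos, hc.symm ▸ hb, fun i => hc.symm ▸ hz i,
      fun M _ => by simp [hc]⟩
  | succ w ih =>
    intro n b hb hw
    classical
    set J := univ.filter fun i => Function.Injective (sh (p : ℤ) i b) ∧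
      ∀ a, 0 ≤ sh (p : ℤ) i b a with hJ
    obtain ⟨i0, hi0⟩ := exists_movable hp hb.1 hb.2.1 (by omega)
    have hpn : p ≤ n := by
      have := tot_le_sum hi0.1 hi0.2
      rw [sum_sh, hb.2.2] at this
      omega
    have hstep : ∀ i ∈ J, IsBead (n - p) (sh (p : ℤ) i b) ∧
        ∑ a, gp p (sh (p : ℤ) i b) a = w ∧ core p (sh (p : ℤ) i b) = core p b := by
      intro i hi
      rw [hJ, mem_filter] at hi
      obtain ⟨-, hii, hi0'⟩ := hi
      obtain ⟨e1, e2⟩ := gp_sh hp hb.1 hb.2.1 hii hi0'
      refine ⟨⟨hii, hi0', by rw [sum_sh, hb.2.2, Nat.cast_sub hpn]; ring⟩, ?_,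
        core_sh hp hb.1 hb.2.1 hii hi0'⟩
      have h1 : gp p b i + ∑ a ∈ univ.erase i, gp p b a = ∑ a, gp p b a :=
        add_sum_erase univ (fun a => gp p b a) (mem_univ i)
      have h2 : gp p (sh (p : ℤ) i b) i + ∑ a ∈ univ.erase i, gp p (sh (p : ℤ) i b) a =
          ∑ a, gp p (sh (p : ℤ) i b) a :=
        add_sum_erase univ (fun a => gp p (sh (p : ℤ) i b) a) (mem_univ i)
      have h3 : ∑ a ∈ univ.erase i, gp p (sh (p : ℤ) i b) a = ∑ a ∈ univ.erase i, gp p b a :=
        sum_congr rfl fun a ha => e2 a (mem_erase.mp ha).1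
      omega
    have hres : ∀ i ∈ J, ∃ K : ℕ, 0 < K ∧ p * w ≤ n - p ∧
        IsBead (n - p - p * w) (core p b) ∧ (∀ a, gp p (core p b) a = 0) ∧
        ∀ M : Multiset ℕ, M.sum = n - p - p * w →
          chi (Multiset.replicate w p + M) (sh (p : ℤ) i b) = K * chi M (core p b) := by
      intro i hi
      obtain ⟨h1, h2, h3⟩ := hstep i hi
      obtain ⟨m, K, hm, hK, h4, h5, h6⟩ := ih _ _ h1 h2
      rw [h3] at h4 h5 h6
      obtain rfl : m = n - p - p * w := by omega
      exact ⟨K, hK, by omega, h4, h5, h6⟩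
    choose K hK using hres
    have hi0J : i0 ∈ J := mem_filter.mpr ⟨mem_univ _, hi0⟩
    obtain ⟨hK0, hle, hbead, hgz, -⟩ := hK i0 hi0J
    refine ⟨n - p - p * w, ∑ i : J, K i.1 i.2, by rw [Nat.mul_succ]; omega,
      sum_pos (fun i _ => (hK i.1 i.2).1) ⟨⟨i0, hi0J⟩, mem_univ _⟩, hbead, hgz, fun M hM => ?_⟩
    rw [Multiset.replicate_succ, Multiset.cons_add, chi_cons, Nat.cast_sum, sum_mul,
      ← sum_subset (subset_univ J) (fun i _ hi => ?_), ← sum_coe_sort J]
    · exact sum_congr rfl fun i _ => (hK i.1 i.2).2.2.2.2 M hM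
    · by_contra hne
      exact hi (mem_filter.mpr ⟨mem_univ _, chi_ne_zero_injective hne,
        (chi_ne_zero_nonneg hne).1⟩)

/-- A core has a non-zero value at a type without parts divisible by `p`. -/
theorem exists_chi_core_ne_zero (hp : 0 < p) {m : ℕ} {u : Fin N → ℤ} (hu : IsBead m u)
    (hgz : ∀ i, gp p u i = 0) :
    ∃ σ : Equiv.Perm (Fin m), chi (otype σ) u ≠ 0 ∧ ∀ k ∈ otype σ, ¬ p ∣ k := by
  obtain ⟨σ, hσ⟩ : ∃ σ : Equiv.Perm (Fin m), chi (otype σ) u ≠ 0 := by
    by_contra hc
    push Not at hc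
    have h := psum_chi_mul m u u
    rw [eps_self hu, psum, sum_eq_zero fun σ _ => by rw [hc σ, zero_mul]] at h
    rw [mul_one] at h
    exact absurd h.symm (by exact_mod_cast m.factorial_ne_zero)
  refine ⟨σ, hσ, fun k hk hpk => ?_⟩
  rw [← Multiset.cons_erase hk, chi_cons] at hσ
  obtain ⟨i, -, hi⟩ := exists_ne_zero_of_sum_ne_zero hσ
  have h1 := (chi_ne_zero_nonneg hi).1 i
  have h2 := chi_ne_zero_injective hi
  have hkpos := otype_pos hk
  rw [sh_self] at h1
  obtain ⟨x, hx⟩ := Int.eq_ofNat_of_zero_le (hu.2.1 i)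
  have h3 := gaps_eq_zero_iff.mp (hgz i) (x - k) (by rw [hx, Int.toNat_natCast]; omega) (by
    rw [hx, Int.toNat_natCast]
    obtain ⟨c, rfl⟩ := hpk
    conv_rhs => rw [← Nat.sub_add_cancel (show p * c ≤ x by omega), Nat.add_mul_mod_self_left])
  obtain ⟨l, hl⟩ := (mem_occ hu.2.1).mp h3
  have hli : l ≠ i := by rintro rfl; omega
  exact hli (h2 (by rw [sh_of_ne _ _ hli, sh_self]; omega))

theorem wt_occ_eq_sum_gp (hp : 0 < p) {b : Fin N → ℤ} (hinj : Function.Injective b)
    (h0 : ∀ i, 0 ≤ b i) : wt p (occ b) = ∑ i, gp p b i := by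
  unfold wt wr runner
  rw [sum_fiberwise_of_maps_to (fun x _ => mem_range.mpr (Nat.mod_lt x hp)), occ,
    sum_image fun i _ j _ h => hinj (by have := h0 i; have := h0 j; omega)]
  rfl

end Cfsg.Agent.Lib.SymChar81
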