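import Cfsg.Agent.Lib.SymChar81.Orth
import Cfsg.Agent.Lib.Wielandt2p.Decomp
import Cfsg.Agent.Lib.Isometry.Inner
import Cfsg.Agent.Lib.Characters.Complete

/-!
# The irreducible characters of the symmetric group

`theta b` is a generalised character of norm one for an injective tuple of beads, and every
irreducible character of the symmetric group of degree `n ≤ N` is one of them up to sign.
-/

set_option linter.unusedSectionVars false

namespace Cfsg.Agent.Lib.SymChar81

open Finset
open scoped ComplexConjugate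

variable {N n : ℕ}

/-- The colouring counts. -/
def cntBase (c : Fin N → ℤ) : ℤ := if c = 0 then 1 else 0

/-- The value of the permutation character of a composition. -/
def cnt (M : Multiset ℕ) : (Fin N → ℤ) → ℤ := M.foldr opR cntBase

theorem cnt_cons (k : ℕ) (M : Multiset ℕ) (c : Fin N → ℤ) :
    cnt (k ::ₘ M) c = ∑ i, cnt M (sh k i c) := by
  rw [cnt, Multiset.foldr_cons]; rfl

theorem sh_sub (k : ℤ) (i : Fin N) (b d : Fin N → ℤ) : sh k i (b - d) = sh k i b - d := by
  funext a
  by_cases ha : a = i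
  · subst ha; simp [sh]; ring
  · simp [sh, ha]

theorem chi_eq_sum_cnt : ∀ (M : Multiset ℕ) (b : Fin N → ℤ),
    chi M b = ∑ τ : Equiv.Perm (Fin N),
      (Equiv.Perm.sign τ : ℤ) * cnt M (b - fun i => ((τ i : ℕ) : ℤ)) := by
  intro M
  induction M using Multiset.induction with
  | empty =>
    intro b
    rw [chi_zero, base]
    refine sum_congr rfl fun τ _ => ?_
    simp only [cnt, Multiset.foldr_zero, cntBase, sub_eq_zero]
  | cons k M ih =>
    intro b
    simp only [chi_cons, ih, cnt_cons, mul_sum, sh_sub]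
    exact sum_comm

/-- The weight vector of a colouring. -/
def colW {ι : Type*} [Fintype ι] (w : ι → ℕ) (g : ι → Fin N) (i : Fin N) : ℤ :=
  ∑ q, if g q = i then (w q : ℤ) else 0

theorem cnt_eq_card : ∀ (ι : Type) [Fintype ι] (w : ι → ℕ) (c : Fin N → ℤ),
    cnt ((univ : Finset ι).val.map w) c = Nat.card {g : ι → Fin N // colW w g = c} := by
  refine fun ι _ => Fintype.induction_empty_option (P := fun ι _ => ∀ (w : ι → ℕ) (c : Fin N → ℤ),
    cnt ((univ : Finset ι).val.map w) c = Nat.card {g : ι → Fin N // colW w g = c}) ?_ ?_ ?_ ι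
  · intro α β _ e ih w c
    letI := Fintype.ofEquiv β e.symm
    have h1 : ((univ : Finset β).val.map w) = ((univ : Finset α).val.map (w ∘ e)) := by
      rw [← Finset.map_univ_equiv e, Finset.map_val, Multiset.map_map]; rfl
    rw [h1, ih (w ∘ e) c]
    congr 1
    refine Nat.card_congr ((e.arrowCongr (Equiv.refl (Fin N))).subtypeEquiv fun g => ?_)
    have : colW (w ∘ e) g = colW w (e.arrowCongr (Equiv.refl (Fin N)) g) := by
      funext i
      exact Fintype.sum_equiv e _ _ fun q => by simp [Equiv.arrowCongr]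
    rw [this]
  · intro w c
    have hu : ((univ : Finset PEmpty).val.map w) = 0 := by simp
    rw [hu, cnt, Multiset.foldr_zero, cntBase]
    split_ifs with h
    · subst h
      rw [Nat.card_eq_one_iff_unique.mpr ⟨inferInstance, ⟨⟨isEmptyElim, funext fun i => by
        simp [colW]⟩⟩⟩]
      rfl
    · haveI : IsEmpty {g : PEmpty → Fin N // colW w g = c} :=
        ⟨fun g => h (g.2.symm.trans (funext fun i => by simp [colW]))⟩
      simp
  · intro α _ ih w c
    have h1 : ((univ : Finset (Option α)).val.map w) =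
        w none ::ₘ ((univ : Finset α).val.map (w ∘ some)) := by
      rw [show (univ : Finset (Option α)) = insertNone (univ : Finset α) by
        ext a; cases a <;> simp]
      simp [Finset.insertNone, Multiset.map_map]
    rw [h1, cnt_cons, sum_congr rfl fun i _ => ih (w ∘ some) (sh (w none) i c)]
    rw [← Nat.cast_sum, ← Nat.card_sigma]
    congr 1
    have hw : ∀ (g : Option α → Fin N), colW w g = c ↔
        colW (w ∘ some) (g ∘ some) = sh (w none) (g none) c := by
      intro g
      have hsplit : ∀ i, colW w g i =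
          (if g none = i then (w none : ℤ) else 0) + colW (w ∘ some) (g ∘ some) i := fun i =>
        Fintype.sum_option _
      constructor
      · intro h; funext i
        have := hsplit i
        rw [h] at this
        by_cases hi : i = g none
        · subst hi; rw [if_pos rfl] at this; rw [sh_self]; linarith
        · rw [if_neg (Ne.symm hi)] at this; rw [sh_of_ne _ _ hi]; linarith
      · intro h; funext i
        rw [hsplit i, h]
        by_cases hi : i = g none
        · subst hi; rw [if_pos rfl, sh_self]; ring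
        · rw [if_neg (Ne.symm hi), sh_of_ne _ _ hi, zero_add]
    exact Nat.card_congr
      { toFun := fun a => ⟨fun o => o.elim a.1 a.2.1, (hw _).mpr a.2.2⟩
        invFun := fun g => ⟨g.1 none, ⟨g.1 ∘ some, (hw g.1).mp g.2⟩⟩
        left_inv := fun a => by rfl
        right_inv := fun g => Subtype.ext (funext fun o => by cases o <;> rfl) }

/-! ## Colourings -/

variable {α : Type} [Fintype α] [DecidableEq α]

/-- The orbits as a type. -/
abbrev Orbs (σ : Equiv.Perm α) : Type := {O : Finset α // O ∈ univ.image (orb σ)}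

theorem otype_eq_map (σ : Equiv.Perm α) :
    otype σ = (univ : Finset (Orbs σ)).val.map fun O => O.1.card := by
  rw [otype, univ_eq_attach, attach_val]
  exact (Multiset.attach_map_val' _ _).symm

/-- Colourings of the points with given fibre sizes. -/
def Col (α : Type) [Fintype α] (c : Fin N → ℤ) : Type :=
  {f : α → Fin N // ∀ i, ((univ.filter fun y => f y = i).card : ℤ) = c i}

instance colFinite (c : Fin N → ℤ) : Finite (Col α c) := Subtype.finite

instance colAction (c : Fin N → ℤ) : MulAction (Equiv.Perm α) (Col α c) where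
  smul σ f := ⟨f.1 ∘ σ.symm, fun i => by
    rw [← f.2 i]
    congr 1
    refine card_bij' (fun y _ => σ.symm y) (fun y _ => σ y) ?_ ?_ ?_ ?_ <;> intro y <;> simp⟩
  one_smul f := Subtype.ext rfl
  mul_smul σ τ f := Subtype.ext rfl

theorem col_smul_coe {c : Fin N → ℤ} (σ : Equiv.Perm α) (f : Col α c) :
    (σ • f).1 = f.1 ∘ σ.symm := rfl

theorem const_on_orb {σ : Equiv.Perm α} {f : α → Fin N} (hf : f ∘ σ.symm = f) {y z : α}
    (h : σ.SameCycle y z) : f y = f z := by
  obtain ⟨i, rfl⟩ := h.exists_nat_pow_eq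
  induction i with
  | zero => rfl
  | succ i ih =>
    rw [ih ⟨i, by simp⟩, pow_succ', Equiv.Perm.mul_apply]
    have := congrFun hf (σ ((σ ^ i) y))
    simpa using this

theorem cnt_otype (σ : Equiv.Perm α) (c : Fin N → ℤ) :
    cnt (otype σ) c = Nat.card (MulAction.fixedBy (Col α c) σ) := by
  classical
  rw [otype_eq_map, cnt_eq_card]
  congr 1
  have hmem : ∀ y, orb σ y ∈ univ.image (orb σ) := fun y => mem_image_of_mem _ (mem_univ y)
  have hsum : ∀ (g : Orbs σ → Fin N) (i : Fin N),
      colW (fun O : Orbs σ => O.1.card) g i =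
        ((univ.filter fun y => g ⟨orb σ y, hmem y⟩ = i).card : ℤ) := by
    intro g i
    rw [colW, card_filter, Nat.cast_sum]
    rw [← sum_fiberwise (s := univ) (g := fun y => (⟨orb σ y, hmem y⟩ : Orbs σ))]
    refine sum_congr rfl fun O _ => ?_
    obtain ⟨y, -, hy⟩ := mem_image.mp O.2
    have hfib : (univ.filter fun z => (⟨orb σ z, hmem z⟩ : Orbs σ) = O) = O.1 := by
      rw [← hy]; ext z; simp [Subtype.ext_iff, ← hy, orb_eq_iff, mem_orb, Equiv.Perm.sameCycle_comm]
    have hconst : ∀ z ∈ (univ.filter fun z => (⟨orb σ z, hmem z⟩ : Orbs σ) = O),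
        ((if g ⟨orb σ z, hmem z⟩ = i then 1 else 0 : ℕ) : ℤ) = if g O = i then 1 else 0 := by
      intro z hz
      rw [mem_filter] at hz
      rw [hz.2]; split_ifs <;> rfl
    rw [sum_congr rfl hconst, hfib, sum_const]
    split_ifs <;> simp
  have hrep : ∀ O : Orbs σ, ∃ y, orb σ y = O.1 := fun O => by
    obtain ⟨y, -, hy⟩ := mem_image.mp O.2; exact ⟨y, hy⟩
  choose rep hrep using hrep
  refine Nat.card_congr
    { toFun := fun g => ⟨⟨fun y => g.1 ⟨orb σ y, hmem y⟩, fun i => by rw [← hsum, g.2]⟩, ?_⟩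
      invFun := fun f => ⟨fun O => f.1.1 (rep O), ?_⟩
      left_inv := fun g => Subtype.ext (funext fun O => congrArg g.1 (Subtype.ext (hrep O)))
      right_inv := fun f => Subtype.ext (Subtype.ext (funext fun y =>
        const_on_orb (congrArg Subtype.val f.2) (orb_eq_iff.mp (hrep _)))) }
  · refine Subtype.ext (funext fun y => ?_)
    show g.1 ⟨orb σ (σ.symm y), hmem _⟩ = g.1 ⟨orb σ y, hmem y⟩
    refine congrArg g.1 (Subtype.ext ?_)
    exact orb_eq_iff.mpr ⟨1, by simp⟩
  · funext i
    rw [hsum, ← f.1.2 i]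
    congr 2
    refine filter_congr fun y _ => ?_
    rw [show f.1.1 (rep ⟨orb σ y, hmem y⟩) = f.1.1 y from
      const_on_orb (congrArg Subtype.val f.2) (orb_eq_iff.mp (hrep _))]

/-! ## The characters -/

/-- The class function of a bead tuple. -/
noncomputable def theta (n : ℕ) (b : Fin N → ℤ) (σ : Equiv.Perm (Fin n)) : ℂ :=
  (chi (otype σ) b : ℂ)

theorem theta_conj (b : Fin N → ℤ) (σ : Equiv.Perm (Fin n)) : conj (theta n b σ) = theta n b σ := by
  simp [theta]

theorem isClassFunction_theta (b : Fin N → ℤ) :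
    Cfsg.IsClassFunction (Equiv.Perm (Fin n)) (theta n b) := fun g h => by
  rw [theta, theta, otype_eq_of_isConj (isConj_iff.mpr ⟨h, rfl⟩ : IsConj g (h * g * h⁻¹))]

theorem theta_comp (b : Fin N → ℤ) (π : Equiv.Perm (Fin N)) :
    theta n (b ∘ π) = ((Equiv.Perm.sign π : ℤ) : ℂ) • theta n b := by
  funext σ; simp [theta, chi_comp]

theorem gen_theta (b : Fin N → ℤ) :
    Cfsg.IsGeneralizedCharacter (Equiv.Perm (Fin n)) (theta n b) := by
  have h : theta n b = ∑ τ : Equiv.Perm (Fin N), ((Equiv.Perm.sign τ : ℤ) : ℂ) •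
      (Characters.Transitive.permChar (Col (Fin n) (b - fun i => ((τ i : ℕ) : ℤ))) :
        Equiv.Perm (Fin n) → ℂ) := by
    funext σ
    simp only [theta, chi_eq_sum_cnt, cnt_otype, Finset.sum_apply, Pi.smul_apply,
      Characters.Transitive.permChar, smul_eq_mul]
    push_cast
    rfl
  rw [h]
  refine Isometry.Inner.gen_sum _ fun τ _ => Isometry.Inner.gen_intCast_smul ?_ _
  haveI := Fintype.ofFinite (Col (Fin n) (b - fun i => ((τ i : ℕ) : ℤ)))
  exact Isometry.Inner.gen_of_isCharacter Wielandt2p.isCharacter_permChar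

theorem classInner_theta (u v : Fin N → ℤ) :
    Cfsg.classInner (theta n u) (theta n v) = (eps n u v : ℂ) := by
  rw [Cfsg.classInner]
  have h := psum_chi_mul n u v
  simp only [psum] at h
  have h' : ∑ σ : Equiv.Perm (Fin n), theta n u σ * conj (theta n v σ) =
      ((n.factorial : ℤ) * eps n u v : ℂ) := by
    rw [← Int.cast_mul, ← h, Int.cast_sum]
    exact sum_congr rfl fun σ _ => by simp [theta]
  rw [h', Nat.card_perm, Nat.card_fin]
  push_cast
  rw [← mul_assoc, inv_mul_cancel₀ (Nat.cast_ne_zero.mpr n.factorial_ne_zero), one_mul]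

/-- A tuple of weight `n`. -/
def IsBead (n : ℕ) (b : Fin N → ℤ) : Prop :=
  Function.Injective b ∧ (∀ i, 0 ≤ b i) ∧ ∑ i, b i = tot N + n

theorem eps_self {b : Fin N → ℤ} (hb : IsBead n b) : eps n b b = 1 := by
  rw [eps, if_pos ⟨hb.2.1, hb.2.2⟩, sum_eq_single 1]
  · simp
  · intro τ _ hne
    rw [if_neg, mul_zero]
    exact fun h => hne (Equiv.ext fun i => (hb.1 (congrFun h i)).symm)
  · simp

theorem isBead_of_chi_ne_zero {σ : Equiv.Perm (Fin n)} {b : Fin N → ℤ}
    (h : chi (otype σ) b ≠ 0) : IsBead n b := by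
  obtain ⟨h1, h2⟩ := chi_ne_zero_nonneg h
  exact ⟨chi_ne_zero_injective h, h1, by rw [h2, otype_sum, Fintype.card_fin]⟩

theorem theta_eq_zero_of_not_isBead {b : Fin N → ℤ} (hb : ¬ IsBead n b) : theta n b = 0 := by
  funext σ
  by_contra h
  exact hb (isBead_of_chi_ne_zero (σ := σ) fun e => h (by simp [theta, e]))

theorem signed_theta {b : Fin N → ℤ} (hb : IsBead n b) :
    Cfsg.IsIrrCharacter _ (theta n b) ∨ Cfsg.IsIrrCharacter _ (-theta n b) :=
  Isometry.Inner.signed_of_norm_one (gen_theta b) (by rw [classInner_theta, eps_self hb]; simp)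

/-! ## Completeness -/

theorem sum_cnt_eq_zero {f : Equiv.Perm (Fin n) → ℂ}
    (h : ∀ b : Fin N → ℤ, ∑ σ, f σ * (chi (otype σ) b : ℂ) = 0) (c : Fin N → ℤ) :
    ∑ σ, f σ * (cnt (otype σ) c : ℂ) = 0 := by
  set H : (Fin N → ℤ) → ℂ := fun c => ∑ σ, f σ * (cnt (otype σ) c : ℂ) with hH
  have hsupp : ∀ c, H c ≠ 0 → (∀ i, 0 ≤ c i) ∧ ∀ i, c i ≤ n := by
    intro c hc
    obtain ⟨σ, -, hσ⟩ := exists_ne_zero_of_sum_ne_zero hc
    have : cnt (otype σ) c ≠ 0 := fun e => hσ (by rw [e]; simp)
    rw [cnt_otype, Nat.cast_ne_zero, ← Nat.pos_iff_ne_zero, Nat.card_pos_iff] at this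
    obtain ⟨⟨f, -⟩⟩ := this.1
    refine ⟨fun i => f.2 i ▸ Int.natCast_nonneg _, fun i => f.2 i ▸ ?_⟩
    exact_mod_cast (card_filter_le _ _).trans (by simp)
  by_contra hc
  let S : Finset (Fin N → ℤ) :=
    (Fintype.piFinset fun _ : Fin N => Finset.Icc (0 : ℤ) n).filter fun c => H c ≠ 0
  have hS : ∀ c, c ∈ S ↔ H c ≠ 0 := fun c => by
    simp only [S, mem_filter, Fintype.mem_piFinset, mem_Icc, and_iff_right_iff_imp]
    exact fun h i => ⟨(hsupp c h).1 i, (hsupp c h).2 i⟩
  set W : (Fin N → ℤ) → ℤ := fun c => ∑ i, c i * ((i : ℕ) : ℤ)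
  obtain ⟨c0, hc0, hmax⟩ := S.exists_max_image W ⟨c, (hS c).mpr hc⟩
  refine (hS c0).mp hc0 ?_
  have h0 := h (c0 + fun i : Fin N => ((i : ℕ) : ℤ))
  simp only [chi_eq_sum_cnt, Int.cast_sum, Int.cast_mul, mul_sum] at h0
  rw [sum_comm, sum_eq_single (1 : Equiv.Perm (Fin N))] at h0
  · simpa [hH] using h0
  · intro τ _ hτ
    have hz : H (c0 + (fun i : Fin N => ((i : ℕ) : ℤ)) - fun i => ((τ i : ℕ) : ℤ)) = 0 := by
      by_contra hne
      have h1 := hmax _ ((hS _).mpr hne)
      have h2 : W (c0 + (fun i : Fin N => ((i : ℕ) : ℤ)) - fun i => ((τ i : ℕ) : ℤ)) = W c0 +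
          ∑ i : Fin N, (((i : ℕ) : ℤ) - ((τ i : ℕ) : ℤ)) * ((i : ℕ) : ℤ) := by
        simp only [W, Pi.add_apply, Pi.sub_apply, ← sum_add_distrib]
        exact sum_congr rfl fun i _ => by ring
      have h3 : ∑ i : Fin N, ((τ i : ℕ) : ℤ) ^ 2 = ∑ i : Fin N, ((i : ℕ) : ℤ) ^ 2 :=
        Equiv.sum_comp τ fun i : Fin N => ((i : ℕ) : ℤ) ^ 2
      have h4 : 2 * ∑ i : Fin N, (((i : ℕ) : ℤ) - ((τ i : ℕ) : ℤ)) * ((i : ℕ) : ℤ) =
          ∑ i : Fin N, (((i : ℕ) : ℤ) - ((τ i : ℕ) : ℤ)) ^ 2 := by
        have e : ∀ i : Fin N, (((i : ℕ) : ℤ) - ((τ i : ℕ) : ℤ)) ^ 2 =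
            2 * ((((i : ℕ) : ℤ) - ((τ i : ℕ) : ℤ)) * ((i : ℕ) : ℤ)) +
              (((τ i : ℕ) : ℤ) ^ 2 - ((i : ℕ) : ℤ) ^ 2) := fun i => by ring
        rw [sum_congr rfl fun i _ => e i, sum_add_distrib, sum_sub_distrib, h3, sub_self,
          add_zero, ← mul_sum]
      obtain ⟨i, hi⟩ : ∃ i, τ i ≠ i := by
        by_contra hall; push Not at hall; exact hτ (Equiv.ext hall)
      have h5 : 0 < ∑ i : Fin N, (((i : ℕ) : ℤ) - ((τ i : ℕ) : ℤ)) ^ 2 :=
        sum_pos' (fun i _ => sq_nonneg _) ⟨i, mem_univ _, by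
          have : ((i : ℕ) : ℤ) - ((τ i : ℕ) : ℤ) ≠ 0 := fun e => hi (Fin.ext (by omega))
          positivity⟩
      linarith
    simp only [hH] at hz
    rw [← mul_zero ((((Equiv.Perm.sign τ : ℤ)) : ℂ)), ← hz, mul_sum]
    exact sum_congr rfl fun σ _ => by ring
  · simp

theorem eq_zero_of_orth {f : Equiv.Perm (Fin n) → ℂ} (hn : n ≤ N)
    (hf : Cfsg.IsClassFunction _ f)
    (h : ∀ b : Fin N → ℤ, ∑ σ, f σ * (chi (otype σ) b : ℂ) = 0) : f = 0 := by
  classical
  by_contra hne
  obtain ⟨σ1, hσ1⟩ := Function.ne_iff.mp hne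
  obtain ⟨σ0, hσ0, hmax⟩ := (univ.filter fun σ => f σ ≠ 0).exists_max_image
    (fun σ => (otype σ).card) ⟨σ1, by simpa using hσ1⟩
  rw [mem_filter] at hσ0
  have hcard : ∀ σ : Equiv.Perm (Fin n), Fintype.card (Orbs σ) = (otype σ).card := fun σ => by
    rw [otype_eq_map, Multiset.card_map]; rfl
  obtain ⟨e⟩ : Nonempty (Orbs σ0 ↪ Fin N) := Function.Embedding.nonempty_of_card_le (by
    rw [Fintype.card_fin, Fintype.card_coe]
    exact (card_image_le.trans (by simp)).trans hn)
  set c0 : Fin N → ℤ := colW (fun O : Orbs σ0 => O.1.card) e with hc0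
  have key : ∀ σ, f σ ≠ 0 → cnt (otype σ) c0 ≠ 0 → otype σ = otype σ0 := by
    intro σ hσ hc
    rw [otype_eq_map, cnt_eq_card, Nat.cast_ne_zero, ← Nat.pos_iff_ne_zero,
      Nat.card_pos_iff] at hc
    obtain ⟨⟨g, hg⟩⟩ := hc.1
    have hsur : univ.map e ⊆ univ.image g := by
      intro i hi
      obtain ⟨O, -, rfl⟩ := mem_map.mp hi
      by_contra hn'
      have h1 := congrFun hg (e O)
      rw [colW, sum_eq_zero (fun q _ => if_neg fun e' => hn' (mem_image.mpr ⟨q, mem_univ q, e'⟩)),
        hc0, colW, sum_eq_single O (fun q _ hq => if_neg fun e' => hq (e.injective e'))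
        (by simp), if_pos rfl] at h1
      obtain ⟨y, -, hy⟩ := mem_image.mp O.2
      have : 0 < O.1.card := card_pos.mpr ⟨y, hy ▸ self_mem_orb σ0 y⟩
      omega
    have h2 := card_le_card hsur
    rw [card_map, card_univ] at h2
    have h3 := card_image_le (s := univ) (f := g)
    rw [card_univ] at h3
    have h4 := hmax σ (by simpa using hσ)
    rw [← hcard, ← hcard] at h4
    have hinj : Function.Injective g := by
      intro a b hab
      exact card_image_iff.mp (le_antisymm card_image_le (by rw [card_univ]; omega))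
        (mem_univ a) (mem_univ b) hab
    have heq : univ.map e = univ.image g := eq_of_subset_of_card_le hsur (by rw [card_map, card_univ]; omega)
    rw [otype_eq_map, otype_eq_map]
    have hval : ∀ a, (a.1.card : ℤ) = c0 (g a) := fun a => by
      rw [← hg, colW, sum_eq_single a (fun q _ hq => if_neg fun e' => hq (hinj e')) (by simp),
        if_pos rfl]
    have hval0 : ∀ O, (O.1.card : ℤ) = c0 (e O) := fun O => by
      rw [hc0, colW, sum_eq_single O (fun q _ hq => if_neg fun e' => hq (e.injective e')) (by simp),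
        if_pos rfl]
    have e1 : (univ : Finset (Orbs σ)).val.map (fun a => a.1.card) =
        ((univ.image g).val).map (fun i => (c0 i).toNat) := by
      rw [image_val_of_injOn hinj.injOn, Multiset.map_map]
      exact Multiset.map_congr rfl fun a _ => by simp [← hval a]
    have e2 : (univ : Finset (Orbs σ0)).val.map (fun O => O.1.card) =
        ((univ.map e).val).map (fun i => (c0 i).toNat) := by
      rw [Finset.map_val, Multiset.map_map]
      exact Multiset.map_congr rfl fun O _ => by simp [← hval0 O]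
    rw [e1, e2, heq]
  have hH := sum_cnt_eq_zero h c0
  have hterm : ∀ σ, f σ * (cnt (otype σ) c0 : ℂ) =
      f σ0 * ((if otype σ = otype σ0 then cnt (otype σ) c0 else 0 : ℤ) : ℂ) := by
    intro σ
    split_ifs with he
    · obtain ⟨c, hc⟩ := isConj_iff.mp (isConj_of_otype_eq he.symm)
      rw [← hc, hf]
    · by_cases hσ : f σ = 0
      · simp [hσ]
      · by_cases hc : cnt (otype σ) c0 = 0
        · simp [hc]
        · exact absurd (key σ hσ hc) he
  rw [sum_congr rfl fun σ _ => hterm σ, ← mul_sum, ← Int.cast_sum, mul_eq_zero,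
    Int.cast_eq_zero] at hH
  rcases hH with hH | hH
  · exact hσ0.2 hH
  · have hnn : ∀ σ ∈ (univ : Finset (Equiv.Perm (Fin n))),
        0 ≤ if otype σ = otype σ0 then cnt (otype σ) c0 else 0 := fun σ _ => by
      split_ifs
      · rw [cnt_otype]; exact Int.natCast_nonneg _
      · rfl
    have := (sum_eq_zero_iff_of_nonneg hnn).mp hH σ0 (mem_univ _)
    rw [if_pos rfl, otype_eq_map, cnt_eq_card, Nat.cast_eq_zero, Nat.card_eq_zero] at this
    rcases this with h | h
    · exact h.false ⟨e, rfl⟩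
    · exact not_finite {g : Orbs σ0 → Fin N // colW (fun O : Orbs σ0 => O.1.card) g = c0}

/-- Every irreducible character is a signed bead function. -/
theorem exists_bead (hn : n ≤ N) (χ : Cfsg.IrrCharacter (Equiv.Perm (Fin n))) :
    ∃ b : Fin N → ℤ, IsBead n b ∧
      ∃ e : ℂ, (e = 1 ∨ e = -1) ∧ (χ : Equiv.Perm (Fin n) → ℂ) = e • theta n b := by
  by_contra hc
  push Not at hc
  have hz : (χ : Equiv.Perm (Fin n) → ℂ) = 0 := by
    refine eq_zero_of_orth hn (Characters.Basic.isClassFunction_irr χ) fun b => ?_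
    by_cases hb : IsBead n b
    · rcases Isometry.Inner.signed_cases (θ := (χ : Equiv.Perm (Fin n) → ℂ)) (Or.inl χ.2)
        (signed_theta hb) with h0 | ⟨e, he, h1, -⟩
      · rw [Cfsg.classInner, mul_eq_zero] at h0
        rcases h0 with h0 | h0
        · simp at h0
        · simpa [theta] using h0
      · exact absurd h1 (hc b hb e he)
    · refine sum_eq_zero fun σ _ => ?_
      rw [show chi (otype σ) b = 0 from by
        by_contra h
        exact hb (isBead_of_chi_ne_zero h)]
      simp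
  exact Characters.Basic.apply_one_ne_zero χ (congrFun hz 1)

end Cfsg.Agent.Lib.SymChar81
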