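import Cfsg.Agent.Lib.SymChar81.Block
import Cfsg.Agent.Lib.SymChar81.Core

/-!
# Twisting by the sign character

The mirrored complement of a bead tuple gives the character twisted by the sign; in particular
the bead set of a self-associate character is symmetric.
-/

set_option linter.unusedSectionVars false

namespace Cfsg.Agent.Lib.SymChar81

open Finset

variable {N n : ℕ}

/-- The `2N` positions. -/
def val2 (z : Fin N ⊕ Fin N) : ℕ :=
  Sum.elim (fun a : Fin N => (a : ℕ)) (fun a : Fin N => 2 * N - 1 - (a : ℕ)) z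

theorem val2_lt (z : Fin N ⊕ Fin N) : val2 z < 2 * N := by
  rcases z with a | a <;> have := a.2 <;> simp [val2] <;> omega

theorem val2_inj {z z' : Fin N ⊕ Fin N} (h : val2 z = val2 z') : z = z' := by
  rcases z with a | a <;> rcases z' with c | c <;> have := a.2 <;> have := c.2 <;>
    simp only [val2, Sum.elim_inl, Sum.elim_inr] at h <;>
    first
    | (congr 1; exact Fin.ext (by omega))
    | (exfalso; omega)

theorem val2_lt_iff (z : Fin N ⊕ Fin N) : val2 z < N ↔ ∃ a, z = Sum.inl a := by
  rcases z with a | a <;> have := a.2 <;> simp [val2] <;> omega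

theorem exists_val2 {x : ℕ} (hx : x < 2 * N) : ∃ z : Fin N ⊕ Fin N, val2 z = x := by
  by_cases h : x < N
  · exact ⟨Sum.inl ⟨x, h⟩, rfl⟩
  · exact ⟨Sum.inr ⟨2 * N - 1 - x, by omega⟩, by simp [val2]; omega⟩

/-- The beads of a pairing. -/
def bOf (π : Equiv.Perm (Fin N ⊕ Fin N)) (i : Fin N) : ℤ := (val2 (π (Sum.inl i)) : ℤ)

/-- The mirrored gaps of a pairing. -/
def cOf (π : Equiv.Perm (Fin N ⊕ Fin N)) (j : Fin N) : ℤ :=
  ((2 * N - 1 - val2 (π (Sum.inr j)) : ℕ) : ℤ)

/-- The sign of a pairing. -/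
def pairSign (π : Equiv.Perm (Fin N ⊕ Fin N)) : ℤ :=
  (Equiv.Perm.sign π : ℤ) * (-1) ^ (∑ i, val2 (π (Sum.inl i)))

/-- The sign of a type. -/
def typeSign (M : Multiset ℕ) : ℤ := (-1) ^ (M.sum + M.card)

theorem base_dual (π : Equiv.Perm (Fin N ⊕ Fin N)) :
    base (cOf π) = (-1) ^ (∑ i : Fin N, (i : ℕ)) * pairSign π * base (bOf π) := by
  classical
  by_cases hl : Set.MapsTo π (Set.range Sum.inl) (Set.range Sum.inl)
  · obtain ⟨⟨τ, τ'⟩, hττ'⟩ := Equiv.Perm.mem_sumCongrHom_range_of_perm_mapsTo_inl hl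
    have hb : bOf π = fun i => ((τ i : ℕ) : ℤ) := by
      funext i; rw [bOf, ← hττ']; rfl
    have hc : cOf π = fun i => ((τ' i : ℕ) : ℤ) := by
      funext i
      have := (τ' i).2
      rw [cOf, ← hττ']
      show ((2 * N - 1 - (2 * N - 1 - (τ' i : ℕ)) : ℕ) : ℤ) = _
      omega
    have key : ∀ t : Equiv.Perm (Fin N), base (fun i => ((t i : ℕ) : ℤ)) =
        (Equiv.Perm.sign t : ℤ) := by
      intro t
      rw [base, sum_eq_single t]
      · simp
      · intro s _ hst
        rw [if_neg, mul_zero]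
        exact fun h => hst (Equiv.ext fun i => Fin.ext (by
          have := congrFun h i; omega))
      · simp
    have hsum : ∑ i, val2 (π (Sum.inl i)) = ∑ i : Fin N, (i : ℕ) := by
      rw [← hττ']
      exact Equiv.sum_comp τ fun i : Fin N => (i : ℕ)
    have hsign : (Equiv.Perm.sign π : ℤ) =
        (Equiv.Perm.sign τ : ℤ) * (Equiv.Perm.sign τ' : ℤ) := by
      rw [← hττ', Equiv.Perm.sumCongrHom_apply, Equiv.Perm.sign_sumCongr, Units.val_mul]
    rw [hb, hc, key, key, pairSign, hsum, hsign]
    have h1 : ((-1 : ℤ) ^ (∑ i : Fin N, (i : ℕ))) * (-1) ^ (∑ i : Fin N, (i : ℕ)) = 1 := by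
      rw [← mul_pow]; norm_num
    have h2 : (Equiv.Perm.sign τ : ℤ) * (Equiv.Perm.sign τ : ℤ) = 1 := Int.units_coe_mul_self _
    linear_combination (-(Equiv.Perm.sign τ' : ℤ) * ((Equiv.Perm.sign τ : ℤ) * Equiv.Perm.sign τ)) *
      h1 - (Equiv.Perm.sign τ' : ℤ) * h2
  · have hb : base (bOf π) = 0 := by
      by_contra h
      obtain ⟨τ, hτ⟩ := base_ne_zero h
      refine hl ?_
      rintro _ ⟨i, rfl⟩
      obtain ⟨a, ha⟩ := (val2_lt_iff _).mp (show val2 (π (Sum.inl i)) < N by
        have := congrFun hτ i; simp only [bOf] at this; omega)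
      exact ⟨a, ha.symm⟩
    have hc : base (cOf π) = 0 := by
      by_contra h
      obtain ⟨τ, hτ⟩ := base_ne_zero h
      have hr : ∀ j, ∃ a, π (Sum.inr j) = Sum.inr a := by
        intro j
        rcases e : π (Sum.inr j) with a | a
        · exfalso
          have h1 := congrFun hτ j
          have := a.2
          have := (τ j).2
          simp only [cOf, e, val2, Sum.elim_inl] at h1
          omega
        · exact ⟨a, rfl⟩
      choose f hf using hr
      have hfb : Function.Bijective f := Finite.injective_iff_bijective.mp fun a a' e =>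
        Sum.inr.inj (π.injective (by rw [hf, hf, e]))
      refine hl ?_
      rintro _ ⟨i, rfl⟩
      rcases e : π (Sum.inl i) with a | a
      · exact ⟨a, rfl⟩
      · obtain ⟨j, rfl⟩ := hfb.2 a
        rw [← hf] at e
        exact absurd (π.injective e) Sum.inl_ne_inr
    rw [hb, hc, mul_zero]

theorem bOf_injective (π : Equiv.Perm (Fin N ⊕ Fin N)) : Function.Injective (bOf π) := fun i j h =>
  Sum.inl.inj (π.injective (val2_inj (Int.ofNat_inj.mp h)))

theorem cOf_injective (π : Equiv.Perm (Fin N ⊕ Fin N)) : Function.Injective (cOf π) := by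
  intro i j h
  have := val2_lt (π (Sum.inr i))
  have := val2_lt (π (Sum.inr j))
  simp only [cOf] at h
  exact Sum.inr.inj (π.injective (val2_inj (by omega)))

/-- **The mirrored complement.** -/
theorem chi_dual : ∀ (M : Multiset ℕ), (∀ k ∈ M, 0 < k) → ∀ π : Equiv.Perm (Fin N ⊕ Fin N),
    chi M (cOf π) =
      (-1) ^ (∑ i : Fin N, (i : ℕ)) * pairSign π * typeSign M * chi M (bOf π) := by
  intro M
  induction M using Multiset.induction with
  | empty =>
    intro _ π
    rw [chi_zero, base_dual π, typeSign]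
    simp
  | cons k M ih =>
    intro hpos π
    classical
    have hk : 0 < k := hpos k (Multiset.mem_cons_self _ _)
    have ih' := ih fun l hl => hpos l (Multiset.mem_cons_of_mem hl)
    set q : Fin N → Fin N → Equiv.Perm (Fin N ⊕ Fin N) := fun i j =>
      π * Equiv.swap (Sum.inl i) (Sum.inr j) with hq
    set cond : Fin N → Fin N → Prop := fun i j =>
      val2 (π (Sum.inl i)) = val2 (π (Sum.inr j)) + k with hcond
    have hqb : ∀ i j, cond i j → bOf (q i j) = sh (k : ℤ) i (bOf π) := by
      intro i j hij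
      funext a
      by_cases ha : a = i
      · subst ha
        simp only [bOf, hq, Equiv.Perm.mul_apply, Equiv.swap_apply_left, sh_self]
        simp only [hcond] at hij
        omega
      · rw [sh_of_ne _ _ ha, bOf, bOf, hq, Equiv.Perm.mul_apply, Equiv.swap_apply_of_ne_of_ne
          (by simpa using ha) Sum.inl_ne_inr]
    have hqc : ∀ i j, cond i j → cOf (q i j) = sh (k : ℤ) j (cOf π) := by
      intro i j hij
      funext a
      by_cases ha : a = j
      · subst ha
        simp only [cOf, hq, Equiv.Perm.mul_apply, Equiv.swap_apply_right, sh_self]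
        simp only [hcond] at hij
        have := val2_lt (π (Sum.inl i))
        omega
      · rw [sh_of_ne _ _ ha, cOf, cOf, hq, Equiv.Perm.mul_apply, Equiv.swap_apply_of_ne_of_ne
          Sum.inr_ne_inl (by simpa using ha)]
    have hb : chi (k ::ₘ M) (bOf π) = ∑ i, ∑ j, if cond i j then chi M (bOf (q i j)) else 0 := by
      rw [chi_cons]
      refine sum_congr rfl fun i _ => ?_
      by_cases h : ∃ j, cond i j
      · obtain ⟨j, hj⟩ := h
        rw [sum_eq_single j, if_pos hj, hqb i j hj]
        · intro j' _ hne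
          refine if_neg fun hj' => hne ?_
          simp only [hcond] at hj hj'
          exact Sum.inr.inj (π.injective (val2_inj (by omega)))
        · simp
      · rw [sum_eq_zero fun j _ => if_neg fun hj => h ⟨j, hj⟩]
        by_contra hne
        have h1 := (chi_ne_zero_nonneg hne).1 i
        have h2 := chi_ne_zero_injective hne
        rw [sh_self, bOf] at h1
        obtain ⟨z, hz⟩ := exists_val2 (N := N) (x := val2 (π (Sum.inl i)) - k) (by
          have := val2_lt (π (Sum.inl i)); omega)
        obtain ⟨w, rfl⟩ := π.surjective z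
        rcases w with a | j
        · have hai : a ≠ i := by rintro rfl; omega
          exact hai (h2 (by rw [sh_of_ne _ _ hai, sh_self, bOf, bOf]; omega))
        · exact h ⟨j, by simp only [hcond]; omega⟩
    have hc : chi (k ::ₘ M) (cOf π) = ∑ j, ∑ i, if cond i j then chi M (cOf (q i j)) else 0 := by
      rw [chi_cons]
      refine sum_congr rfl fun j _ => ?_
      by_cases h : ∃ i, cond i j
      · obtain ⟨i, hi⟩ := h
        rw [sum_eq_single i, if_pos hi, hqc i j hi]
        · intro i' _ hne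
          refine if_neg fun hi' => hne ?_
          simp only [hcond] at hi hi'
          exact Sum.inl.inj (π.injective (val2_inj (by omega)))
        · simp
      · rw [sum_eq_zero fun i _ => if_neg fun hi => h ⟨i, hi⟩]
        by_contra hne
        have h1 := (chi_ne_zero_nonneg hne).1 j
        have h2 := chi_ne_zero_injective hne
        have hlt := val2_lt (π (Sum.inr j))
        rw [sh_self, cOf] at h1
        obtain ⟨z, hz⟩ := exists_val2 (N := N) (x := val2 (π (Sum.inr j)) + k) (by omega)
        obtain ⟨w, rfl⟩ := π.surjective z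
        rcases w with i | a
        · exact h ⟨i, by simp only [hcond]; omega⟩
        · have haj : a ≠ j := by rintro rfl; omega
          have := val2_lt (π (Sum.inr a))
          exact haj (h2 (by rw [sh_of_ne _ _ haj, sh_self, cOf, cOf]; omega))
    rw [hb, hc, sum_comm, mul_sum]
    refine sum_congr rfl fun i _ => ?_
    rw [mul_sum]
    refine sum_congr rfl fun j _ => ?_
    split_ifs with hij
    swap
    · rw [mul_zero]
    rw [ih']
    have hsum : ∑ a, val2 (π (Sum.inl a)) = (∑ a, val2 (q i j (Sum.inl a))) + k := by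
      rw [← add_sum_erase _ _ (mem_univ i)]
      conv_rhs => rw [← add_sum_erase _ _ (mem_univ i)]
      have h1 : val2 (q i j (Sum.inl i)) + k = val2 (π (Sum.inl i)) := by
        simp only [hq, Equiv.Perm.mul_apply, Equiv.swap_apply_left]
        exact hij.symm
      have h2 : ∑ a ∈ univ.erase i, val2 (q i j (Sum.inl a)) =
          ∑ a ∈ univ.erase i, val2 (π (Sum.inl a)) := by
        refine sum_congr rfl fun a ha => ?_
        rw [hq, Equiv.Perm.mul_apply, Equiv.swap_apply_of_ne_of_ne
          (by simpa using (mem_erase.mp ha).1) Sum.inl_ne_inr]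
      omega
    have hsign : (Equiv.Perm.sign (q i j) : ℤ) = -(Equiv.Perm.sign π : ℤ) := by
      rw [hq]
      simp [Equiv.Perm.sign_swap]
    simp only [pairSign, typeSign, hsum, hsign, Multiset.sum_cons, Multiset.card_cons, pow_add,
      pow_one]
    have h1 : ((-1 : ℤ) ^ k) * (-1) ^ k = 1 := by rw [← mul_pow]; norm_num
    linear_combination ((-1 : ℤ) ^ (∑ i : Fin N, (i : ℕ)) * (Equiv.Perm.sign π : ℤ) *
      (-1) ^ (∑ a, val2 (q i j (Sum.inl a))) * (-1) ^ M.sum * (-1) ^ M.card *
      chi M (bOf (q i j))) * h1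

theorem exists_pairing (hn : n ≤ N) {b : Fin N → ℤ} (hb : IsBead n b) :
    ∃ π : Equiv.Perm (Fin N ⊕ Fin N), bOf π = b := by
  classical
  have hex : ∀ i, ∃ z : Fin N ⊕ Fin N, (val2 z : ℤ) = b i := fun i => by
    have h1 := le_bound hb.1 hb.2.1 i
    have h2 := hb.2.1 i
    rw [hb.2.2] at h1
    obtain ⟨z, hz⟩ := exists_val2 (N := N) (x := (b i).toNat) (by omega)
    exact ⟨z, by omega⟩
  choose g hg using hex
  have hgi : Function.Injective g := fun i j h => hb.1 (by rw [← hg i, ← hg j, h])
  let e : {z : Fin N ⊕ Fin N // z ∈ Set.range (Sum.inl : Fin N → Fin N ⊕ Fin N)} ≃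
      {z : Fin N ⊕ Fin N // z ∈ Set.range g} :=
    (Equiv.ofInjective _ Sum.inl_injective).symm.trans (Equiv.ofInjective g hgi)
  refine ⟨e.extendSubtype, funext fun i => ?_⟩
  rw [bOf, Equiv.extendSubtype_apply_of_mem _ _ ⟨i, rfl⟩, ← hg i]
  have : ((Equiv.ofInjective _ (Sum.inl_injective (β := Fin N))).symm
      ⟨Sum.inl i, ⟨i, rfl⟩⟩) = i := by
    rw [Equiv.symm_apply_eq]; rfl
  show (val2 (e ⟨Sum.inl i, ⟨i, rfl⟩⟩ : Fin N ⊕ Fin N) : ℤ) = _
  simp only [e, Equiv.trans_apply, this, Equiv.ofInjective_apply]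

theorem sign_eq_typeSign (σ : Equiv.Perm (Fin n)) :
    (Equiv.Perm.sign σ : ℤ) = typeSign (otype σ) := by
  classical
  rw [Equiv.Perm.sign_of_cycleType, Units.val_pow_eq_pow_val, Units.val_neg, Units.val_one,
    typeSign, ← Multiset.filter_add_not (· ≠ 1) (otype σ), otype_filter_eq_cycleType]
  simp only [ne_eq, not_not, Multiset.filter_eq', Multiset.sum_add, Multiset.card_add,
    Multiset.sum_replicate, Multiset.card_replicate, smul_eq_mul, mul_one]
  rw [show σ.cycleType.sum + (otype σ).count 1 + (σ.cycleType.card + (otype σ).count 1) =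
    (σ.cycleType.sum + σ.cycleType.card) + 2 * (otype σ).count 1 by ring, pow_add _ _ (2 * _),
    pow_mul]
  norm_num

/-- A symmetric set of positions. -/
def SymSet (N : ℕ) (S : Finset ℕ) : Prop :=
  (∀ x ∈ S, x < 2 * N) ∧ ∀ x < 2 * N, (x ∈ S ↔ 2 * N - 1 - x ∉ S)

/-- The bead set of a self-associate character is symmetric. -/
theorem symSet_of_selfAssociate (hn : n ≤ N) {χ : Cfsg.IrrCharacter (Equiv.Perm (Fin n))}
    {b : Fin N → ℤ} (hb : HasBead n χ b)
    (hs : ∀ σ, ((Equiv.Perm.sign σ : ℤ) : ℂ) * (χ : Equiv.Perm (Fin n) → ℂ) σ =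
      (χ : Equiv.Perm (Fin n) → ℂ) σ) :
    SymSet N (univ.image fun i => (b i).toNat) := by
  classical
  obtain ⟨π, hπ⟩ := exists_pairing hn hb.1
  obtain ⟨hbb, e, he, hχ⟩ := id hb
  set C : ℤ := (-1) ^ (∑ i : Fin N, (i : ℕ)) * pairSign π with hC
  have hC1 : C = 1 ∨ C = -1 := by
    rcases neg_one_pow_eq_or ℤ (∑ i : Fin N, (i : ℕ)) with h | h <;>
      rcases neg_one_pow_eq_or ℤ (∑ i, val2 (π (Sum.inl i))) with h' | h' <;>
      rcases Int.units_eq_one_or (Equiv.Perm.sign π) with h'' | h'' <;>
      simp [hC, pairSign, h, h', h'']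
  have hθ : (χ : Equiv.Perm (Fin n) → ℂ) = (e * C) • theta n (cOf π) := by
    funext σ
    rw [← hs σ, hχ, Pi.smul_apply, Pi.smul_apply, smul_eq_mul, smul_eq_mul, theta, theta,
      chi_dual _ (fun k hk => otype_pos hk) π, hπ, ← hC, sign_eq_typeSign]
    push_cast
    rcases hC1 with h | h <;> rw [h] <;> push_cast <;> ring
  have hcB : IsBead n (cOf π) := by
    by_contra hnb
    have := congrFun hθ 1
    rw [theta_eq_zero_of_not_isBead hnb] at this
    exact Characters.Basic.apply_one_ne_zero χ (by simpa using this)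
  have hc : HasBead n χ (cOf π) := ⟨hcB, e * C, by
    rcases he with rfl | rfl <;> rcases hC1 with h | h <;> simp [h], hθ⟩
  obtain ⟨τ, hτ⟩ := hb.exists_perm hc
  have hmem : ∀ x : ℕ, x ∈ univ.image (fun i => (b i).toNat) ↔
      ∃ i, val2 (π (Sum.inl i)) = x := fun x => by
    simp only [mem_image, mem_univ, true_and]
    refine exists_congr fun i => ?_
    rw [← hπ, bOf, Int.toNat_natCast]
  refine ⟨fun x hx => ?_, fun x hx => ?_⟩
  · obtain ⟨i, rfl⟩ := (hmem x).mp hx
    exact val2_lt _
  · have hsw : (∃ i, val2 (π (Sum.inl i)) = x) ↔ ∃ j, val2 (π (Sum.inr j)) = 2 * N - 1 - x := by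
      constructor
      · rintro ⟨i, hi⟩
        refine ⟨τ.symm i, ?_⟩
        have h1 := congrFun hτ (τ.symm i)
        rw [Function.comp_apply, Equiv.apply_symm_apply, ← hπ, cOf, bOf, hi] at h1
        have := val2_lt (π (Sum.inr (τ.symm i)))
        omega
      · rintro ⟨j, hj⟩
        refine ⟨τ j, ?_⟩
        have h1 := congrFun hτ j
        rw [Function.comp_apply, ← hπ, cOf, bOf, hj] at h1
        omega
    rw [hmem, hmem, hsw]
    obtain ⟨z, hz⟩ := exists_val2 (N := N) (x := 2 * N - 1 - x) (by omega)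
    obtain ⟨w, rfl⟩ := π.surjective z
    constructor
    · rintro ⟨j, hj⟩ ⟨i, hi⟩
      exact Sum.inl_ne_inr (π.injective (val2_inj (hi.trans hj.symm)))
    · intro h
      rcases w with a | a
      · exact absurd ⟨a, hz⟩ h
      · exact ⟨a, hz⟩

end Cfsg.Agent.Lib.SymChar81
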