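import Cfsg.Agent.Lib.SymChar81.Type
import Cfsg.Agent.Lib.SymChar81.Bead
import Mathlib.Tactic.Ring.RingNF

/-!
# Orthogonality of the Murnaghan-Nakayama functions
-/

namespace Cfsg.Agent.Lib.SymChar81

open Finset
open scoped Nat

variable {N : ℕ}

/-- The expected inner product. -/
def eps (n : ℕ) (u v : Fin N → ℤ) : ℤ :=
  if (∀ i, 0 ≤ u i) ∧ ∑ i, u i = tot N + n then
    ∑ τ : Equiv.Perm (Fin N), (Equiv.Perm.sign τ : ℤ) * if v = u ∘ τ then 1 else 0
  else 0

theorem eps_eq_zero_left {n : ℕ} {u v : Fin N → ℤ} (hu : ¬ Function.Injective u) :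
    eps n u v = 0 := by
  refine eq_zero_of_antisymm (F := fun u => eps n u v) (fun b π => ?_) hu
  have h1 : ((∀ i, 0 ≤ (b ∘ π) i) ∧ ∑ i, (b ∘ π) i = tot N + n) ↔
      ((∀ i, 0 ≤ b i) ∧ ∑ i, b i = tot N + n) := by
    rw [show ∑ i, (b ∘ π) i = ∑ i, b i from Equiv.sum_comp π b]
    exact and_congr_left' ⟨fun h i => by simpa using h (π.symm i), fun h i => h _⟩
  simp only [eps, h1]
  split_ifs
  · rw [mul_sum, ← Equiv.sum_comp (Equiv.mulLeft π⁻¹)]
    refine sum_congr rfl fun τ _ => ?_
    simp only [Equiv.coe_mulLeft, map_mul, Equiv.Perm.sign_inv, Units.val_mul]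
    simp only [show (b ∘ π) ∘ ⇑(π⁻¹ * τ) = b ∘ τ by funext a; simp [Equiv.Perm.mul_apply]]
    ring
  · simp

theorem eps_eq_zero_right {n : ℕ} {u v : Fin N → ℤ} (hu : Function.Injective u)
    (hv : ¬ Function.Injective v) : eps n u v = 0 := by
  unfold eps
  split_ifs
  · refine sum_eq_zero fun τ _ => ?_
    rw [if_neg, mul_zero]
    rintro rfl
    exact hv (hu.comp τ.injective)
  · rfl

theorem base_mul_base (u v : Fin N → ℤ) : base u * base v = eps 0 u v := by
  by_cases hu : base u = 0
  · rw [hu, zero_mul, eps]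
    split_ifs with hval
    · by_cases hinj : Function.Injective u
      · exfalso
        obtain ⟨h0, hs⟩ := hval
        rw [Nat.cast_zero, add_zero] at hs
        have hlt : ∀ i, (u i).toNat < N := fun i => by
          have := le_bound hinj h0 i
          have := h0 i
          omega
        let f : Fin N → Fin N := fun i => ⟨(u i).toNat, hlt i⟩
        have hf : Function.Injective f := fun a b h => hinj (by
          have h' := congrArg Fin.val h
          simp only [f] at h'
          have := h0 a; have := h0 b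
          omega)
        set π := Equiv.ofBijective f hf.bijective_of_finite
        have hπ : u = fun i => ((π i : ℕ) : ℤ) := by
          funext i; simp [π, f, h0 i]
        have hb : base u = (Equiv.Perm.sign π : ℤ) := by
          rw [base, sum_eq_single π]
          · rw [if_pos hπ, mul_one]
          · intro τ _ hne
            rw [if_neg, mul_zero]
            intro h
            refine hne (Equiv.ext fun i => Fin.ext ?_)
            have := congrFun (h.symm.trans hπ) i
            exact_mod_cast this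
          · simp
        exact (Units.ne_zero (Equiv.Perm.sign π)) (hb ▸ hu)
      · have := eps_eq_zero_left (n := 0) (v := v) hinj
        rw [eps, if_pos hval] at this
        exact this.symm
    · rfl
  · obtain ⟨π, rfl⟩ := base_ne_zero hu
    set e : Fin N → ℤ := fun i => ((i : ℕ) : ℤ)
    have he : (fun i => ((π i : ℕ) : ℤ)) = e ∘ π := rfl
    have hb : ∀ w : Fin N → ℤ, base w =
        ∑ τ : Equiv.Perm (Fin N), (Equiv.Perm.sign τ : ℤ) * if w = e ∘ τ then 1 else 0 := fun w => rfl
    have he1 : base e = 1 := by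
      rw [hb, sum_eq_single 1]
      · simp
      · intro τ _ hne
        rw [if_neg, mul_zero]
        intro h
        refine hne (Equiv.ext fun i => Fin.ext ?_)
        have := congrFun h i
        simp only [e, Function.comp] at this
        exact_mod_cast this.symm
      · simp
    have hs0 : ∑ i, (e ∘ π) i = tot N + ((0 : ℕ) : ℤ) := by
      rw [Nat.cast_zero, add_zero, tot]; exact Equiv.sum_comp π e
    rw [he, base_comp, he1, mul_one, eps, if_pos ⟨fun i => by simp [e], hs0⟩]
    rw [hb v, mul_sum, ← Equiv.sum_comp (Equiv.mulLeft π)]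
    refine sum_congr rfl fun τ _ => ?_
    simp only [Equiv.coe_mulLeft, map_mul, Units.val_mul, ← mul_assoc, Equiv.Perm.coe_mul,
      Function.comp_assoc]
    rw [← Units.val_mul, Int.units_mul_self, Units.val_one, one_mul]
    by_cases hve : v = e ∘ π ∘ τ <;> simp [hve]

/-- Removals from a valid tuple have bounded length. -/
theorem removal_le {n k : ℕ} {i : Fin N} {u : Fin N → ℤ} (hs : ∑ a, u a = tot N + n)
    (h0 : ∀ a, 0 ≤ sh k i u a) (hinj : Function.Injective (sh (k : ℤ) i u)) : k ≤ n := by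
  have h := tot_le_sum hinj h0
  rw [sum_sh, hs] at h
  omega

theorem sh_injective {k : ℤ} {i : Fin N} {u : Fin N → ℤ} (hinj : Function.Injective u)
    (hne : ∀ c, u c ≠ u i - k) : Function.Injective (sh k i u) := by
  intro a b h
  by_cases ha : a = i
  · by_cases hb : b = i
    · rw [ha, hb]
    · subst ha; rw [sh_self, sh_of_ne _ _ hb] at h
      exact absurd h.symm (hne b)
  · by_cases hb : b = i
    · subst hb; rw [sh_self, sh_of_ne _ _ ha] at h
      exact absurd h (hne a)
    · rw [sh_of_ne _ _ ha, sh_of_ne _ _ hb] at h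
      exact hinj h

/-- The condition on a removal followed by an addition. -/
def Good (u v : Fin N → ℤ) (n : ℕ) (a : ℕ × Fin N × Fin N × Equiv.Perm (Fin N)) : Prop :=
  a.1 < n + 1 ∧ (0 ≤ u a.2.1 - (a.1 + 1 : ℕ) ∧ ∀ c, u c ≠ u a.2.1 - (a.1 + 1 : ℕ)) ∧
    v ∘ a.2.2.2.symm = sh (-((a.1 + 1 : ℕ) : ℤ)) a.2.2.1 (sh ((a.1 + 1 : ℕ) : ℤ) a.2.1 u)

theorem good_mk {u v : Fin N → ℤ} {n : ℕ} (hu : Function.Injective u) (h0 : ∀ a, 0 ≤ u a)
    (hs : ∑ a, u a = tot N + (n + 1 : ℕ)) {k : ℕ} {i m : Fin N} {τ : Equiv.Perm (Fin N)}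
    (hk : 0 < k) (hge : 0 ≤ u i - k) (hnr : ∀ c, u c ≠ u i - k)
    (heq : v ∘ τ.symm = sh (-(k : ℤ)) m (sh (k : ℤ) i u)) :
    Good u v n (k - 1, i, m, τ) := by
  have hle : k ≤ n + 1 := removal_le hs (fun a => by
    by_cases ha : a = i
    · subst ha; rwa [sh_self]
    · rw [sh_of_ne _ _ ha]; exact h0 a) (sh_injective hu hnr)
  have e : k - 1 + 1 = k := by omega
  refine ⟨by simp only; omega, ?_, ?_⟩
  · simp only [e]; exact ⟨hge, hnr⟩
  · simp only [e]; exact heq

/-- The partner of a removal-addition pair. -/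
def partner (u : Fin N → ℤ) (a : ℕ × Fin N × Fin N × Equiv.Perm (Fin N)) :
    ℕ × Fin N × Fin N × Equiv.Perm (Fin N) :=
  if u a.2.2.1 + (a.1 + 1 : ℕ) < u a.2.1 then
    ((u a.2.1 - u a.2.2.1 - (a.1 + 1 : ℕ)).toNat - 1, a.2.1, a.2.2.1,
      Equiv.swap a.2.1 a.2.2.1 * a.2.2.2)
  else
    ((u a.2.2.1 + (a.1 + 1 : ℕ) - u a.2.1).toNat - 1, a.2.2.1, a.2.1,
      Equiv.swap a.2.1 a.2.2.1 * a.2.2.2)

theorem good_values {u v : Fin N → ℤ} {n : ℕ} (hv : Function.Injective v)
    {a : ℕ × Fin N × Fin N × Equiv.Perm (Fin N)} (h : Good u v n a) (hne : a.2.1 ≠ a.2.2.1) :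
    ∀ c, c ≠ a.2.1 → c ≠ a.2.2.1 → u c ≠ u a.2.2.1 + (a.1 + 1 : ℕ) := by
  obtain ⟨j, i, m, τ⟩ := a
  intro c hci hcm hc
  simp only at *
  have hinj : Function.Injective (v ∘ τ.symm) := hv.comp τ.symm.injective
  rw [h.2.2] at hinj
  apply hcm
  apply hinj
  simp only [sh_self, sh_of_ne _ _ hcm, sh_of_ne _ _ hci, sh_of_ne _ _ hne.symm, hc]
  push_cast
  ring

theorem partner_good {u v : Fin N → ℤ} {n : ℕ} (hu : Function.Injective u) (h0 : ∀ a, 0 ≤ u a)
    (hs : ∑ a, u a = tot N + (n + 1 : ℕ)) (hv : Function.Injective v)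
    {a : ℕ × Fin N × Fin N × Equiv.Perm (Fin N)} (h : Good u v n a) (hne : a.2.1 ≠ a.2.2.1) :
    Good u v n (partner u a) ∧ (partner u a).2.1 ≠ (partner u a).2.2.1 ∧
      (Equiv.Perm.sign (partner u a).2.2.2 : ℤ) = -(Equiv.Perm.sign a.2.2.2 : ℤ) ∧
      partner u (partner u a) = a := by
  have hvals := good_values hv h hne
  have hinj : Function.Injective (v ∘ a.2.2.2.symm) := hv.comp a.2.2.2.symm.injective
  rw [h.2.2] at hinj
  obtain ⟨j, i, m, τ⟩ := a
  obtain ⟨hj, ⟨hge, hnr⟩, heq⟩ := h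
  simp only at *
  set k : ℕ := j + 1 with hk
  have hsym : (Equiv.swap i m * τ).symm = τ.symm * Equiv.swap i m := by
    rw [← Equiv.Perm.inv_def, mul_inv_rev, Equiv.swap_inv]; rfl
  have hsw : v ∘ (Equiv.swap i m * τ).symm =
      sh (-(k : ℤ)) m (sh (k : ℤ) i u) ∘ Equiv.swap i m := by
    rw [hsym, Equiv.Perm.coe_mul, ← Function.comp_assoc, heq]
  have hci : sh (-(k : ℤ)) m (sh (k : ℤ) i u) i = u i - k := by
    rw [sh_of_ne _ _ hne, sh_self]
  have hcm : sh (-(k : ℤ)) m (sh (k : ℤ) i u) m = u m + k := by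
    rw [sh_self, sh_of_ne _ _ hne.symm]; ring
  have hx : u m + k ≠ u i := fun e => hnr m (by omega)
  have hsgn : (Equiv.Perm.sign (Equiv.swap i m * τ) : ℤ) = -(Equiv.Perm.sign τ : ℤ) := by
    simp [Equiv.Perm.sign_mul, Equiv.Perm.sign_swap hne]
  have hback : Equiv.swap i m * (Equiv.swap i m * τ) = τ := by
    rw [← mul_assoc, Equiv.swap_mul_self, one_mul]
  have hnr' : ∀ c, u c ≠ u m + k := fun c e => by
    by_cases hc : c = i
    · subst hc; exact hx e.symm
    · by_cases hc' : c = m
      · subst hc'; omega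
      · exact hvals c hc hc' e
  have hne2 : u i - k ≠ u m + k := by
    rw [← hci, ← hcm]; exact fun e => hne (hinj e)
  by_cases hlt : u m + k < u i
  · have hp : partner u (j, i, m, τ) =
        ((u i - u m - k).toNat - 1, i, m, Equiv.swap i m * τ) := by
      simp only [partner, ← hk, if_pos hlt]
    obtain ⟨k', hk'⟩ : ∃ k' : ℕ, (k' : ℤ) = u i - u m - k := ⟨_, Int.toNat_of_nonneg (by omega)⟩
    rw [hp, ← hk', Int.toNat_natCast]
    refine ⟨good_mk hu h0 hs (by omega) (by have := h0 m; omega) (fun c e => hnr' c (by omega))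
      ?_, hne, hsgn, ?_⟩
    · rw [hsw]
      funext c
      simp only [Function.comp]
      by_cases hc : c = i
      · subst hc
        rw [Equiv.swap_apply_left, hcm, sh_of_ne _ _ hne, sh_self]; omega
      · by_cases hc' : c = m
        · subst hc'
          rw [Equiv.swap_apply_right, hci, sh_self, sh_of_ne _ _ hne.symm]; omega
        · rw [Equiv.swap_apply_of_ne_of_ne hc hc', sh_of_ne _ _ hc', sh_of_ne _ _ hc,
            sh_of_ne _ _ hc', sh_of_ne _ _ hc]
    · simp only [partner]
      have e : k' - 1 + 1 = k' := by omega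
      rw [e, if_pos (by omega), hback]
      congr 1
      omega
  · have hp : partner u (j, i, m, τ) =
        ((u m + k - u i).toNat - 1, m, i, Equiv.swap i m * τ) := by
      simp only [partner, ← hk, if_neg hlt]
    obtain ⟨k', hk'⟩ : ∃ k' : ℕ, (k' : ℤ) = u m + k - u i := ⟨_, Int.toNat_of_nonneg (by omega)⟩
    rw [hp, ← hk', Int.toNat_natCast]
    refine ⟨good_mk hu h0 hs (by omega) (by omega) (fun c e => hnr c (by omega))
      ?_, hne.symm, hsgn, ?_⟩
    · rw [hsw]
      funext c
      simp only [Function.comp]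
      by_cases hc : c = i
      · subst hc
        rw [Equiv.swap_apply_left, hcm, sh_self, sh_of_ne _ _ hne]; omega
      · by_cases hc' : c = m
        · subst hc'
          rw [Equiv.swap_apply_right, hci, sh_of_ne _ _ hne.symm, sh_self]; omega
        · rw [Equiv.swap_apply_of_ne_of_ne hc hc', sh_of_ne _ _ hc, sh_of_ne _ _ hc',
            sh_of_ne _ _ hc', sh_of_ne _ _ hc]
    · simp only [partner]
      have e : k' - 1 + 1 = k' := by omega
      rw [e, if_neg (by omega), Equiv.swap_comm m i, hback]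
      congr 1
      omega

theorem sum_good_offdiag {u v : Fin N → ℤ} {n : ℕ} (hu : Function.Injective u)
    (h0 : ∀ a, 0 ≤ u a) (hs : ∑ a, u a = tot N + (n + 1 : ℕ)) (hv : Function.Injective v)
    [DecidablePred (Good u v n)] :
    ∑ a ∈ ((range (n + 1)) ×ˢ univ).filter (fun a => Good u v n a ∧ a.2.1 ≠ a.2.2.1),
      (Equiv.Perm.sign a.2.2.2 : ℤ) = 0 := by
  refine sum_involution (fun a _ => partner u a) ?_ ?_ ?_ ?_
  · intro a ha
    rw [mem_filter] at ha
    rw [(partner_good hu h0 hs hv ha.2.1 ha.2.2).2.2.1]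
    ring
  · intro a ha _ he
    rw [mem_filter] at ha
    have := (partner_good hu h0 hs hv ha.2.1 ha.2.2).2.2.1
    rw [he] at this
    have hu0 : (Equiv.Perm.sign a.2.2.2 : ℤ) ≠ 0 := Units.ne_zero _
    omega
  · intro a ha
    rw [mem_filter] at ha ⊢
    obtain ⟨h1, h2, -⟩ := partner_good hu h0 hs hv ha.2.1 ha.2.2
    exact ⟨mem_product.mpr ⟨mem_range.mpr h1.1, mem_univ _⟩, h1, h2⟩
  · intro a ha
    rw [mem_filter] at ha
    exact (partner_good hu h0 hs hv ha.2.1 ha.2.2).2.2.2

theorem card_good_diag {u : Fin N → ℤ} {n : ℕ} (hu : Function.Injective u)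
    (h0 : ∀ a, 0 ≤ u a) (hs : ∑ a, u a = tot N + (n + 1 : ℕ)) (i : Fin N) :
    (((range (n + 1)).filter fun j : ℕ =>
      0 ≤ u i - (j + 1 : ℕ) ∧ ∀ c, u c ≠ u i - (j + 1 : ℕ)).card : ℤ) = gap u i := by
  have hbelow : (univ.filter fun l => u l < u i).image u ⊆ Ico 0 (u i) := by
    intro y hy
    simp only [mem_image, mem_filter, mem_univ, true_and] at hy
    obtain ⟨l, hl, rfl⟩ := hy
    exact mem_Ico.mpr ⟨h0 l, hl⟩
  have himg : ((range (n + 1)).filter fun j : ℕ =>
      0 ≤ u i - (j + 1 : ℕ) ∧ ∀ c, u c ≠ u i - (j + 1 : ℕ)).image (fun j : ℕ => u i - (j + 1 : ℕ)) =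
        Ico 0 (u i) \ (univ.filter fun l => u l < u i).image u := by
    ext y
    simp only [mem_image, mem_filter, mem_range, mem_sdiff, mem_Ico, mem_univ, true_and]
    constructor
    · rintro ⟨j, ⟨_, hj1, hj2⟩, rfl⟩
      exact ⟨⟨hj1, by omega⟩, fun ⟨l, _, hl⟩ => hj2 l hl⟩
    · rintro ⟨⟨hy0, hy1⟩, hy2⟩
      obtain ⟨k, hk⟩ : ∃ k : ℕ, (k : ℤ) = u i - y := ⟨_, Int.toNat_of_nonneg (by omega)⟩
      have hnr : ∀ c, u c ≠ y := fun c hc => hy2 ⟨c, by omega, hc⟩
      have hle : k ≤ n + 1 := removal_le (i := i) hs (fun a => by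
        by_cases ha : a = i
        · subst ha; rw [sh_self]; omega
        · rw [sh_of_ne _ _ ha]; exact h0 a) (sh_injective hu fun c => by rw [hk]; simpa using hnr c)
      refine ⟨k - 1, ⟨by omega, by omega, fun c hc => hnr c (by omega)⟩, by omega⟩
  have h2 := congrArg Finset.card himg
  rw [card_image_of_injective _ (fun a b (h : u i - ((a + 1 : ℕ) : ℤ) = u i - ((b + 1 : ℕ) : ℤ)) =>
      by omega), card_sdiff_of_subset hbelow, card_image_of_injective _ hu, Int.card_Ico] at h2
  have h3 := card_le_card hbelow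
  rw [card_image_of_injective _ hu, Int.card_Ico] at h3
  rw [h2, gap]
  have := h0 i
  omega

theorem sum_eps_step {u v : Fin N → ℤ} {n : ℕ} (hu : Function.Injective u)
    (hv : Function.Injective v) :
    ∑ j ∈ range (n + 1), ∑ i, ∑ l,
      eps (n - j) (sh ((j + 1 : ℕ) : ℤ) i u) (sh ((j + 1 : ℕ) : ℤ) l v) =
    ((n + 1 : ℕ) : ℤ) * eps (n + 1) u v := by
  classical
  by_cases hval : (∀ a, 0 ≤ u a) ∧ ∑ a, u a = tot N + (n + 1 : ℕ)
  swap
  · rw [eps, if_neg hval, mul_zero]
    refine sum_eq_zero fun j hj => sum_eq_zero fun i _ => sum_eq_zero fun l _ => ?_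
    rw [eps, if_neg]
    rintro ⟨h1, h2⟩
    refine hval ⟨fun a => ?_, ?_⟩
    · have := h1 a
      by_cases ha : a = i
      · subst ha; rw [sh_self] at this; omega
      · rwa [sh_of_ne _ _ ha] at this
    · rw [sum_sh] at h2
      rw [mem_range] at hj
      omega
  obtain ⟨h0, hs⟩ := hval
  have hterm : ∀ j ∈ range (n + 1), ∀ i,
      ∑ l, eps (n - j) (sh ((j + 1 : ℕ) : ℤ) i u) (sh ((j + 1 : ℕ) : ℤ) l v) =
        ∑ m, ∑ τ : Equiv.Perm (Fin N),
          if Good u v n (j, i, m, τ) then (Equiv.Perm.sign τ : ℤ) else 0 := by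
    intro j hj i
    rw [mem_range] at hj
    set k : ℤ := ((j + 1 : ℕ) : ℤ) with hk
    by_cases hok : 0 ≤ u i - k ∧ ∀ c, u c ≠ u i - k
    swap
    · rw [sum_eq_zero, sum_eq_zero]
      · intro m _; exact sum_eq_zero fun τ _ => if_neg fun h => hok h.2.1
      · intro l _
        by_cases hinj : Function.Injective (sh k i u)
        · rw [eps, if_neg]
          rintro ⟨h1, -⟩
          have h2 := h1 i
          rw [sh_self] at h2
          refine hok ⟨h2, fun c hc => ?_⟩
          have hci : c ≠ i := fun e => by subst e; omega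
          exact hci (hinj (by rw [sh_self, sh_of_ne _ _ hci, hc]))
        · exact eps_eq_zero_left hinj
    have hnn : ∀ a, 0 ≤ sh k i u a := fun a => by
      by_cases ha : a = i
      · subst ha; rw [sh_self]; exact hok.1
      · rw [sh_of_ne _ _ ha]; exact h0 a
    have hsum : ∑ a, sh k i u a = tot N + ((n - j : ℕ) : ℤ) := by
      rw [sum_sh, hs, hk]; omega
    simp only [eps, if_pos (And.intro hnn hsum)]
    rw [sum_comm, sum_comm (f := fun m τ => if Good u v n (j, i, m, τ) then _ else _)]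
    refine sum_congr rfl fun τ _ => ?_
    rw [← Equiv.sum_comp τ.symm]
    refine sum_congr rfl fun m _ => ?_
    have hiff : Good u v n (j, i, m, τ) ↔ sh k (τ.symm m) v = sh k i u ∘ τ := by
      have hj' : j < n + 1 := hj
      simp only [Good, ← hk]
      constructor
      · rintro ⟨-, -, h⟩
        have : v = sh (-k) m (sh k i u) ∘ τ := by rw [← h]; funext a; simp
        rw [this, sh_comp_perm]
        congr 1
        simpa using sh_sh_neg k m (sh k i u)
      · intro h
        refine ⟨hj', hok, ?_⟩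
        have h' := congrArg (sh (-k) (τ.symm m)) h
        have e : sh (-k) (τ.symm m) (sh k (τ.symm m) v) = v := by
          simpa using sh_sh_neg (-k) (τ.symm m) v
        rw [e, sh_comp_perm] at h'
        rw [h']; funext a; simp
    simp only [hiff]
    split_ifs <;> simp
  rw [sum_congr rfl fun j hj => sum_congr rfl fun i _ => hterm j hj i]
  have hflat : ∑ j ∈ range (n + 1), ∑ i, ∑ m, ∑ τ : Equiv.Perm (Fin N),
      (if Good u v n (j, i, m, τ) then (Equiv.Perm.sign τ : ℤ) else 0) =
      ∑ a ∈ ((range (n + 1)) ×ˢ univ).filter (Good u v n), (Equiv.Perm.sign a.2.2.2 : ℤ) := by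
    rw [sum_filter, sum_product]
    refine sum_congr rfl fun j _ => ?_
    rw [← univ_product_univ, sum_product]
    refine sum_congr rfl fun i _ => ?_
    rw [← univ_product_univ, sum_product]
  rw [hflat, ← sum_filter_add_sum_filter_not _ (fun a => a.2.1 = a.2.2.1), filter_filter,
    filter_filter]
  have hoff := sum_good_offdiag hu h0 hs hv
  simp only [ne_eq] at hoff
  rw [hoff, add_zero, eps, if_pos ⟨h0, hs⟩, mul_sum]
  rw [sum_filter, sum_product]
  simp only [← univ_product_univ, sum_product]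
  rw [sum_comm]
  have hdiag : ∀ (j : ℕ) (i m : Fin N) (τ : Equiv.Perm (Fin N)), j ∈ range (n + 1) →
      (Good u v n (j, i, m, τ) ∧ i = m ↔ (0 ≤ u i - (j + 1 : ℕ) ∧ ∀ c, u c ≠ u i - (j + 1 : ℕ)) ∧
        (v = u ∘ τ ∧ i = m)) := by
    intro j i m τ hj
    rw [mem_range] at hj
    constructor
    · rintro ⟨⟨-, h2, h3⟩, h4⟩
      simp only at h3 h4
      subst h4
      refine ⟨h2, ?_, rfl⟩
      have e := sh_sh_neg (-((j + 1 : ℕ) : ℤ)) i u
      rw [neg_neg] at e
      rw [e] at h3
      rw [← h3]; funext a; simp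
    · rintro ⟨h2, rfl, rfl⟩
      refine ⟨⟨hj, h2, ?_⟩, rfl⟩
      have e := sh_sh_neg (-((j + 1 : ℕ) : ℤ)) i u
      rw [neg_neg] at e
      simp only [e]
      funext a; simp
  have hcount : ∀ i, ∑ j ∈ range (n + 1),
      ∑ m, ∑ τ : Equiv.Perm (Fin N),
        (if Good u v n (j, i, m, τ) ∧ i = m then (Equiv.Perm.sign τ : ℤ) else 0) =
      gap u i * ∑ τ : Equiv.Perm (Fin N),
        ((Equiv.Perm.sign τ : ℤ) * if v = u ∘ τ then 1 else 0) := by
    intro i
    rw [← card_good_diag hu h0 hs i, card_filter, Nat.cast_sum, sum_mul]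
    refine sum_congr rfl fun j hj => ?_
    rw [sum_eq_single i]
    · rw [mul_sum]
      refine sum_congr rfl fun τ _ => ?_
      rw [if_congr (hdiag j i i τ hj) rfl rfl]
      simp only [and_true]
      rw [ite_and]
      split_ifs <;> simp
    · intro m _ hm
      exact sum_eq_zero fun τ _ => if_neg fun h => hm h.2.symm
    · simp
  rw [sum_congr rfl fun i _ => hcount i, ← sum_mul, sum_gap hu, hs, mul_sum]
  refine sum_congr rfl fun τ _ => ?_
  push_cast
  ring

/-- **Orthogonality**. -/
theorem psum_chi_mul : ∀ (n : ℕ) (u v : Fin N → ℤ),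
    psum n (fun T => chi T u * chi T v) = (n ! : ℤ) * eps n u v := by
  intro n
  induction n using Nat.strong_induction_on with
  | h n ih =>
    intro u v
    match n, ih with
    | 0, _ =>
      simp [psum, otype, chi_zero, base_mul_base, orb]
    | n + 1, ih =>
      by_cases hu : Function.Injective u
      swap
      · rw [eps_eq_zero_left hu, mul_zero]
        exact sum_eq_zero fun σ _ => by
          simp only [chi_eq_zero_of_not_injective hu, zero_mul]
      by_cases hv : Function.Injective v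
      swap
      · rw [eps_eq_zero_right hu hv, mul_zero]
        exact sum_eq_zero fun σ _ => by
          simp only [chi_eq_zero_of_not_injective hv, mul_zero]
      rw [psum_succ]
      have hj : ∀ j ∈ range (n + 1),
          n.descFactorial j • psum (n - j) (fun T => chi ((j + 1) ::ₘ T) u * chi ((j + 1) ::ₘ T) v) =
          (n ! : ℤ) * ∑ i, ∑ l,
            eps (n - j) (sh ((j + 1 : ℕ) : ℤ) i u) (sh ((j + 1 : ℕ) : ℤ) l v) := by
        intro j hj
        rw [mem_range] at hj
        have hswap : psum (n - j) (fun T => chi ((j + 1) ::ₘ T) u * chi ((j + 1) ::ₘ T) v) =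
            ∑ i, ∑ l, psum (n - j) (fun T => chi T (sh ((j + 1 : ℕ) : ℤ) i u) *
              chi T (sh ((j + 1 : ℕ) : ℤ) l v)) := by
          simp only [psum, chi_cons, sum_mul_sum]
          rw [sum_comm]
          exact sum_congr rfl fun i _ => by rw [sum_comm]
        rw [hswap, sum_congr rfl fun i _ => sum_congr rfl fun l _ => ih (n - j) (by omega) _ _]
        rw [smul_sum, mul_sum]
        refine sum_congr rfl fun i _ => ?_
        rw [smul_sum, mul_sum]
        refine sum_congr rfl fun l _ => ?_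
        rw [nsmul_eq_mul, ← mul_assoc, ← Nat.cast_mul, mul_comm (n.descFactorial j),
          Nat.factorial_mul_descFactorial (by omega)]
      rw [sum_congr rfl hj, ← mul_sum, sum_eps_step hu hv, Nat.factorial_succ]
      push_cast
      ring

end Cfsg.Agent.Lib.SymChar81
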