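import Cfsg.Agent.Lib.SymChar81.Block
import Cfsg.Agent.Lib.SymChar81.Core
import Cfsg.Prelude.Def_BlockRank
import Mathlib.LinearAlgebra.Dimension.Constructions
import Mathlib.Algebra.Module.BigOperators

/-!
# The `p`-regular rank of a block of a symmetric group

On the regular classes the bead functions are spanned by those with nothing moved on runner `0`.
-/

set_option linter.unusedSectionVars false

namespace Cfsg.Agent.Lib.SymChar81

open Finset

variable {N n p : ℕ}

/-- The bead function on the regular classes. -/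
noncomputable def rpart (p n : ℕ) (b : Fin N → ℤ) : Equiv.Perm (Fin n) → ℂ :=
  Cfsg.pRegularPart p (theta n b)

theorem rpart_apply (b : Fin N → ℤ) (σ : Equiv.Perm (Fin n)) [Decidable (Cfsg.IsPRegular p σ)] :
    rpart p n b σ = if Cfsg.IsPRegular p σ then (chi (otype σ) b : ℂ) else 0 := by
  unfold rpart Cfsg.pRegularPart theta
  split_ifs <;> rfl

theorem rpart_comp (b : Fin N → ℤ) (π : Equiv.Perm (Fin N)) :
    rpart p n (b ∘ π) = ((Equiv.Perm.sign π : ℤ) : ℂ) • rpart p n b := by
  classical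
  funext σ
  simp only [rpart_apply, chi_comp, Pi.smul_apply, smul_eq_mul]
  split_ifs <;> simp

theorem rpart_eq_zero {b : Fin N → ℤ} (hb : ¬ Function.Injective b) : rpart p n b = 0 := by
  classical
  funext σ
  rw [rpart_apply, chi_eq_zero_of_not_injective hb]
  simp

theorem sum_rpart_raise [Fact p.Prime] (hn : n ≤ N) {k : ℕ} (hk : 0 < k) (hpk : p ∣ k)
    {u : Fin N → ℤ} (hu : ∀ i, 0 ≤ u i) : ∑ i, rpart p n (sh (-(k : ℤ)) i u) = 0 := by
  classical
  funext σ
  simp only [Finset.sum_apply, rpart_apply, Pi.zero_apply]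
  split_ifs with h
  · rw [← Int.cast_sum, sum_theta_raise hn hk hpk h hu, Int.cast_zero]
  · simp

/-- The bead positions on runner `0`, divided by `p`, added up. -/
def sZero (p : ℕ) (b : Fin N → ℤ) : ℤ := ∑ i, if b i % (p : ℤ) = 0 then b i / p else 0

theorem sZero_nonneg {b : Fin N → ℤ} (hb : ∀ i, 0 ≤ b i) : 0 ≤ sZero p b := by
  refine sum_nonneg fun i _ => ?_
  split_ifs
  · exact Int.ediv_nonneg (hb i) (Int.natCast_nonneg _)
  · exact le_rfl

/-- The tuples with nothing moved on runner `0`. -/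
def Settled (p n : ℕ) (R : ℕ → ℕ) : Set (Fin N → ℤ) :=
  {b | b ∈ Box p n R ∧ Function.Injective b ∧ sZero p b = tot (R 0)}

/-- Every bead function is spanned, on regular classes, by the settled ones. -/
theorem rpart_mem_span [Fact p.Prime] (hn : n ≤ N) (R : ℕ → ℕ) : ∀ (w : ℕ) (b : Fin N → ℤ),
    b ∈ Box p n R → (sZero p b).toNat = w →
      rpart p n b ∈ Submodule.span ℂ (rpart p n '' Settled (N := N) p n R) := by
  classical
  intro w
  induction w using Nat.strong_induction_on with
  | h w ih =>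
    intro b0 hb0 hw
    have hp0 : 0 < p := (Fact.out : p.Prime).pos
    have hpZ : (0 : ℤ) < p := by exact_mod_cast hp0
    by_cases hinj : Function.Injective b0
    swap
    · rw [rpart_eq_zero hinj]; exact zero_mem _
    set S := Submodule.span ℂ (rpart p n '' Settled (N := N) p n R) with hS
    obtain ⟨h0, hsum, hR⟩ := mem_box.mp hb0
    let m := R 0
    have hm : Fintype.card {i // b0 i % (p : ℤ) = 0} = m := by
      rw [Fintype.card_subtype]
      exact congrFun hR 0
    obtain ⟨e⟩ : Nonempty (Fin m ≃ {i // b0 i % (p : ℤ) = 0}) :=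
      ⟨(finCongr hm.symm).trans (Fintype.equivFin _).symm⟩
    set emb : (Fin m → ℤ) → (Fin N → ℤ) := fun u i =>
      if h : b0 i % (p : ℤ) = 0 then (p : ℤ) * u (e.symm ⟨i, h⟩) else b0 i with hemb
    have emb_in : ∀ u a, emb u (e a) = (p : ℤ) * u a := fun u a => by
      simp only [hemb]
      rw [dif_pos (e a).2, Subtype.coe_eta, Equiv.symm_apply_apply]
    have emb_out : ∀ u i, b0 i % (p : ℤ) ≠ 0 → emb u i = b0 i := fun u i hi => by
      simp only [hemb]
      rw [dif_neg hi]
    have emb_mod : ∀ u i, emb u i % (p : ℤ) = b0 i % p := fun u i => by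
      by_cases hi : b0 i % (p : ℤ) = 0
      · simp only [hemb]
        rw [dif_pos hi, hi, Int.mul_emod_right]
      · rw [emb_out u i hi]
    have emb_rc : ∀ u, rc p (emb u) = R := fun u => by
      rw [← hR]; funext r; simp only [rc, emb_mod]
    have emb_s : ∀ u, sZero p (emb u) = ∑ a, u a := fun u => by
      simp only [sZero, emb_mod]
      rw [← sum_filter,
        sum_subtype (p := fun i => b0 i % (p : ℤ) = 0) _ (fun i => by simp) (fun i => emb u i / p),
        ← e.sum_comp]
      refine sum_congr rfl fun a _ => ?_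
      rw [emb_in, Int.mul_ediv_cancel_left _ hpZ.ne']
    set q0 : Fin m → ℤ := fun a => b0 (e a) / p with hq0
    have emb_q0 : emb q0 = b0 := by
      funext i
      by_cases hi : b0 i % (p : ℤ) = 0
      · simp only [hemb, hq0]
        rw [dif_pos hi, Equiv.apply_symm_apply, Int.mul_ediv_cancel' (Int.dvd_of_emod_eq_zero hi)]
      · exact emb_out _ i hi
    have emb_sum : ∀ u, ∑ i, emb u i = ∑ i, b0 i + (p : ℤ) * (∑ a, u a - ∑ a, q0 a) := fun u => by
      have hd : ∀ u, ∑ i, emb u i = (p : ℤ) * ∑ a, u a +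
          ∑ i : {i // ¬ b0 i % (p : ℤ) = 0}, b0 i := fun u => by
        rw [← Fintype.sum_subtype_add_sum_subtype (fun i => b0 i % (p : ℤ) = 0) (emb u),
          ← e.sum_comp, mul_sum]
        congr 1
        · exact sum_congr rfl fun a _ => emb_in u a
        · exact sum_congr rfl fun i _ => emb_out u i i.2
      have := hd q0
      rw [emb_q0] at this
      rw [hd u, this]
      ring
    have emb_nonneg : ∀ u, (∀ a, 0 ≤ u a) → ∀ i, 0 ≤ emb u i := fun u hu i => by
      by_cases hi : b0 i % (p : ℤ) = 0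
      · simp only [hemb, dif_pos hi]
        exact mul_nonneg hpZ.le (hu _)
      · rw [emb_out u i hi]; exact h0 i
    have hq0n : ∀ a, 0 ≤ q0 a := fun a => Int.ediv_nonneg (h0 _) hpZ.le
    have hq0i : Function.Injective q0 := fun a a' h => by
      have h1 : emb q0 (e a) = emb q0 (e a') := by rw [emb_in, emb_in, h]
      rw [emb_q0] at h1
      exact e.injective (Subtype.ext (hinj h1))
    have hsq : sZero p b0 = ∑ a, q0 a := by rw [← emb_s q0, emb_q0]
    obtain ⟨v, hv⟩ : ∃ v : ℕ, ∑ a, q0 a = tot m + v :=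
      ⟨(∑ a, q0 a - tot m).toNat, by have := tot_le_sum hq0i hq0n; omega⟩
    rcases Nat.eq_zero_or_pos v with hv0 | hvpos
    · refine Submodule.subset_span ⟨b0, ⟨hb0, hinj, ?_⟩, rfl⟩
      rw [hsq, hv, hv0, Nat.cast_zero, add_zero]
    set L := Submodule.span ℂ
      (rpart p n '' {b : Fin N → ℤ | b ∈ Box p n R ∧ sZero p b < sZero p b0}) with hL
    have hLS : L ≤ S := by
      rw [hL, Submodule.span_le]
      rintro _ ⟨b, ⟨hb, hlt⟩, rfl⟩
      have := sZero_nonneg (p := p) (mem_box.mp hb).1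
      exact ih _ (by omega) b hb rfl
    refine hLS ?_
    set Ψ : (Fin m → ℤ) → ((Equiv.Perm (Fin n) → ℂ) ⧸ L) := fun u =>
      Submodule.Quotient.mk (rpart p n (emb u)) with hΨ
    have raise : ∀ k : ℕ, 0 < k → k ≤ v → ∀ u ∈ Box (N := m) 1 (v - k) (rc 1 q0),
        ∑ a, Ψ (sh (-(k : ℤ)) a u) = 0 := by
      intro k hk hkv u hu
      obtain ⟨hu0, hus, -⟩ := mem_box.mp hu
      have hsp := sum_rpart_raise (p := p) hn (Nat.mul_pos hp0 hk) (dvd_mul_right p k)
        (emb_nonneg u hu0)
      have hterm : ∀ a, emb (sh (-(k : ℤ)) a u) = sh (-((p * k : ℕ) : ℤ)) (e a) (emb u) := by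
        intro a
        funext i
        by_cases hi : i = (e a : Fin N)
        · subst hi; rw [emb_in, sh_self, sh_self, emb_in]; push_cast; ring
        · rw [sh_of_ne _ _ hi]
          by_cases hI : b0 i % (p : ℤ) = 0
          · simp only [hemb, dif_pos hI]
            rw [sh_of_ne]
            intro h
            exact hi (by rw [← h, Equiv.apply_symm_apply])
          · rw [emb_out _ i hI, emb_out _ i hI]
      simp only [hΨ, ← Submodule.mkQ_apply, ← map_sum]
      rw [Submodule.mkQ_apply, Submodule.Quotient.mk_eq_zero]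
      rw [← Fintype.sum_subtype_add_sum_subtype (fun i => b0 i % (p : ℤ) = 0)] at hsp
      have hout : ∑ i : {i // ¬ b0 i % (p : ℤ) = 0},
          rpart p n (sh (-((p * k : ℕ) : ℤ)) i (emb u)) ∈ L := by
        refine sum_mem fun i _ => Submodule.subset_span ⟨_, ⟨mem_box.mpr ⟨?_, ?_, ?_⟩, ?_⟩, rfl⟩
        · intro j
          have := emb_nonneg u hu0 j
          by_cases hj : j = (i : Fin N)
          · subst hj; rw [sh_self]; omega
          · rwa [sh_of_ne _ _ hj]
        · rw [sum_sh, emb_sum, hus, hv, hsum, Nat.cast_sub hkv]; push_cast; ring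
        · rw [rc_sh (by simp), emb_rc]
        · have : sZero p (sh (-((p * k : ℕ) : ℤ)) i (emb u)) = sZero p (emb u) := by
            refine sum_congr rfl fun j _ => ?_
            by_cases hj : j = (i : Fin N)
            · subst hj
              have h1 : sh (-((p * k : ℕ) : ℤ)) (i : Fin N) (emb u) i % (p : ℤ) = b0 i % p := by
                rw [sh_self, sub_neg_eq_add, Nat.cast_mul, Int.add_mul_emod_self_left, emb_mod]
              rw [if_neg (by rw [h1]; exact i.2), if_neg (by rw [emb_mod]; exact i.2)]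
            · rw [sh_of_ne _ _ hj]
          rw [this, emb_s, hus, hsq, hv, Nat.cast_sub hkv]
          have : (0 : ℤ) < k := by exact_mod_cast hk
          omega
      simp only [hterm]
      rw [e.sum_comp (fun i : {i // b0 i % (p : ℤ) = 0} =>
        rpart p n (sh (-((p * k : ℕ) : ℤ)) i (emb u)))]
      rw [eq_neg_of_add_eq_zero_left hsp]
      exact neg_mem hout
    have vanish : ∀ σ : Equiv.Perm (Fin v),
        ∑ q ∈ Box (N := m) 1 v (rc 1 q0), chi (otype σ) q • Ψ q = 0 := by
      intro σ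
      obtain ⟨k, hk⟩ : ∃ k, k ∈ otype σ := Multiset.exists_mem_of_ne_zero fun h => by
        have := otype_sum σ
        rw [h, Multiset.sum_zero, Fintype.card_fin] at this
        omega
      have hkv : k ≤ v := (Multiset.le_sum_of_mem hk).trans (by rw [otype_sum, Fintype.card_fin])
      rw [← Multiset.cons_erase hk, sum_box_cons (one_dvd k) hkv]
      exact sum_eq_zero fun u hu => by rw [raise k (otype_pos hk) hkv u hu, smul_zero]
    have hanti : ∀ τ : Equiv.Perm (Fin m), (Equiv.Perm.sign τ : ℤ) • Ψ (q0 ∘ τ) = Ψ q0 := by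
      intro τ
      set π : Equiv.Perm (Fin N) := Equiv.Perm.ofSubtype (e.permCongr τ) with hπ
      have hc : emb (q0 ∘ τ) = emb q0 ∘ π := by
        funext i
        by_cases hi : b0 i % (p : ℤ) = 0
        · have h1 : π i = (e (τ (e.symm ⟨i, hi⟩)) : Fin N) := by
            rw [hπ, Equiv.Perm.ofSubtype_apply_of_mem (p := fun i => b0 i % (p : ℤ) = 0) (a := i)
              _ hi, Equiv.permCongr_apply]
          rw [Function.comp_apply, h1, emb_in]
          simp only [hemb]
          rw [dif_pos hi, Function.comp_apply]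
        · rw [Function.comp_apply, hπ, Equiv.Perm.ofSubtype_apply_of_not_mem
            (p := fun i => b0 i % (p : ℤ) = 0) (a := i) _ hi, emb_out _ i hi, emb_out _ i hi]
      simp only [hΨ, hc, rpart_comp]
      rw [hπ, Equiv.Perm.sign_ofSubtype, Equiv.Perm.sign_permCongr, Submodule.Quotient.mk_smul,
        Int.cast_smul_eq_zsmul, smul_smul, Int.units_coe_mul_self, one_smul]
    have hmain : ((v.factorial : ℤ) * m.factorial) • Ψ q0 = 0 := by
      have h1 : ∑ q ∈ Box (N := m) 1 v (rc 1 q0),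
          ((v.factorial : ℤ) * eps v q0 q) • Ψ q = 0 := by
        simp only [← psum_chi_mul, psum, sum_smul, mul_smul]
        rw [sum_comm]
        exact sum_eq_zero fun σ _ => by rw [← smul_sum, vanish σ, smul_zero]
      rw [mul_smul]
      simp only [mul_smul, ← smul_sum] at h1
      convert h1 using 2
      simp only [eps, if_pos (And.intro hq0n hv), sum_smul, mul_smul]
      rw [sum_comm]
      calc (m.factorial : ℤ) • Ψ q0 = ∑ _τ : Equiv.Perm (Fin m), Ψ q0 := by
            rw [sum_const, card_univ, Fintype.card_perm, Fintype.card_fin, natCast_zsmul]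
        _ = _ := sum_congr rfl fun τ _ => ?_
      rw [← hanti τ, ← smul_sum]
      congr 1
      simp only [ite_smul, one_smul, zero_smul, sum_ite_eq']
      rw [if_pos]
      exact mem_box.mpr ⟨fun a => hq0n _, (Equiv.sum_comp τ q0).trans hv, rc_comp q0 τ⟩
    rw [← Int.cast_smul_eq_zsmul ℂ, smul_eq_zero] at hmain
    rcases hmain with h | h
    · exfalso
      simp [Nat.factorial_ne_zero] at h
    · rw [hΨ] at h
      simp only at h
      rwa [emb_q0, Submodule.Quotient.mk_eq_zero] at h

/-! ## The count -/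

/-- The set of bead positions. -/
noncomputable def beadSet (b : Fin N → ℤ) : Finset ℕ := univ.image fun i => (b i).toNat

theorem toNat_injective {b : Fin N → ℤ} (hb : Function.Injective b) (h0 : ∀ i, 0 ≤ b i) :
    Function.Injective fun i => (b i).toNat := fun i j h =>
  hb (by have := h0 i; have := h0 j; simp only at h; omega)

theorem mod_toNat {p r : ℕ} {z : ℤ} (hz : 0 ≤ z) : z.toNat % p = r ↔ z % (p : ℤ) = r := by
  obtain ⟨k, rfl⟩ := Int.eq_ofNat_of_zero_le hz
  rw [Int.toNat_natCast, ← Int.natCast_mod, Nat.cast_inj]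

theorem card_runner_beadSet {b : Fin N → ℤ} (hb : Function.Injective b) (h0 : ∀ i, 0 ≤ b i)
    (r : ℕ) : (runner p r (beadSet b)).card = rc p b r := by
  rw [runner, beadSet, filter_image, card_image_of_injective _ (toNat_injective hb h0), rc]
  congr 1
  exact filter_congr fun i _ => mod_toNat (h0 i)

theorem sum_runner_beadSet {b : Fin N → ℤ} (hb : Function.Injective b) (h0 : ∀ i, 0 ≤ b i)
    (r : ℕ) : ((∑ x ∈ runner p r (beadSet b), x : ℕ) : ℤ) =
      ∑ i ∈ univ.filter (fun i => b i % (p : ℤ) = r), b i := by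
  rw [runner, beadSet, filter_image, sum_image fun i _ j _ h => toNat_injective hb h0 h,
    Nat.cast_sum]
  refine sum_congr (filter_congr fun i _ => mod_toNat (h0 i)) fun i _ => ?_
  exact Int.toNat_of_nonneg (h0 i)

theorem wt_eq_of_box (hp : 0 < p) {R : ℕ → ℕ} {b c : Fin N → ℤ} (hb : b ∈ Box p n R)
    (hc : c ∈ Box p n R) (hbi : Function.Injective b) (hci : Function.Injective c) :
    wt p (beadSet b) = wt p (beadSet c) := by
  obtain ⟨hb0, hbs, hbR⟩ := mem_box.mp hb
  obtain ⟨hc0, hcs, hcR⟩ := mem_box.mp hc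
  have key : ∀ d : Fin N → ℤ, Function.Injective d → (∀ i, 0 ≤ d i) → rc p d = R →
      ((∑ r ∈ range p, (r * R r + p * (∑ i ∈ range (R r), i)) + p * wt p (beadSet d) : ℕ) : ℤ)
        = ∑ i, d i := by
    intro d hd hd0 hdR
    have h1 : (∑ r ∈ range p, (r * R r + p * (∑ i ∈ range (R r), i)) + p * wt p (beadSet d)) =
        ∑ r ∈ range p, ∑ x ∈ runner p r (beadSet d), x := by
      rw [wt, mul_sum, ← sum_add_distrib]
      refine sum_congr rfl fun r _ => ?_
      rw [runner_sum hp r (beadSet d), card_runner_beadSet hd hd0, hdR]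
      ring
    rw [h1]
    simp only [runner]
    rw [sum_fiberwise_of_maps_to (fun x _ => mem_range.mpr (Nat.mod_lt x hp)), beadSet,
      sum_image fun i _ j _ h => toNat_injective hd hd0 h, Nat.cast_sum]
    exact sum_congr rfl fun i _ => Int.toNat_of_nonneg (hd0 i)
  have h1 := key b hbi hb0 hbR
  have h2 := key c hci hc0 hcR
  rw [hbs, ← hcs, ← h2, Nat.cast_inj] at h1
  exact Nat.eq_of_mul_eq_mul_left hp (Nat.add_left_cancel h1)

theorem beadSet_mem_fam (hp : 0 < p) {R : ℕ → ℕ} {b0 b : Fin N → ℤ} (hb0 : b0 ∈ Box p n R)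
    (hb0i : Function.Injective b0) (hb : b ∈ Settled p n R) :
    beadSet b ∈ Fam p R (wt p (beadSet b0)) := by
  obtain ⟨hbox, hinj, hz⟩ := hb
  obtain ⟨h0, -, hR⟩ := mem_box.mp hbox
  refine ⟨fun r _ => by rw [card_runner_beadSet hinj h0, hR], ?_,
    wt_eq_of_box hp hbox hb0 hinj hb0i⟩
  have h1 := sum_runner_beadSet (p := p) hinj h0 0
  rw [runner_sum hp 0, card_runner_beadSet hinj h0, hR] at h1
  have h2 : ∑ i ∈ univ.filter (fun i => b i % (p : ℤ) = ((0 : ℕ) : ℤ)), b i =
      (p : ℤ) * sZero p b := by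
    rw [sum_filter, sZero, mul_sum]
    refine sum_congr rfl fun i _ => ?_
    simp only [Nat.cast_zero]
    split_ifs with hi
    · exact (Int.mul_ediv_cancel' (Int.dvd_of_emod_eq_zero hi)).symm
    · rw [mul_zero]
  rw [h2, hz, tot, Fin.sum_univ_eq_sum_range (fun i : ℕ => (i : ℤ))] at h1
  push_cast at h1
  have h3 : ((wr p 0 (beadSet b) : ℕ) : ℤ) * p = 0 := by linarith
  rcases mul_eq_zero.mp h3 with h | h
  · exact_mod_cast h
  · exfalso; simp at h; omega

theorem exists_perm_of_beadSet_eq {b c : Fin N → ℤ} (hci : Function.Injective c)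
    (hb0 : ∀ i, 0 ≤ b i) (hc0 : ∀ i, 0 ≤ c i) (h : beadSet c = beadSet b) :
    ∃ π : Equiv.Perm (Fin N), c = b ∘ π := by
  have hex : ∀ i, ∃ j, b j = c i := fun i => by
    have hm : (c i).toNat ∈ beadSet b := h ▸ mem_image_of_mem _ (mem_univ i)
    obtain ⟨j, -, hj⟩ := mem_image.mp hm
    exact ⟨j, by have := hb0 j; have := hc0 i; omega⟩
  choose f hf using hex
  have hfi : Function.Injective f := fun i j e => hci (by rw [← hf i, ← hf j, e])
  exact ⟨Equiv.ofBijective f (Finite.injective_iff_bijective.mp hfi),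
    funext fun i => (hf i).symm⟩

/-- The rank is at most the number of possible settled bead sets. -/
theorem blockRank_le_fam [Fact p.Prime] (hn : n ≤ N) {M : Ideal Cfsg.AlgInt}
    (hM : Cfsg.IsPModular p M) {B : Set (Cfsg.IrrCharacter (Equiv.Perm (Fin n)))}
    (hB : Cfsg.IsPBlock M B) {χ : Cfsg.IrrCharacter (Equiv.Perm (Fin n))} (hχ : χ ∈ B)
    {b : Fin N → ℤ} (hb : HasBead n χ b) {F : Finset (Finset ℕ)}
    (hF : Fam p (rc p b) (wt p (beadSet b)) ⊆ ↑F) : Cfsg.blockRank p B ≤ F.card := by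
  classical
  have hp0 : 0 < p := (Fact.out : p.Prime).pos
  set R := rc p b with hRdef
  have hbBox : b ∈ Box p n R := mem_box.mpr ⟨hb.1.2.1, hb.1.2.2, rfl⟩
  set g : Finset ℕ → (Equiv.Perm (Fin n) → ℂ) := fun X =>
    if h : ∃ c ∈ Settled (N := N) p n R, beadSet c = X then rpart p n h.choose else 0 with hg
  have hspan : Submodule.span ℂ ((fun θ : Cfsg.IrrCharacter (Equiv.Perm (Fin n)) =>
      Cfsg.pRegularPart p (θ : Equiv.Perm (Fin n) → ℂ)) '' B) ≤
      Submodule.span ℂ (↑(F.image g) : Set (Equiv.Perm (Fin n) → ℂ)) := by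
    rw [Submodule.span_le]
    rintro _ ⟨θ, hθ, rfl⟩
    obtain ⟨c, hc⟩ := exists_hasBead hn θ
    have hcR : rc p c = R := rc_eq_of_block hn hM hB hχ hθ hb hc
    obtain ⟨hcb, e, -, hθc⟩ := hc
    have hsmul : Cfsg.pRegularPart p (θ : Equiv.Perm (Fin n) → ℂ) = e • rpart p n c := by
      funext σ
      simp only [Cfsg.pRegularPart, rpart, Pi.smul_apply, hθc]
      split_ifs <;> simp
    simp only [SetLike.mem_coe]
    rw [hsmul]
    refine Submodule.smul_mem _ _ ?_
    have hcBox : c ∈ Box p n R := mem_box.mpr ⟨hcb.2.1, hcb.2.2, hcR⟩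
    refine (Submodule.span_le.mpr ?_) (rpart_mem_span hn R _ c hcBox rfl)
    rintro _ ⟨d, hd, rfl⟩
    have hex : ∃ c ∈ Settled (N := N) p n R, beadSet c = beadSet d := ⟨d, hd, rfl⟩
    obtain ⟨hd', hd''⟩ := hex.choose_spec
    obtain ⟨π, hπ⟩ := exists_perm_of_beadSet_eq hd.2.1 (mem_box.mp hd'.1).1
      (mem_box.mp hd.1).1 hd''.symm
    rw [hπ, rpart_comp]
    refine Submodule.smul_mem _ _ (Submodule.subset_span ?_)
    rw [mem_coe, mem_image]
    exact ⟨beadSet d, hF (beadSet_mem_fam hp0 hbBox hb.1.1 hd), by rw [hg]; simp only; rw [dif_pos hex]⟩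
  refine ((Submodule.finrank_mono hspan).trans (finrank_span_finset_le_card _)).trans ?_
  exact card_image_le

/-- **The rank bound in terms of the weight.** -/
theorem blockRank_le_weight [Fact p.Prime] (hn : n ≤ N) {M : Ideal Cfsg.AlgInt}
    (hM : Cfsg.IsPModular p M) {B : Set (Cfsg.IrrCharacter (Equiv.Perm (Fin n)))}
    (hB : Cfsg.IsPBlock M B) {χ : Cfsg.IrrCharacter (Equiv.Perm (Fin n))} (hχ : χ ∈ B)
    {b : Fin N → ℤ} (hb : HasBead n χ b) :
    Cfsg.blockRank p B ≤
      if wt p (beadSet b) = 0 then 1 else (p - 1) * p ^ (wt p (beadSet b) - 1) := by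
  obtain ⟨F, hF, hcard⟩ :=
    fam_finite_card (Fact.out : p.Prime).pos (rc p b) (wt p (beadSet b))
  exact (blockRank_le_fam hn hM hB hχ hb hF).trans hcard

end Cfsg.Agent.Lib.SymChar81
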