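import Cfsg.Agent.Lib.SymChar81.Mirror

/-!
# Counting symmetric bead sets

The bead sets of self-associate characters of weight `w` with given runner lengths: fewer than
`p ^ (w - 1)` for odd `p` and `2 ≤ w`, at most `2 ^ (w / 2 - 1)` and none for odd `w` if `p = 2`.
-/

set_option linter.unusedSectionVars false

namespace Cfsg.Agent.Lib.SymChar81

open Finset

/-- Move the bead at `x` one step down. -/
def moveDown (p x : ℕ) (S : Finset ℕ) : Finset ℕ := insert (x - p) (S.erase x)

/-- Move the bead at `z` one step up. -/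
def moveUp (p z : ℕ) (C : Finset ℕ) : Finset ℕ := insert (z + p) (C.erase z)

theorem mem_moveDown {p x u : ℕ} {S : Finset ℕ} :
    u ∈ moveDown p x S ↔ u = x - p ∨ (u ≠ x ∧ u ∈ S) := by
  simp [moveDown]

theorem moveUp_moveDown {p x : ℕ} {S : Finset ℕ} (hpx : p ≤ x) (hx : x ∈ S) (hn : x - p ∉ S) :
    moveUp p (x - p) (moveDown p x S) = S := by
  rw [moveUp, moveDown, Nat.sub_add_cancel hpx, erase_insert (fun h => hn (mem_erase.mp h).2),
    insert_erase hx]

theorem sub_mod_of_le {p x : ℕ} (hpx : p ≤ x) : (x - p) % p = x % p := by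
  conv_rhs => rw [← Nat.sub_add_cancel hpx, Nat.add_mod_right]

theorem move_spec {p x : ℕ} {S : Finset ℕ} (hp : 0 < p) (hpx : p ≤ x) (hx : x ∈ S)
    (hn : x - p ∉ S) :
    (∀ c, (runner p c (moveDown p x S)).card = (runner p c S).card) ∧
      (∀ c, c ≠ x % p → wr p c (moveDown p x S) = wr p c S) ∧
      wt p S = wt p (moveDown p x S) + 1 := by
  have hmod := sub_mod_of_le hpx
  have hother : ∀ c, c ≠ x % p → runner p c (moveDown p x S) = runner p c S := by
    intro c hc
    ext y
    simp only [runner, mem_filter, mem_moveDown]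
    constructor
    · rintro ⟨rfl | ⟨-, hy⟩, hyc⟩
      · exact absurd (hyc.symm.trans hmod) hc
      · exact ⟨hy, hyc⟩
    · rintro ⟨hy, hyc⟩
      exact ⟨Or.inr ⟨fun e => hc (hyc.symm.trans (by rw [e])), hy⟩, hyc⟩
  have hrun : runner p (x % p) (moveDown p x S) =
      insert (x - p) ((runner p (x % p) S).erase x) := by
    ext y
    simp only [runner, mem_filter, mem_insert, mem_erase, mem_moveDown]
    constructor
    · rintro ⟨rfl | ⟨hne, hy⟩, hyc⟩
      · exact Or.inl rfl
      · exact Or.inr ⟨hne, hy, hyc⟩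
    · rintro (rfl | ⟨hne, hy, hyc⟩)
      · exact ⟨Or.inl rfl, hmod⟩
      · exact ⟨Or.inr ⟨hne, hy⟩, hyc⟩
  have hxrun : x ∈ runner p (x % p) S := mem_filter.mpr ⟨hx, rfl⟩
  have hnrun : x - p ∉ (runner p (x % p) S).erase x := fun hc =>
    hn (mem_filter.mp (mem_erase.mp hc).2).1
  have hcard : (runner p (x % p) (moveDown p x S)).card = (runner p (x % p) S).card := by
    rw [hrun, card_insert_of_notMem hnrun, card_erase_add_one hxrun]
  have hdrop : wr p (x % p) S = wr p (x % p) (moveDown p x S) + 1 := by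
    have h1 := runner_sum hp (x % p) S
    have h2 := runner_sum hp (x % p) (moveDown p x S)
    rw [hcard, hrun, sum_insert hnrun] at h2
    have h3 : (∑ y ∈ (runner p (x % p) S).erase x, y) + x = ∑ y ∈ runner p (x % p) S, y :=
      sum_erase_add _ (fun y => y) hxrun
    set T : ℕ := ∑ i ∈ range (runner p (x % p) S).card, i
    have h4 : p * (T + wr p (x % p) S) = p * (T + (wr p (x % p) (moveDown p x S) + 1)) := by
      rw [show T + (wr p (x % p) (moveDown p x S) + 1) =
        (T + wr p (x % p) (moveDown p x S)) + 1 by ring, Nat.mul_succ]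
      omega
    exact Nat.add_left_cancel (Nat.eq_of_mul_eq_mul_left hp h4)
  refine ⟨fun c => ?_, fun c hc => wr_congr hp (hother c hc), ?_⟩
  · by_cases hc : c = x % p
    · rw [hc]; exact hcard
    · rw [hother c hc]
  · have hr : x % p ∈ range p := mem_range.mpr (Nat.mod_lt _ hp)
    have e1 : wr p (x % p) S + ∑ c ∈ (range p).erase (x % p), wr p c S = wt p S :=
      add_sum_erase _ (fun c => wr p c S) hr
    have e2 : wr p (x % p) (moveDown p x S) +
        ∑ c ∈ (range p).erase (x % p), wr p c (moveDown p x S) = wt p (moveDown p x S) :=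
      add_sum_erase _ (fun c => wr p c (moveDown p x S)) hr
    have e3 : ∑ c ∈ (range p).erase (x % p), wr p c (moveDown p x S) =
        ∑ c ∈ (range p).erase (x % p), wr p c S :=
      sum_congr rfl fun c hc => wr_congr hp (hother c (mem_erase.mp hc).1)
    omega

theorem gaps_eq_zero {p : ℕ} {B : Finset ℕ} {x : ℕ} :
    (gaps p B x).card = 0 ↔ ∀ y < x, y % p = x % p → y ∈ B := by
  rw [card_eq_zero, eq_empty_iff_forall_notMem]
  simp only [gaps, mem_filter, mem_range, not_and, not_not]

/-- Symmetric bead sets of weight `w` with runner lengths `R`. -/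
def SymFam (p N : ℕ) (R : ℕ → ℕ) (w : ℕ) : Set (Finset ℕ) :=
  {S | (∀ r < p, (runner p r S).card = R r) ∧ wt p S = w ∧ SymSet N S}

/-- The runner mirror to `r`. -/
def rm (p N r : ℕ) : ℕ := (2 * N - 1 + p - r) % p

/-- The possible places of the bead to be moved up first. -/
noncomputable def dcands (p N w : ℕ) (C : Finset ℕ) : Finset ℕ :=
  ((range p).filter fun c => if w = 0 then rm p N c < c else rm p N c ≤ c).image
      (fun c => first p c C - p) ∪
    if w = 0 then ∅ else {second p (lastRunner p C) C}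

theorem rm_rm {p N c : ℕ} (hc : c < p) : rm p N (rm p N c) = c := by
  set K := 2 * N - 1 + p with hK
  have h1 := Nat.mod_add_div (K - c) p
  have hle : c ≤ K := by omega
  have h2 : rm p N (rm p N c) = (K - (K - c) % p) % p := rfl
  have h3 : K - (K - c) % p = c + p * ((K - c) / p) := by omega
  rw [h2, h3, Nat.add_mul_mod_self_left, Nat.mod_eq_of_lt hc]

theorem card_dcands {p N : ℕ} (hp : 2 ≤ p) (hN : 0 < N) (w : ℕ) (C : Finset ℕ) :
    (dcands p N w C).card ≤ if w = 0 then p / 2 else p := by
  refine (card_union_le _ _).trans ?_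
  by_cases hw : w = 0
  · subst hw
    simp only [if_true, card_empty, add_zero]
    refine card_image_le.trans ?_
    set H := (range p).filter fun c => rm p N c < c
    have hdis : Disjoint H (H.image (rm p N)) := by
      rw [disjoint_left]
      intro u hu hu'
      obtain ⟨v, hv, rfl⟩ := mem_image.mp hu'
      simp only [H, mem_filter, mem_range] at hu hv
      rw [rm_rm hv.1] at hu
      omega
    have hinj : (H.image (rm p N)).card = H.card := by
      refine card_image_of_injOn fun a ha b hb h => ?_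
      simp only [H, mem_coe, mem_filter, mem_range] at ha hb
      rw [← rm_rm (N := N) ha.1, h, rm_rm hb.1]
    have hsub : H ∪ H.image (rm p N) ⊆ range p := by
      intro u hu
      rcases mem_union.mp hu with h | h
      · exact (mem_filter.mp h).1
      · obtain ⟨v, -, rfl⟩ := mem_image.mp h
        exact mem_range.mpr (Nat.mod_lt _ (by omega))
    have := card_le_card hsub
    rw [card_union_of_disjoint hdis, hinj, card_range] at this
    omega
  · simp only [if_neg hw, card_singleton]
    obtain ⟨c, hc, hlt⟩ : ∃ c < p, c < rm p N c := by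
      by_cases h0 : rm p N 0 = 0
      · refine ⟨1, by omega, ?_⟩
        simp only [rm, Nat.sub_zero] at h0 ⊢
        obtain ⟨m, hm⟩ := Nat.dvd_of_mod_eq_zero h0
        have hp3 : 2 < p := by
          by_contra h
          obtain rfl : p = 2 := by omega
          omega
        obtain ⟨m', rfl⟩ : ∃ m', m = m' + 1 := ⟨m - 1, by
          rcases Nat.eq_zero_or_pos m with rfl | h <;> omega⟩
        rw [hm, show p * (m' + 1) - 1 = (p - 1) + p * m' by rw [Nat.mul_succ]; omega,
          Nat.add_mul_mod_self_left, Nat.mod_eq_of_lt (by omega)]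
        omega
      · exact ⟨0, by omega, Nat.pos_of_ne_zero h0⟩
    have : (((range p).filter fun c => rm p N c ≤ c).image fun c => first p c C - p).card ≤
        p - 1 := by
      refine card_image_le.trans ?_
      have := card_lt_card (s := (range p).filter fun c => rm p N c ≤ c) (t := range p)
        ⟨filter_subset _ _, fun h => by
          have := (mem_filter.mp (h (mem_range.mpr hc))).2
          omega⟩
      rw [card_range] at this
      omega
    omega

/-- Undoing one step on a symmetric set. -/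
theorem sym_child {p N : ℕ} {R : ℕ → ℕ} (hp : 0 < p) {w : ℕ} {S : Finset ℕ}
    (hS : S ∈ SymFam p N R (w + 1)) :
    (∃ z, 2 * (z + p) + 1 = 2 * N + p ∧ ∃ C ∈ SymFam p N R w, S = moveUp p z C) ∨
    (0 < w ∧ ∃ C ∈ SymFam p N R (w - 1), ∃ z ∈ dcands p N (w - 1) C,
      S = moveUp p z (moveUp p (2 * N - 1 - (z + p)) C)) := by
  obtain ⟨hR, hw, hlt2, hsym⟩ := hS
  have hpos : 0 < wt p S := by omega
  obtain ⟨hrp, hrw, hrlast⟩ := lastRunner_spec hpos
  obtain ⟨hpx, hmodx, hnot, hx, -, -, -, hcase⟩ := parent_spec hpos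
  set r := lastRunner p S with hr
  set x := second p r S with hxdef
  obtain ⟨-, hxr, hgx, hmin⟩ := second_spec hrp hrw
  change x % p = r at hxr
  obtain ⟨hg1, -, hg3⟩ := first_spec hrp S
  have hx2 : x < 2 * N := hlt2 x hx
  obtain ⟨m1c, m1o, m1w⟩ := move_spec hp hpx hx hnot
  set y := 2 * N - 1 - x + p with hy
  have hy2 : y < 2 * N := by omega
  have hyS : y ∈ S := by
    rw [hsym y hy2]
    rwa [show 2 * N - 1 - y = x - p by omega]
  have hypS : y - p ∉ S := by
    rw [show y - p = 2 * N - 1 - x by omega]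
    exact (hsym x hx2).mp hx
  set S1 := moveDown p x S with hS1
  by_cases hyx : y = x
  · refine Or.inl ⟨x - p, by omega, S1, ⟨fun c hc => by rw [m1c, hR c hc], by omega, ?_, ?_⟩,
      (moveUp_moveDown hpx hx hnot).symm⟩
    · intro u hu
      rcases mem_moveDown.mp hu with rfl | ⟨-, hu⟩
      · omega
      · exact hlt2 u hu
    · intro u hu
      simp only [hS1, mem_moveDown]
      have hs := hsym u hu
      by_cases h1 : u = x - p
      · subst h1
        have : 2 * N - 1 - (x - p) = x := by omega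
        rw [this]
        simp only [true_or, true_iff]
        rintro (h | h)
        · omega
        · exact h.1 rfl
      · by_cases h2 : u = x
        · subst h2
          have : 2 * N - 1 - x = x - p := by omega
          rw [this]
          simp only [true_or, not_true_eq_false, iff_false]
          rintro (h | h)
          · omega
          · exact h.1 rfl
        · have e1 : 2 * N - 1 - u ≠ x - p := by omega
          have e2 : 2 * N - 1 - u ≠ x := by omega
          simp only [h1, h2, e1, e2, false_or, ne_eq, not_false_eq_true, true_and]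
          exact hs
  right
  have hpy : p ≤ y := by omega
  have hyS1 : y ∈ S1 := mem_moveDown.mpr (Or.inr ⟨hyx, hyS⟩)
  have hypS1 : y - p ∉ S1 := fun h => by
    rcases mem_moveDown.mp h with h | h
    · omega
    · exact hypS h.2
  obtain ⟨m2c, m2o, m2w⟩ := move_spec hp hpy hyS1 hypS1
  set C := moveDown p y S1 with hC
  have hw1 : 0 < w := by omega
  have hCfam : C ∈ SymFam p N R (w - 1) := by
    refine ⟨fun c hc => by rw [m2c, m1c, hR c hc], by omega, fun u hu => ?_, fun u hu => ?_⟩
    · rcases mem_moveDown.mp hu with rfl | ⟨-, hu⟩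
      · omega
      · rcases mem_moveDown.mp hu with rfl | ⟨-, hu⟩
        · omega
        · exact hlt2 u hu
    · simp only [hC, hS1, mem_moveDown]
      have hs := hsym u hu
      have d0 : y ≠ x - p := fun e => hnot (e ▸ hyS)
      have d1 : y - p ≠ x := fun e => hypS (e.symm ▸ hx)
      by_cases c1 : u = x - p
      · subst c1
        have : 2 * N - 1 - (x - p) = y := by omega
        simp only [this]
        have : x - p ≠ y := fun e => d0 e.symm
        simp [this, hyS, hyx]
        omega
      by_cases c2 : u = y - p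
      · subst c2
        have : 2 * N - 1 - (y - p) = x := by omega
        simp only [this]
        simp [Ne.symm hyx, hx]
        omega
      by_cases c3 : u = x
      · subst c3
        have : 2 * N - 1 - x = y - p := by omega
        simp only [this]
        simp [c1, c2, Ne.symm hyx]
      by_cases c4 : u = y
      · subst c4
        have : 2 * N - 1 - y = x - p := by omega
        simp only [this]
        have : x - p ≠ y := fun e => d0 e.symm
        simp [c1, c2, this]
      have e1 : 2 * N - 1 - u ≠ x - p := by omega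
      have e2 : 2 * N - 1 - u ≠ y - p := by omega
      have e3 : 2 * N - 1 - u ≠ x := by omega
      have e4 : 2 * N - 1 - u ≠ y := by omega
      simp only [c1, c2, c3, c4, e1, e2, e3, e4, false_or, ne_eq, not_false_eq_true, true_and]
      exact hs
  have hyr : y % p = rm p N r := by
    have h2 := Nat.mod_add_div x p
    have h3 : 2 * N - 1 + p - r = y + p * (x / p) := by omega
    rw [rm, h3, Nat.add_mul_mod_self_left]
  have hr'le : rm p N r ≤ r := by
    by_contra hlt
    have h0 := hrlast (rm p N r) (hyr ▸ Nat.mod_lt _ hp) (by omega)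
    rw [wr, sum_eq_zero_iff] at h0
    have h1 := h0 y (mem_filter.mpr ⟨hyS, hyr⟩)
    exact hypS (gaps_eq_zero.mp h1 (y - p) (by omega) (sub_mod_of_le hpy))
  have hgap : y % p = r → x < y - p := by
    intro hyr'
    have h1 : first p r S ≤ y - p := by
      by_contra hlt
      exact hypS (hg3 _ ((sub_mod_of_le hpy).trans hyr') (by omega))
    have h2 : x ≤ y := hmin y hyS hyr' (by omega)
    have hne : y ≠ x + p := by omega
    have h3 := Nat.mod_add_div x p
    have h4 := Nat.mod_add_div y p
    rcases Nat.lt_or_ge (y / p) (x / p + 2) with h | h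
    · exfalso
      have h5 : x / p ≤ y / p := Nat.div_le_div_right h2
      rcases (show y / p = x / p ∨ y / p = x / p + 1 by omega) with e | e
      · rw [e] at h4; omega
      · rw [e, Nat.mul_succ] at h4; omega
    · have := Nat.mul_le_mul_left p h
      rw [Nat.mul_add] at this
      omega
  have hagree : ∀ u, u % p = r → u ≤ x → (u ∈ C ↔ u ∈ S1) := by
    intro u hu hux
    rw [hC, mem_moveDown]
    have a1 : u ≠ y - p := fun e => by
      have h := sub_mod_of_le hpy
      rw [← e, hu] at h
      have := hgap h.symm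
      omega
    have a2 : u ≠ y := fun e => by
      have := hgap (e ▸ hu)
      omega
    simp [a1, a2]
  have hparent : parent p S = S1 := rfl
  refine ⟨hw1, C, hCfam, x - p, ?_, ?_⟩
  swap
  · rw [Nat.sub_add_cancel hpx, show 2 * N - 1 - x = y - p by omega, hC,
      moveUp_moveDown hpy hyS1 hypS1, hS1, moveUp_moveDown hpx hx hnot]
  rw [hparent] at hcase
  rw [dcands, mem_union, mem_image]
  rcases hcase with ⟨-, hf⟩ | ⟨hpos1, hs⟩
  · left
    obtain ⟨f1, f2, f3⟩ := first_spec hrp S1
    rw [hf] at f1 f2 f3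
    have hfC : first p r C = x := first_eq hrp f1 (fun h => f2 ((hagree x f1 le_rfl).mp h))
      fun u hu hlt => (hagree u hu hlt.le).mpr (f3 u hu hlt)
    refine ⟨r, mem_filter.mpr ⟨mem_range.mpr hrp, ?_⟩, by rw [hfC]⟩
    split_ifs with h0
    · refine lt_of_le_of_ne hr'le fun he => ?_
      have hyr' : y % p = r := hyr.trans he
      have hposC : 0 < wr p r C := (wr_pos_iff hrp).mpr
        ⟨y - p, by simp [hC, mem_moveDown], (sub_mod_of_le hpy).trans hyr', by
          rw [hfC]; exact hgap hyr'⟩
      have h2 : wr p r C ≤ wt p C :=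
        single_le_sum (f := fun c => wr p c C) (fun _ _ => Nat.zero_le _) (mem_range.mpr hrp)
      have := hCfam.2.1
      omega
    · exact hr'le
  · right
    change 0 < wr p r S1 at hpos1
    change second p r S1 = x - p at hs
    obtain ⟨-, -, s3, s4⟩ := second_spec hrp hpos1
    rw [hs] at s3 s4
    obtain ⟨f1, f2, f3⟩ := first_spec hrp S1
    have hfC : first p r C = first p r S1 :=
      first_eq hrp f1 (fun h => f2 ((hagree _ f1 (by omega)).mp h))
        fun u hu hlt => (hagree u hu (by omega)).mpr (f3 u hu hlt)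
    have hin : x - p ∈ C := (hagree _ hmodx (by omega)).mpr (by simp [hS1, mem_moveDown])
    have hposC : 0 < wr p r C := (wr_pos_iff hrp).mpr ⟨x - p, hin, hmodx, by rw [hfC]; exact s3⟩
    obtain ⟨t1, t2, t3, t4⟩ := second_spec hrp hposC
    have hsec : second p r C = x - p := by
      refine le_antisymm (t4 _ hin hmodx (by rw [hfC]; exact s3)) ?_
      by_contra hlt
      have := s4 _ ((hagree _ t2 (by omega)).mp t1) t2 (by rw [← hfC]; exact t3)
      omega
    have h2 : wr p r C ≤ wt p C :=
      single_le_sum (f := fun c => wr p c C) (fun _ _ => Nat.zero_le _) (mem_range.mpr hrp)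
    have hwC : w - 1 ≠ 0 := by have := hCfam.2.1; omega
    have hlastC : lastRunner p C = r := by
      obtain ⟨a1, a2, a3⟩ := lastRunner_spec (p := p) (B := C) (by omega)
      rcases lt_trichotomy (lastRunner p C) r with hl | hl | hl
      · have := a3 r hrp hl; omega
      · exact hl
      · rw [m2o _ (by rw [hyr]; omega), m1o _ (by rw [hxr]; omega), hrlast _ a1 hl] at a2
        omega
    rw [if_neg hwC, mem_singleton, hlastC, hsec]

theorem symFam_zero {p N : ℕ} {R : ℕ → ℕ} (hp : 0 < p) :
    ∃ F : Finset (Finset ℕ), SymFam p N R 0 ⊆ ↑F ∧ F.card ≤ 1 := by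
  obtain ⟨F, hF, hcard⟩ := fam_finite_card hp R 0
  refine ⟨F, fun S hS => hF ⟨hS.1, ?_, hS.2.1⟩, by simpa using hcard⟩
  exact sum_eq_zero_iff.mp hS.2.1 0 (mem_range.mpr hp)

theorem symFam_one {p N : ℕ} {R : ℕ → ℕ} (hp : 0 < p) :
    ∃ F : Finset (Finset ℕ), SymFam p N R 1 ⊆ ↑F ∧ F.card ≤ if p % 2 = 1 then 1 else 0 := by
  obtain ⟨F, hF, hcard⟩ := symFam_zero (N := N) (R := R) hp
  by_cases hodd : p % 2 = 1
  · refine ⟨F.image (moveUp p ((2 * N + p - 1) / 2 - p)), fun S hS => ?_, ?_⟩
    · rcases sym_child hp hS with ⟨z, hz, C, hC, rfl⟩ | ⟨h, -⟩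
      · exact mem_image.mpr ⟨C, hF hC, by rw [show (2 * N + p - 1) / 2 - p = z by omega]⟩
      · omega
    · rw [if_pos hodd]; exact card_image_le.trans hcard
  · refine ⟨∅, fun S hS => ?_, by simp⟩
    rcases sym_child hp hS with ⟨z, hz, -⟩ | ⟨h, -⟩ <;> omega

theorem symFam_step {p N : ℕ} {R : ℕ → ℕ} (hp : 2 ≤ p) (hN : 0 < N) {w : ℕ}
    {F1 F0 : Finset (Finset ℕ)} (h1 : SymFam p N R (w + 1) ⊆ ↑F1) (h0 : SymFam p N R w ⊆ ↑F0) :
    ∃ F : Finset (Finset ℕ), SymFam p N R (w + 2) ⊆ ↑F ∧
      F.card ≤ (if p % 2 = 1 then F1.card else 0) + F0.card * (if w = 0 then p / 2 else p) := by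
  refine ⟨(if p % 2 = 1 then F1.image (moveUp p ((2 * N + p - 1) / 2 - p)) else ∅) ∪
    F0.biUnion (fun C => (dcands p N w C).image
      fun z => moveUp p z (moveUp p (2 * N - 1 - (z + p)) C)), fun S hS => ?_, ?_⟩
  · rw [mem_coe, mem_union]
    rcases sym_child (by omega) hS with ⟨z, hz, C, hC, rfl⟩ | ⟨-, C, hC, z, hz, rfl⟩
    · left
      rw [if_pos (by omega)]
      exact mem_image.mpr ⟨C, h1 hC, by rw [show (2 * N + p - 1) / 2 - p = z by omega]⟩
    · right
      rw [show w + 1 - 1 = w from rfl] at hC hz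
      exact mem_biUnion.mpr ⟨C, h0 hC, mem_image.mpr ⟨z, hz, rfl⟩⟩
  · refine (card_union_le _ _).trans (Nat.add_le_add ?_ ?_)
    · split_ifs
      · exact card_image_le
      · simp
    · exact card_biUnion_le_card_mul _ _ _ fun C _ =>
        card_image_le.trans (card_dcands hp hN w C)

/-- **The count for odd `p`.** -/
theorem symFam_odd {p N : ℕ} {R : ℕ → ℕ} (hp : 3 ≤ p) (hodd : p % 2 = 1) (hN : 0 < N) :
    ∀ v : ℕ, ∃ F1 F2 : Finset (Finset ℕ),
      (SymFam p N R (v + 1) ⊆ ↑F1 ∧ F1.card ≤ p ^ v) ∧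
      (SymFam p N R (v + 2) ⊆ ↑F2 ∧ F2.card < p ^ (v + 1)) := by
  intro v
  induction v with
  | zero =>
    obtain ⟨F0, h0, c0⟩ := symFam_zero (N := N) (R := R) (show 0 < p by omega)
    obtain ⟨F1, h1, c1⟩ := symFam_one (N := N) (R := R) (show 0 < p by omega)
    obtain ⟨F2, h2, c2⟩ := symFam_step (by omega) hN h1 h0
    rw [if_pos hodd] at c1 c2
    simp only [if_true] at c2
    refine ⟨F1, F2, ⟨h1, by simpa using c1⟩, h2, ?_⟩
    have : F0.card * (p / 2) ≤ 1 * (p / 2) := Nat.mul_le_mul_right _ c0
    rw [zero_add, pow_one]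
    omega
  | succ v ih =>
    obtain ⟨F1, F2, ⟨h1, c1⟩, h2, c2⟩ := ih
    obtain ⟨F3, h3, c3⟩ := symFam_step (by omega) hN h2 h1
    rw [if_pos hodd, if_neg (Nat.succ_ne_zero v)] at c3
    refine ⟨F2, F3, ⟨h2, c2.le⟩, h3, ?_⟩
    have e1 : F1.card * p ≤ p ^ (v + 1) := by
      rw [pow_succ]; exact Nat.mul_le_mul_right _ c1
    have e2 : p ^ (v + 1) * 2 ≤ p ^ (v + 1 + 1) := by
      rw [pow_succ p (v + 1)]; exact Nat.mul_le_mul_left _ (by omega)
    omega

/-- **The count for `p = 2`.** -/
theorem symFam_two {N : ℕ} {R : ℕ → ℕ} (hN : 0 < N) : ∀ v : ℕ, ∃ F1 F2 : Finset (Finset ℕ),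
    (SymFam 2 N R (2 * v + 1) ⊆ ↑F1 ∧ F1.card = 0) ∧
    (SymFam 2 N R (2 * v + 2) ⊆ ↑F2 ∧ F2.card ≤ 2 ^ v) := by
  intro v
  induction v with
  | zero =>
    obtain ⟨F0, h0, c0⟩ := symFam_zero (N := N) (R := R) (show 0 < 2 by omega)
    obtain ⟨F1, h1, c1⟩ := symFam_one (N := N) (R := R) (show 0 < 2 by omega)
    obtain ⟨F2, h2, c2⟩ := symFam_step le_rfl hN h1 h0
    refine ⟨F1, F2, ⟨h1, by simpa using c1⟩, h2, ?_⟩
    simp only [if_true, show (2 : ℕ) % 2 = 1 ↔ False by decide, if_false] at c2
    omega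
  | succ v ih =>
    obtain ⟨F1, F2, ⟨h1, c1⟩, h2, c2⟩ := ih
    obtain ⟨F3, h3, c3⟩ := symFam_step (p := 2) le_rfl hN h2 h1
    obtain ⟨F4, h4, c4⟩ := symFam_step (p := 2) le_rfl hN h3 h2
    simp only [show (2 : ℕ) % 2 = 1 ↔ False by decide, if_false, zero_add,
      Nat.succ_ne_zero] at c3 c4
    refine ⟨F3, F4, ⟨h3, ?_⟩, h4, ?_⟩
    · rw [c1, zero_mul] at c3
      omega
    · rw [pow_succ]
      exact c4.trans (Nat.mul_le_mul_right _ c2)

end Cfsg.Agent.Lib.SymChar81
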