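import Mathlib.GroupTheory.Perm.Option
import Mathlib.GroupTheory.Perm.Cycle.Type
import Mathlib.GroupTheory.Perm.Finite
import Mathlib.Data.Nat.Factorial.BigOperators
import Mathlib.Algebra.BigOperators.Ring.Finset
import Mathlib.Algebra.BigOperators.Intervals
import Mathlib.Data.Fintype.BigOperators
import Mathlib.Tactic.Ring

/-!
# Orbit types of permutations and the cycle recursion

`otype σ` is the multiset of orbit sizes of `σ`.  The sum `psum n F` of `F (otype σ)` over
`Perm (Fin n)` satisfies the recursion which removes the cycle of a point.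
-/

namespace Cfsg.Agent.Lib.SymChar81

open Equiv Finset

set_option linter.unusedSectionVars false

variable {α β : Type*} [Fintype α] [DecidableEq α] [Fintype β] [DecidableEq β]

open scoped Classical in
/-- The orbit of `y` under `σ`. -/
noncomputable def orb (σ : Perm α) (y : α) : Finset α := univ.filter (σ.SameCycle y)

/-- The multiset of orbit sizes. -/
noncomputable def otype (σ : Perm α) : Multiset ℕ := ((univ.image (orb σ))).val.map Finset.card

theorem mem_orb {σ : Perm α} {y z : α} : z ∈ orb σ y ↔ σ.SameCycle y z := by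
  classical simp [orb]

theorem self_mem_orb (σ : Perm α) (y : α) : y ∈ orb σ y := mem_orb.mpr (Perm.SameCycle.refl σ y)

theorem orb_eq_iff {σ : Perm α} {y z : α} : orb σ y = orb σ z ↔ σ.SameCycle y z := by
  refine ⟨fun h => mem_orb.mp (h ▸ self_mem_orb σ z), fun h => ?_⟩
  ext w; simp only [mem_orb]
  exact ⟨fun h' => h.symm.trans h', fun h' => h.trans h'⟩

theorem otype_pos {σ : Perm α} {k : ℕ} (hk : k ∈ otype σ) : 0 < k := by
  obtain ⟨O, hO, rfl⟩ := Multiset.mem_map.mp hk
  obtain ⟨y, -, rfl⟩ := mem_image.mp hO
  exact card_pos.mpr ⟨y, self_mem_orb σ y⟩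

theorem fiber_orb (σ : Perm α) {y : α} :
    univ.filter (fun z => orb σ z = orb σ y) = orb σ y := by
  ext z
  simp only [mem_filter, mem_univ, true_and, mem_orb]
  rw [orb_eq_iff]
  exact ⟨fun h => h.symm, fun h => h.symm⟩

theorem sum_orb {A : Type*} [AddCommMonoid A] (σ : Perm α) (g : Finset α → A) :
    ∑ y, g (orb σ y) = ∑ O ∈ univ.image (orb σ), O.card • g O := by
  rw [Finset.sum_comp]
  refine sum_congr rfl fun O hO => ?_
  obtain ⟨y, -, rfl⟩ := mem_image.mp hO
  rw [fiber_orb]

theorem otype_sum (σ : Perm α) : (otype σ).sum = Fintype.card α := by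
  have h := sum_orb σ (fun _ => (1 : ℕ))
  rw [sum_const, smul_eq_mul, mul_one, card_univ] at h
  rw [h]; simp [otype, Finset.sum]

theorem orb_permCongr (e : α ≃ β) (σ : Perm α) (y : α) :
    orb (e.permCongr σ) (e y) = (orb σ y).map e.toEmbedding := by
  ext z
  simp only [mem_orb, mem_map_equiv]
  have key : ∀ (i : ℤ), (e.permCongr σ ^ i) (e y) = e ((σ ^ i) y) := by
    intro i
    have := map_zpow e.permCongrHom σ i
    rw [show e.permCongr σ = e.permCongrHom σ from rfl, ← this]
    simp
  constructor
  · rintro ⟨i, hi⟩
    exact ⟨i, by rw [← hi, key, Equiv.symm_apply_apply]⟩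
  · rintro ⟨i, hi⟩
    exact ⟨i, by rw [key, hi, Equiv.apply_symm_apply]⟩

theorem otype_permCongr (e : α ≃ β) (σ : Perm α) : otype (e.permCongr σ) = otype σ := by
  have h : univ.image (orb (e.permCongr σ)) =
      (univ.image (orb σ)).map ⟨fun O => O.map e.toEmbedding, Finset.map_injective _⟩ := by
    ext O
    simp only [mem_image, mem_univ, true_and, mem_map, Function.Embedding.coeFn_mk,
      exists_exists_eq_and]
    constructor
    · rintro ⟨z, rfl⟩
      exact ⟨e.symm z, by rw [← orb_permCongr, Equiv.apply_symm_apply]⟩
    · rintro ⟨y, rfl⟩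
      exact ⟨e y, orb_permCongr e σ y⟩
  rw [otype, h, Finset.map_val, Multiset.map_map, otype]
  simp

/-! ## Adding a point -/

theorem sameCycle_optionCongr (σ : Perm α) (y : α) (b : Option α) :
    Perm.SameCycle (optionCongr σ : Perm (Option α)) (some y) b ↔
      ∃ z, b = some z ∧ σ.SameCycle y z := by
  have key : ∀ i : ℕ, ((optionCongr σ : Perm (Option α)) ^ i) (some y) = some ((σ ^ i) y) := by
    intro i; induction i with
    | zero => simp
    | succ i ih => rw [pow_succ', Perm.mul_apply, ih, pow_succ', Perm.mul_apply]; simp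
  constructor
  · intro h
    obtain ⟨i, hi⟩ := h.exists_nat_pow_eq
    exact ⟨_, (hi.symm.trans (key i)), ⟨i, by simp⟩⟩
  · rintro ⟨z, rfl, h⟩
    obtain ⟨i, rfl⟩ := h.exists_nat_pow_eq
    exact ⟨i, by rw [zpow_natCast, key]⟩

theorem orb_optionCongr_some (σ : Perm α) (y : α) :
    orb (optionCongr σ : Perm (Option α)) (some y) = (orb σ y).map Function.Embedding.some := by
  ext b
  simp only [mem_orb, sameCycle_optionCongr, mem_map, Function.Embedding.some_apply]
  exact ⟨fun ⟨z, h1, h2⟩ => ⟨z, h2, h1.symm⟩, fun ⟨z, h1, h2⟩ => ⟨z, h2.symm, h1⟩⟩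

theorem orb_optionCongr_none (σ : Perm α) :
    orb (optionCongr σ : Perm (Option α)) none = {none} := by
  ext b
  rw [mem_orb, mem_singleton]
  refine ⟨fun h => ?_, fun h => h ▸ Perm.SameCycle.refl _ _⟩
  obtain ⟨i, hi⟩ := h.exists_nat_pow_eq
  rw [← hi]
  exact Perm.pow_apply_eq_self_of_apply_eq_self (by simp) i

theorem otype_optionCongr (σ : Perm α) :
    otype (optionCongr σ : Perm (Option α)) = 1 ::ₘ otype σ := by
  classical
  have h : univ.image (orb (optionCongr σ : Perm (Option α))) =
      insert {none} ((univ.image (orb σ)).map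
        ⟨fun O => O.map Function.Embedding.some, Finset.map_injective _⟩) := by
    ext O
    simp only [mem_image, mem_univ, true_and, mem_insert, mem_map, Function.Embedding.coeFn_mk,
      exists_exists_eq_and]
    constructor
    · rintro ⟨_ | y, rfl⟩
      · exact Or.inl (orb_optionCongr_none σ)
      · exact Or.inr ⟨y, (orb_optionCongr_some σ y).symm⟩
    · rintro (rfl | ⟨y, rfl⟩)
      · exact ⟨none, orb_optionCongr_none σ⟩
      · exact ⟨some y, orb_optionCongr_some σ y⟩
  have hn : ({none} : Finset (Option α)) ∉ (univ.image (orb σ)).map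
        ⟨fun O => O.map Function.Embedding.some, Finset.map_injective _⟩ := by
    intro hc
    obtain ⟨O, -, hO⟩ := mem_map.mp hc
    have : (none : Option α) ∈ O.map Function.Embedding.some := by
      simp only [Function.Embedding.coeFn_mk] at hO
      rw [hO]; exact mem_singleton_self _
    obtain ⟨z, -, hz⟩ := mem_map.mp this
    exact Option.some_ne_none z hz
  rw [otype, h, insert_val_of_notMem hn, Multiset.map_cons, Finset.map_val, Multiset.map_map]
  simp [otype]

/-- The permutation of `Option α` putting `none` in front of `x` in its cycle. -/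
def insPerm (σ : Perm α) (x : α) : Perm (Option α) := swap none (some x) * optionCongr σ

theorem insPerm_none (σ : Perm α) (x : α) : insPerm σ x none = some x := by simp [insPerm]

theorem insPerm_some (σ : Perm α) (x y : α) :
    insPerm σ x (some y) = if σ y = x then none else some (σ y) := by
  split_ifs with h
  · simp [insPerm, h]
  · simp [insPerm, Equiv.swap_apply_def, h]

theorem sameCycle_insPerm (σ : Perm α) (x : α) (a b : Option α) :
    (insPerm σ x).SameCycle a b ↔ σ.SameCycle (a.getD x) (b.getD x) := by
  have hsn : (insPerm σ x).SameCycle none (some x) := ⟨1, by simp [insPerm_none]⟩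
  have hd : ∀ a : Option α, (insPerm σ x).SameCycle a (some (a.getD x)) := by
    rintro (_ | y)
    · exact hsn
    · exact Perm.SameCycle.refl _ _
  have hstep : ∀ y, (insPerm σ x).SameCycle (some y) (some (σ y)) := by
    intro y
    by_cases h : σ y = x
    · refine ⟨2, ?_⟩
      rw [zpow_two, Perm.mul_apply, insPerm_some, if_pos h, insPerm_none, h]
    · exact ⟨1, by rw [zpow_one, insPerm_some, if_neg h]⟩
  constructor
  · intro hab
    obtain ⟨i, hi⟩ := hab.exists_nat_pow_eq
    subst hi
    induction i with
    | zero => exact Perm.SameCycle.refl _ _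
    | succ i ih =>
      have ih' := ih ⟨i, by simp⟩
      refine ih'.trans ?_
      rw [pow_succ', Perm.mul_apply]
      cases h : ((insPerm σ x) ^ i) a with
      | none => rw [insPerm_none]; exact Perm.SameCycle.refl _ _
      | some y =>
        rw [insPerm_some]
        refine (show σ.SameCycle y (σ y) from ⟨1, by simp⟩).trans ?_
        split_ifs with hy
        · simpa [hy] using Perm.SameCycle.refl σ x
        · exact Perm.SameCycle.refl _ _
  · intro h
    refine (hd a).trans (Perm.SameCycle.trans ?_ (hd b).symm)
    obtain ⟨i, hi⟩ := h.exists_nat_pow_eq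
    rw [← hi]
    clear hi
    induction i with
    | zero => exact Perm.SameCycle.refl _ _
    | succ i ih => exact ih.trans (by rw [pow_succ', Perm.mul_apply]; exact hstep _)

theorem otype_insPerm (σ : Perm α) (x : α) :
    otype (insPerm σ x) = ((orb σ x).card + 1) ::ₘ (otype σ).erase (orb σ x).card := by
  classical
  set em : Finset α ↪ Finset (Option α) :=
    ⟨fun O => O.map Function.Embedding.some, Finset.map_injective _⟩
  have hor : ∀ a : Option α, orb (insPerm σ x) a =
      if σ.SameCycle (a.getD x) x then insert none ((orb σ x).map Function.Embedding.some)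
      else (orb σ (a.getD x)).map Function.Embedding.some := by
    intro a
    ext b
    rw [mem_orb, sameCycle_insPerm]
    split_ifs with h
    · cases b with
      | none => simpa using h
      | some z =>
        simp only [Option.getD_some, mem_insert, Option.some_ne_none, false_or, mem_map,
          Function.Embedding.some_apply, Option.some.injEq, exists_eq_right, mem_orb]
        exact ⟨fun h' => h.symm.trans h', fun h' => h.trans h'⟩
    · cases b with
      | none => simpa using h
      | some z => simp [mem_orb]
  have himg : univ.image (orb (insPerm σ x)) =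
      insert (insert none ((orb σ x).map Function.Embedding.some))
        (((univ.image (orb σ)).erase (orb σ x)).map em) := by
    ext O
    simp only [mem_image, mem_univ, true_and, mem_insert, mem_map, mem_erase]
    constructor
    · rintro ⟨a, rfl⟩
      rw [hor]
      split_ifs with h
      · exact Or.inl rfl
      · exact Or.inr ⟨_, ⟨fun he => h (orb_eq_iff.mp he), _, rfl⟩, rfl⟩
    · rintro (rfl | ⟨_, ⟨hne, y, rfl⟩, rfl⟩)
      · exact ⟨none, by rw [hor, if_pos]; simp [Perm.SameCycle.refl]⟩
      · refine ⟨some y, ?_⟩
        rw [hor, if_neg]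
        · rfl
        · exact fun h => hne (orb_eq_iff.mpr (by simpa using h))
  have hn : insert none ((orb σ x).map Function.Embedding.some) ∉
      ((univ.image (orb σ)).erase (orb σ x)).map em := by
    intro hc
    obtain ⟨O, -, hO⟩ := mem_map.mp hc
    have : (none : Option α) ∈ em O := by rw [hO]; exact mem_insert_self _ _
    simp [em] at this
  rw [otype, himg, insert_val_of_notMem hn, Multiset.map_cons]
  congr 1
  · simp
  · rw [Finset.map_val, Multiset.map_map, erase_val, otype]
    rw [show (Finset.card ∘ em) = Finset.card from funext fun O => by simp [em]]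
    exact Multiset.map_erase_of_mem _ _ (mem_image_of_mem _ (mem_univ x))

/-! ## The cycle recursion -/

variable {A : Type*} [AddCommMonoid A]

/-- The derived function of adding a point. -/
def addPoint (F : Multiset ℕ → A) (T : Multiset ℕ) : A :=
  F (1 ::ₘ T) + (T.map fun q => q • F ((q + 1) ::ₘ T.erase q)).sum

theorem sum_option (F : Multiset ℕ → A) :
    ∑ ρ : Perm (Option α), F (otype ρ) = ∑ σ : Perm α, addPoint F (otype σ) := by
  rw [← Equiv.sum_comp (Equiv.Perm.decomposeOption (α := α)).symm, Fintype.sum_prod_type,
    Finset.sum_comm]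
  refine sum_congr rfl fun σ _ => ?_
  rw [Fintype.sum_option, addPoint]
  congr 1
  · rw [← otype_optionCongr]
    congr 2
    ext a; simp
  · rw [show ∀ f : α → A, (∀ x, f x = F (otype (insPerm σ x))) → ∑ x, f x =
        ∑ x, F (otype (insPerm σ x)) from fun f hf => sum_congr rfl fun x _ => hf x]
    · simp only [otype_insPerm]
      rw [sum_orb σ (fun O => F ((O.card + 1) ::ₘ (otype σ).erase O.card))]
      simp only [otype, Multiset.map_map, Finset.sum, Function.comp]
    · intro x; rfl

/-- The sum of `F` over the types of permutations of `n` points. -/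
noncomputable def psum (n : ℕ) (F : Multiset ℕ → A) : A := ∑ σ : Perm (Fin n), F (otype σ)

theorem psum_card (F : Multiset ℕ → A) :
    ∑ σ : Perm α, F (otype σ) = psum (Fintype.card α) F := by
  rw [psum, ← Equiv.sum_comp (Fintype.equivFin α).permCongr]
  simp [otype_permCongr]

theorem psum_succ_addPoint (n : ℕ) (F : Multiset ℕ → A) :
    psum (n + 1) F = psum n (addPoint F) := by
  have h := psum_card (α := Option (Fin n)) F
  rw [Fintype.card_option, Fintype.card_fin, sum_option] at h
  exact h.symm

theorem addPoint_cons (F : Multiset ℕ → A) (k : ℕ) (T : Multiset ℕ) :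
    addPoint F (k ::ₘ T) = addPoint (fun S => F (k ::ₘ S)) T + k • F ((k + 1) ::ₘ T) := by
  unfold addPoint
  rw [Multiset.map_cons, Multiset.sum_cons, Multiset.erase_cons_head, Multiset.cons_swap 1 k,
    add_assoc, add_comm (k • F ((k + 1) ::ₘ T))]
  congr 2
  refine congrArg Multiset.sum (Multiset.map_congr rfl fun q hq => ?_)
  congr 2
  rw [Multiset.cons_swap k (q + 1)]
  congr 1
  by_cases h : k = q
  · subst h
    rw [Multiset.erase_cons_head, Multiset.cons_erase hq]
  · rw [Multiset.erase_cons_tail _ h]

theorem psum_succ (n : ℕ) : ∀ F : Multiset ℕ → A,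
    psum (n + 1) F = ∑ j ∈ range (n + 1),
      n.descFactorial j • psum (n - j) (fun T => F ((j + 1) ::ₘ T)) := by
  induction n with
  | zero =>
    intro F
    rw [psum_succ_addPoint]
    simp [psum, addPoint, otype]
  | succ n ih =>
    intro F
    have e : ∀ j, j ∈ range (n + 1) → psum (n - j) (fun T => addPoint F ((j + 1) ::ₘ T)) =
        psum (n + 1 - j) (fun T => F ((j + 1) ::ₘ T)) +
          (j + 1) • psum (n - j) (fun T => F ((j + 2) ::ₘ T)) := by
      intro j hj
      rw [mem_range] at hj
      rw [show n + 1 - j = (n - j) + 1 by omega, psum_succ_addPoint]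
      simp only [psum, addPoint_cons, sum_add_distrib, ← smul_sum]
    rw [psum_succ_addPoint, ih, sum_congr rfl fun j hj => by rw [e j hj]]
    simp only [smul_add, sum_add_distrib, smul_smul]
    rw [sum_range_succ' (fun j => (n + 1).descFactorial j • _) (n + 1),
      sum_range_succ' (fun j => n.descFactorial j • psum (n + 1 - j)
        (fun T => F ((j + 1) ::ₘ T))) n]
    simp only [Nat.descFactorial_zero, Nat.succ_sub_succ_eq_sub, show ∀ j, j + 1 + 1 = j + 2
      from fun _ => rfl]
    have hpad : ∑ j ∈ range n, n.descFactorial (j + 1) • psum (n - j)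
        (fun T => F ((j + 2) ::ₘ T)) = ∑ j ∈ range (n + 1), n.descFactorial (j + 1) • psum (n - j)
        (fun T => F ((j + 2) ::ₘ T)) := by
      rw [sum_range_succ _ n, Nat.descFactorial_eq_zero_iff_lt.mpr (Nat.lt_succ_self n), zero_smul,
        add_zero]
    rw [hpad, add_right_comm, ← sum_add_distrib]
    congr 1
    refine sum_congr rfl fun j hj => ?_
    rw [mem_range] at hj
    rw [← add_smul]
    congr 1
    rw [Nat.succ_descFactorial_succ, Nat.descFactorial_succ, mul_comm (n.descFactorial j) (j + 1),
      ← Nat.add_mul]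
    congr 1
    omega

theorem otype_filter_eq_cycleType (σ : Perm α) :
    (otype σ).filter (· ≠ 1) = σ.cycleType := by
  classical
  have h : (univ.image (orb σ)).filter (fun O => O.card ≠ 1) =
      σ.cycleFactorsFinset.image Perm.support := by
    ext O
    simp only [mem_filter, mem_image, mem_univ, true_and]
    have horb : ∀ y, σ y ≠ y → (σ.cycleOf y).support = orb σ y := by
      intro y hy
      ext z
      rw [mem_orb, Perm.mem_support_cycleOf_iff' hy]
    constructor
    · rintro ⟨⟨y, rfl⟩, hc⟩
      have hy : σ y ≠ y := by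
        intro hfix
        apply hc
        rw [show orb σ y = {y} from ?_, card_singleton]
        ext z
        rw [mem_orb, mem_singleton]
        refine ⟨fun h => ?_, fun h => h ▸ Perm.SameCycle.refl _ _⟩
        exact ((h.eq_of_left hfix)).symm
      exact ⟨σ.cycleOf y, Perm.cycleOf_mem_cycleFactorsFinset_iff.mpr (Perm.mem_support.mpr hy),
        horb y hy⟩
    · rintro ⟨c, hc, rfl⟩
      obtain ⟨hcyc, hagree⟩ := Perm.mem_cycleFactorsFinset_iff.mp hc
      obtain ⟨y, hy⟩ := hcyc.nonempty_support
      have hy' : σ y ≠ y := by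
        rw [← hagree y hy]; exact Perm.mem_support.mp hy
      rw [Perm.cycle_is_cycleOf hy hc]
      refine ⟨⟨y, (horb y hy').symm⟩, ?_⟩
      rw [← Perm.cycle_is_cycleOf hy hc]
      have := hcyc.two_le_card_support
      omega
  rw [otype, Multiset.filter_map, Perm.cycleType_def]
  have h2 : ((univ.image (orb σ)).filter (fun O => O.card ≠ 1)).val =
      σ.cycleFactorsFinset.val.map Perm.support := by
    rw [h, image_val_of_injOn]
    intro c hc d hd he
    have := Perm.IsCycle.nonempty_support (Perm.mem_cycleFactorsFinset_iff.mp hc).1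
    obtain ⟨y, hy⟩ := this
    have hy' : y ∈ d.support := he ▸ hy
    rw [Perm.cycle_is_cycleOf hy hc, Perm.cycle_is_cycleOf hy' hd]
  rw [show Multiset.filter ((fun x => x ≠ 1) ∘ Finset.card) (univ.image (orb σ)).val =
    ((univ.image (orb σ)).filter (fun O => O.card ≠ 1)).val from rfl, h2, Multiset.map_map]

theorem isConj_of_otype_eq {σ τ : Perm α} (h : otype σ = otype τ) : IsConj σ τ := by
  rw [Perm.isConj_iff_cycleType_eq, ← otype_filter_eq_cycleType, ← otype_filter_eq_cycleType, h]

theorem otype_eq_of_isConj {σ τ : Perm α} (h : IsConj σ τ) : otype σ = otype τ := by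
  obtain ⟨c, rfl⟩ := isConj_iff.mp h
  have : c * σ * c⁻¹ = c.permCongr σ := by ext y; simp [Equiv.permCongr_apply]
  rw [this, otype_permCongr]

end Cfsg.Agent.Lib.SymChar81
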