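import Cfsg.Agent.Lib.SymChar81.AltRestrict
import Cfsg.Agent.Lib.SymChar81.SymCount
import Cfsg.Agent.Lib.SymChar81.Rank
import Cfsg.Agent.Lib.SymChar81.Descend
import Cfsg.Agent.Lib.SymChar81.Model
import Cfsg.Agent.Lib.Blocks.Orthogonality
import Mathlib.GroupTheory.SpecificGroups.Alternating
import Mathlib.RingTheory.Localization.NumDen

/-!
# Self-associate characters in blocks of weight one

Their two halves agree on the `p`-regular classes of the alternating group.
-/

set_option linter.unusedSectionVars false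

namespace Cfsg.Agent.Lib.SymChar81

open Finset
open Cfsg.Agent.Lib.Clifford.Basic
open scoped ComplexConjugate

variable {N : ℕ}

theorem base_perm (τ : Equiv.Perm (Fin N)) :
    base (fun i => ((τ i : ℕ) : ℤ)) = (Equiv.Perm.sign τ : ℤ) := by
  rw [base, sum_eq_single τ]
  · simp
  · intro s _ hst
    rw [if_neg, mul_zero]
    exact fun h => hst (Equiv.ext fun i => Fin.ext (by
      have := congrFun h i; omega))
  · simp

/-- Some value of every bead function is `±1`. -/
theorem exists_unit_type : ∀ (n : ℕ) (u : Fin N → ℤ), IsBead n u →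
    ∃ M : Multiset ℕ, M.sum = n ∧ (∀ k ∈ M, 0 < k) ∧ (chi M u = 1 ∨ chi M u = -1) := by
  intro n
  induction n using Nat.strong_induction_on with
  | h n ih =>
    intro u hu
    classical
    obtain ⟨hinj, h0, hs⟩ := hu
    by_cases hsmall : ∀ i, u i < N
    · have hex : ∀ i, ∃ a : Fin N, ((a : ℕ) : ℤ) = u i := fun i =>
        ⟨⟨(u i).toNat, by have := h0 i; have := hsmall i; omega⟩, by
          have := h0 i; simp only; omega⟩
      choose f hf using hex
      have hfb : Function.Bijective f := Finite.injective_iff_bijective.mp fun a c e =>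
        hinj (by rw [← hf a, ← hf c, e])
      set τ := Equiv.ofBijective f hfb with hτ
      have hu' : u = fun i => ((τ i : ℕ) : ℤ) := funext fun i => (hf i).symm
      have hn : n = 0 := by
        have : ∑ i, u i = tot N := by
          rw [hu']; exact Equiv.sum_comp τ fun i : Fin N => ((i : ℕ) : ℤ)
        omega
      refine ⟨0, by simp [hn], by simp, ?_⟩
      rw [chi_zero, hu', base_perm]
      rcases Int.units_eq_one_or (Equiv.Perm.sign τ) with h | h <;> simp [h]
    push Not at hsmall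
    obtain ⟨i0, hi0⟩ := hsmall
    haveI : Nonempty (Fin N) := ⟨i0⟩
    obtain ⟨i, -, hmax⟩ := (univ : Finset (Fin N)).exists_max_image u univ_nonempty
    have hxN : (N : ℤ) ≤ u i := hi0.trans (hmax i0 (mem_univ _))
    have hfree : ∃ g : ℕ, (g : ℤ) < u i ∧ ∀ l, u l ≠ g := by
      by_contra hc
      push Not at hc
      have hex : ∀ g : Fin (N + 1), ∃ l, u l = if (g : ℕ) < N then ((g : ℕ) : ℤ) else u i := by
        intro g
        split_ifs with hg
        · exact hc g (by omega)
        · exact ⟨i, rfl⟩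
      choose f hf using hex
      have hfi : Function.Injective f := fun a c e => Fin.ext (by
        have h1 := hf a
        rw [e, hf c] at h1
        have := a.2
        have := c.2
        split_ifs at h1 <;> omega)
      have := Fintype.card_le_of_injective f hfi
      simp at this
    set g := Nat.find hfree
    obtain ⟨hgx, hgfree⟩ := Nat.find_spec hfree
    set k := (u i - g).toNat with hk
    have hkpos : 0 < k := by omega
    set v := sh (k : ℤ) i u with hv
    have hvi : v i = g := by rw [hv, sh_self]; omega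
    have hv0 : ∀ a, 0 ≤ v a := fun a => by
      by_cases ha : a = i
      · subst ha; omega
      · rw [hv, sh_of_ne _ _ ha]; exact h0 a
    have hvinj : Function.Injective v := fun a c e => by
      by_cases ha : a = i <;> by_cases hc : c = i
      · rw [ha, hc]
      · subst ha
        rw [hvi, hv, sh_of_ne _ _ hc] at e
        exact absurd e.symm (hgfree c)
      · subst hc
        rw [hvi, hv, sh_of_ne _ _ ha] at e
        exact absurd e (hgfree a)
      · rw [hv, sh_of_ne _ _ ha, sh_of_ne _ _ hc] at e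
        exact hinj e
    have hkn : k ≤ n := by
      have h1 := tot_le_sum hvinj hv0
      rw [hv, sum_sh, hs] at h1
      omega
    obtain ⟨M, hM, hMpos, hMv⟩ := ih (n - k) (by omega) v
      ⟨hvinj, hv0, by rw [hv, sum_sh, hs, Nat.cast_sub hkn]; ring⟩
    refine ⟨k ::ₘ M, by rw [Multiset.sum_cons, hM]; omega, fun l hl => ?_, ?_⟩
    · rcases Multiset.mem_cons.mp hl with rfl | h
      · exact hkpos
      · exact hMpos l h
    rw [chi_cons, sum_eq_single i]
    · exact hMv
    · intro j _ hji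
      by_contra hne
      have h1 := (chi_ne_zero_nonneg hne).1 j
      have h2 := chi_ne_zero_injective hne
      have hle := hmax j (mem_univ _)
      rw [sh_self] at h1
      obtain ⟨z, hz⟩ := Int.eq_ofNat_of_zero_le h1
      have hlt : z < g := by
        have : u j ≠ u i := fun e => hji (hinj e)
        omega
      have hmin := Nat.find_min hfree hlt
      push Not at hmin
      obtain ⟨l, hl⟩ := hmin (by omega)
      have hlj : l ≠ j := by rintro rfl; omega
      exact hlj (h2 (by rw [sh_of_ne _ _ hlj, sh_self, hl, hz]))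
    · simp

/-- Every type occurs. -/
theorem exists_perm_otype (M : Multiset ℕ) : (∀ k ∈ M, 0 < k) → ∀ n, M.sum = n →
    ∃ τ : Equiv.Perm (Fin n), otype τ = M := by
  induction M using Multiset.induction with
  | empty =>
    intro _ n hn
    simp only [Multiset.sum_zero] at hn
    subst hn
    exact ⟨1, by simp [otype, univ_eq_empty]⟩
  | cons k M ih =>
    intro hpos n hn
    obtain ⟨τ, hτ⟩ := ih (fun l hl => hpos l (Multiset.mem_cons_of_mem hl)) M.sum rfl
    haveI : NeZero k := ⟨(hpos k (Multiset.mem_cons_self _ _)).ne'⟩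
    have hcard : Fintype.card (Pts k 1 M.sum) = Fintype.card (Fin n) := by
      simp [ZMod.card, ← hn]
    refine ⟨(Fintype.equivOfCardEq hcard).permCongr
      (shiftHom k 1 M.sum (unitShift k 1) * modelPerm k 1 τ), ?_⟩
    rw [otype_permCongr, otype_model, hτ]
    simp

/-- The types seen by a core have no part divisible by `p`. -/
theorem not_dvd_of_core {p : ℕ} {M : Multiset ℕ} {u : Fin N → ℤ} (h0 : ∀ i, 0 ≤ u i)
    (hgz : ∀ i, gp p u i = 0) (hM : chi M u ≠ 0) (hpos : ∀ k ∈ M, 0 < k) : ∀ k ∈ M, ¬ p ∣ k := by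
  intro k hk hpk
  rw [← Multiset.cons_erase hk, chi_cons] at hM
  obtain ⟨i, -, hi⟩ := exists_ne_zero_of_sum_ne_zero hM
  have h1 := (chi_ne_zero_nonneg hi).1 i
  have h2 := chi_ne_zero_injective hi
  have hkpos := hpos k hk
  rw [sh_self] at h1
  obtain ⟨x, hx⟩ := Int.eq_ofNat_of_zero_le (h0 i)
  have h3 := gaps_eq_zero_iff.mp (hgz i) (x - k) (by rw [hx, Int.toNat_natCast]; omega) (by
    rw [hx, Int.toNat_natCast]
    obtain ⟨c, rfl⟩ := hpk
    conv_rhs => rw [← Nat.sub_add_cancel (show p * c ≤ x by omega), Nat.add_mul_mod_self_left])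
  obtain ⟨l, hl⟩ := (mem_occ h0).mp h3
  have hli : l ≠ i := by rintro rfl; omega
  exact hli (h2 (by rw [sh_of_ne _ _ hli, sh_self]; omega))

theorem chi_weight_one {p n : ℕ} (hp : 0 < p) {b : Fin N → ℤ} (hb : IsBead n b)
    (hw : ∑ i, gp p b i = 1) :
    p ≤ n ∧ IsBead (n - p) (core p b) ∧ (∀ i, gp p (core p b) i = 0) ∧
      ∀ M : Multiset ℕ, chi (p ::ₘ M) b = chi M (core p b) := by
  classical
  obtain ⟨i, hii, hi0⟩ := exists_movable hp hb.1 hb.2.1 (by omega)
  obtain ⟨e1, e2⟩ := gp_sh hp hb.1 hb.2.1 hii hi0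
  have huniq : ∀ j, 0 < gp p b j → j = i := by
    intro j hj
    by_contra hne
    have h1 : gp p b i + ∑ a ∈ univ.erase i, gp p b a = ∑ a, gp p b a :=
      add_sum_erase univ (fun a => gp p b a) (mem_univ i)
    have h2 : gp p b j ≤ ∑ a ∈ univ.erase i, gp p b a :=
      single_le_sum (f := fun a => gp p b a) (fun _ _ => Nat.zero_le _)
        (mem_erase.mpr ⟨hne, mem_univ j⟩)
    omega
  have hz : ∀ a, gp p (sh (p : ℤ) i b) a = 0 := by
    intro a
    by_cases ha : a = i
    · subst ha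
      have h2 : gp p b a ≤ ∑ a, gp p b a :=
        single_le_sum (f := fun a => gp p b a) (fun _ _ => Nat.zero_le _) (mem_univ a)
      omega
    · rw [e2 a ha]
      by_contra h
      exact ha (huniq a (Nat.pos_of_ne_zero h))
  have hcore : sh (p : ℤ) i b = core p b := by
    rw [← core_sh hp hb.1 hb.2.1 hii hi0]
    funext a
    simp [core, hz a]
  have hpn : p ≤ n := by
    have := tot_le_sum hii hi0
    rw [sum_sh, hb.2.2] at this
    omega
  refine ⟨hpn, hcore ▸ ⟨hii, hi0, by rw [sum_sh, hb.2.2, Nat.cast_sub hpn]; ring⟩,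
    fun a => hcore ▸ hz a, fun M => ?_⟩
  rw [chi_cons, sum_eq_single i, hcore]
  · intro j _ hji
    by_contra hne
    obtain ⟨ej, -⟩ := gp_sh hp hb.1 hb.2.1 (chi_ne_zero_injective hne) (chi_ne_zero_nonneg hne).1
    exact hji (huniq j (by omega))
  · simp

theorem not_isIntegral_half {z : ℂ} (hz : 2 * z = 1 ∨ 2 * z = -1) : ¬ IsIntegral ℤ z := by
  intro hint
  have hhalf : IsIntegral ℤ ((algebraMap ℚ ℂ) (1 / 2)) := by
    rcases hz with h | h
    · have : z = algebraMap ℚ ℂ (1 / 2) := by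
        rw [map_div₀, map_one, map_ofNat, eq_div_iff (two_ne_zero), mul_comm]; exact h
      rwa [← this]
    · have : -z = algebraMap ℚ ℂ (1 / 2) := by
        rw [map_div₀, map_one, map_ofNat, eq_div_iff (two_ne_zero), neg_mul, mul_comm, h, neg_neg]
      rw [← this]
      exact hint.neg
  rw [isIntegral_algebraMap_iff (algebraMap ℚ ℂ).injective] at hhalf
  obtain ⟨k, hk⟩ := IsIntegrallyClosed.isIntegral_iff.mp hhalf
  rw [eq_intCast] at hk
  have : ((2 * k : ℤ) : ℚ) = ((1 : ℤ) : ℚ) := by push_cast; rw [hk]; norm_num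
  have := Int.cast_injective this
  omega

/-- **Weight one.** -/
theorem splitReg_eq_empty {n p : ℕ} [Fact p.Prime] (hn : n ≤ N) (hn0 : 0 < N)
    {M : Ideal Cfsg.AlgInt} (hM : Cfsg.IsPModular p M)
    {t : Equiv.Perm (Fin n)} (ht : t ∉ alternatingGroup (Fin n))
    (hidx : (alternatingGroup (Fin n)).index = 2)
    {B : Set (Cfsg.IrrCharacter (Equiv.Perm (Fin n)))} (hB : Cfsg.IsPBlock M B)
    {χ0 : Cfsg.IrrCharacter (Equiv.Perm (Fin n))} (hχ0 : χ0 ∈ B) {b0 : Fin N → ℤ}
    (hb0 : HasBead n χ0 b0) (hw : wt p (beadSet b0) = 1) :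
    splitReg p (alternatingGroup (Fin n)) t B = ∅ := by
  classical
  haveI := hM.2.1
  have hp : p.Prime := Fact.out
  set A := alternatingGroup (Fin n)
  -- self-associate members of the block
  have hsym : ∀ χ ∈ B, (∀ g ∉ A, (χ : Equiv.Perm (Fin n) → ℂ) g = 0) → ∀ b : Fin N → ℤ,
      HasBead n χ b → beadSet b ∈ SymFam p N (rc p b0) 1 := by
    intro χ hχ hvan b hb
    have hR := rc_eq_of_block hn hM hB hχ0 hχ hb0 hb
    refine ⟨fun r _ => by rw [card_runner_beadSet hb.1.1 hb.1.2.1, hR], ?_, ?_⟩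
    · rw [← hw]
      exact wt_eq_of_box (R := rc p b0) hp.pos (mem_box.mpr ⟨hb.1.2.1, hb.1.2.2, hR⟩)
        (mem_box.mpr ⟨hb0.1.2.1, hb0.1.2.2, rfl⟩) hb.1.1 hb0.1.1
    · refine symSet_of_selfAssociate hn hb fun σ => ?_
      by_cases hσ : σ ∈ A
      · rw [Equiv.Perm.mem_alternatingGroup.mp hσ]; simp
      · rw [hvan σ hσ, mul_zero]
  obtain ⟨F, hF, hFcard⟩ := symFam_one (N := N) (R := rc p b0) hp.pos
  have hFle : F.card ≤ 1 := hFcard.trans (by split_ifs <;> omega)
  refine Set.eq_empty_iff_forall_notMem.mpr fun χ hχs => ?_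
  have hvan := splitReg_vanishes hidx ht hχs
  obtain ⟨hχB, θ, hθ, hδ⟩ := hχs
  have hne : conjC A t (θ : A → ℂ) ≠ θ := fun e => hδ (by
    rw [e, sub_self]; funext a; simp [Cfsg.pRegularPart])
  obtain ⟨hsplit, -⟩ := restrict_split hidx ht χ θ hθ hne
  obtain ⟨b, hb⟩ := exists_hasBead hn χ
  have hbS := hsym χ hχB hvan b hb
  have hgp : ∑ i, gp p b i = 1 := (wt_occ_eq_sum_gp hp.pos hb.1.1 hb.1.2.1).symm.trans hbS.2.1
  -- an element where the value is `±1`
  obtain ⟨hpn, hcore, hgz, hval⟩ := chi_weight_one hp.pos hb.1 hgp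
  obtain ⟨T, hT, hTpos, hTu⟩ := exists_unit_type _ _ hcore
  obtain ⟨τ, hτ⟩ := exists_perm_otype T hTpos _ hT
  have hTne : chi T (core p b) ≠ 0 := by rcases hTu with h | h <;> omega
  have hτreg : ¬ p ∣ orderOf τ := (isPRegular_iff τ).mpr fun k hk =>
    not_dvd_of_core hcore.2.1 hgz hTne hTpos k (hτ ▸ hk)
  obtain ⟨x, y, -, -, -, -, htype, -⟩ :=
    exists_model (p := p) (w := 1) (n := n) Nat.one_pos (by omega) τ hτreg
  set h := x * y
  have hcons : otype h = p ::ₘ T := by rw [htype, hτ]; simp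
  have hχh : (χ : Equiv.Perm (Fin n) → ℂ) h = 1 ∨ (χ : Equiv.Perm (Fin n) → ℂ) h = -1 := by
    obtain ⟨-, e, he, hχb⟩ := hb
    rw [hχb, Pi.smul_apply, smul_eq_mul, theta, hcons, hval]
    rcases he with rfl | rfl <;> rcases hTu with h | h <;> simp [h]
  have hhA : h ∈ A := by
    by_contra hh
    rcases hχh with h1 | h1 <;> simp [hvan h hh] at h1
  have hhs : ¬ Cfsg.IsPRegular p h := fun hreg =>
    (isPRegular_iff h).mp hreg p (by rw [hcons]; exact Multiset.mem_cons_self _ _) dvd_rfl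
  set h' : A := ⟨h, hhA⟩
  have hδh : (θ : A → ℂ) h' - conjC A t (θ : A → ℂ) h' ≠ 0 := by
    intro heq
    have h1 := congrFun hsplit h'
    rw [Pi.add_apply, ← sub_eq_zero.mp heq, ← two_mul] at h1
    refine not_isIntegral_half ?_
      (Characters.Basic.isIntegral_apply (Characters.Basic.isCharacter_irr θ) h')
    rw [← h1]
    exact hχh
  -- orthogonality in the block of `θ`
  refine hδ ?_
  set bθ := Cfsg.blockOf M (θ : A → ℂ)
  have hbθ : Cfsg.IsPBlock M bθ := Blocks.isPBlock_blockOf θ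
  have hθb : θ ∈ bθ := Blocks.mem_blockOf_self θ
  let θ' : Cfsg.IrrCharacter A := ⟨_, isIrrCharacter_conjC A t θ.2⟩
  have hθθ' : θ ≠ θ' := fun e => hne (congrArg Subtype.val e).symm
  have hfix : ∀ η ∈ bθ, η ≠ θ → η ≠ θ' → conjC A t (η : A → ℂ) = η := by
    intro η hη h1 h2
    by_contra hn'
    obtain ⟨χ', hχ'B, hχ'⟩ := Cfsg.Agent.S4432.result p M hM A B hB bθ hbθ
      ⟨χ, hχB, θ, hθb, hθ⟩ η hη
    obtain ⟨-, hvan'⟩ := restrict_split hidx ht χ' η hχ' hn'
    obtain ⟨c, hc⟩ := exists_hasBead hn χ'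
    have hset : beadSet c = beadSet b :=
      card_le_one.mp hFle _ (hF (hsym χ' hχ'B hvan' c hc)) _ (hF hbS)
    obtain ⟨π, hπ⟩ := exists_perm_of_beadSet_eq hc.1.1 hb.1.2.1 hc.1.2.1 hset
    have hχχ : χ' = χ := HasBead.eq hc (hπ ▸ hb.comp π)
    subst hχχ
    obtain ⟨u, hu⟩ := exists_conj_of_constituents A χ'.2 hθ hχ'
    rcases conjC_cases hidx θ ht u with h | h
    · exact h1 (Subtype.ext (hu.symm.trans h))
    · exact h2 (Subtype.ext (hu.symm.trans h))
  funext a
  show Cfsg.pRegularPart p _ a = 0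
  rw [Cfsg.pRegularPart]
  split_ifs with ha
  swap
  · rfl
  set t' : A := ⟨t * h * t⁻¹, (alternatingGroup.normal).conj_mem _ hhA t⟩
  have hs1 : p ∣ orderOf h' := by
    rw [← Subgroup.orderOf_coe]; exact not_not.mp hhs
  have hs2 : p ∣ orderOf t' := by
    rw [← Subgroup.orderOf_coe]
    show p ∣ orderOf (t * h * t⁻¹)
    rw [← MulAut.conj_apply, MulEquiv.orderOf_eq]
    exact not_not.mp hhs
  set a' : A := ⟨t * a * t⁻¹, (alternatingGroup.normal).conj_mem _ a.2 t⟩
  have ha' : ¬ p ∣ orderOf a' := by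
    rw [← Subgroup.orderOf_coe]
    show ¬ p ∣ orderOf (t * (a : Equiv.Perm (Fin n)) * t⁻¹)
    rw [← MulAut.conj_apply, MulEquiv.orderOf_eq, Subgroup.orderOf_coe]
    exact ha
  haveI := Fintype.ofFinite (Cfsg.IrrCharacter A)
  have horth : ∀ g : A, ¬ p ∣ orderOf g →
      ∑ η : Cfsg.IrrCharacter A with η ∈ bθ,
        (η : A → ℂ) g * conj ((η : A → ℂ) h' - (η : A → ℂ) t') = 0 := by
    intro g hg
    have o1 := Blocks.weak_orthogonality hM hbθ hg hs1
    have o2 := Blocks.weak_orthogonality hM hbθ hg hs2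
    rw [finsum_mem_eq_finite_toFinset_sum _ (Set.toFinite bθ)] at o1 o2
    simp only [map_sub, mul_sub, sum_sub_distrib]
    have e : (univ.filter fun η : Cfsg.IrrCharacter A => η ∈ bθ) = (Set.toFinite bθ).toFinset := by
      ext η; simp
    rw [e, o1, o2, sub_zero]
  set c : ℂ := if θ' ∈ bθ then 1 else 0 with hc
  have hval2 : ∀ g : A, ¬ p ∣ orderOf g →
      ((θ : A → ℂ) g - c * (θ' : A → ℂ) g) * conj ((θ : A → ℂ) h' - (θ' : A → ℂ) h') = 0 := by
    intro g hg
    rw [← horth g hg]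
    have hother : ∀ η ∈ univ.filter (fun η : Cfsg.IrrCharacter A => η ∈ bθ),
        η ∉ ({θ, θ'} : Finset (Cfsg.IrrCharacter A)) →
          (η : A → ℂ) g * conj ((η : A → ℂ) h' - (η : A → ℂ) t') = 0 := by
      intro η hη hη'
      simp only [mem_insert, mem_singleton, not_or] at hη'
      have := congrFun (hfix η (mem_filter.mp hη).2 hη'.1 hη'.2) h'
      change (η : A → ℂ) t' = _ at this
      rw [this, sub_self, map_zero, mul_zero]
    have htt : (θ : A → ℂ) t' = (θ' : A → ℂ) h' := rfl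
    have htt' : (θ' : A → ℂ) t' = (θ : A → ℂ) h' := congrFun (conjC_sq_eq hidx θ t) h'
    have e : ∑ η : Cfsg.IrrCharacter A with η ∈ bθ,
        (η : A → ℂ) g * conj ((η : A → ℂ) h' - (η : A → ℂ) t') =
        ∑ η ∈ ({θ, θ'} : Finset (Cfsg.IrrCharacter A)), if η ∈ bθ then
          (η : A → ℂ) g * conj ((η : A → ℂ) h' - (η : A → ℂ) t') else 0 := by
      rw [← sum_filter]
      refine (sum_subset (fun η hη => ?_) fun η hη hη' => hother η hη fun h => hη' ?_).symm
      · exact mem_filter.mpr ⟨mem_univ _, (mem_filter.mp hη).2⟩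
      · exact mem_filter.mpr ⟨h, (mem_filter.mp hη).2⟩
    rw [e, sum_pair hθθ', if_pos hθb, htt, htt', hc]
    split_ifs <;> simp only [map_sub] <;> ring
  have h1 := hval2 a ha
  have h2 := hval2 a' ha'
  have e1 : (θ : A → ℂ) a' = (θ' : A → ℂ) a := rfl
  have e2 : (θ' : A → ℂ) a' = (θ : A → ℂ) a := congrFun (conjC_sq_eq hidx θ t) a
  rw [e1, e2] at h2
  have h3 : (1 + c) * ((θ : A → ℂ) a - (θ' : A → ℂ) a) *
      conj ((θ : A → ℂ) h' - (θ' : A → ℂ) h') = 0 := by
    linear_combination h1 - h2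
  have hc0 : (1 + c) ≠ 0 := by rw [hc]; split_ifs <;> norm_num
  rcases mul_eq_zero.mp h3 with h | h
  · exact (mul_eq_zero.mp h).resolve_left hc0
  · exact absurd ((map_eq_zero _).mp h) hδh

end Cfsg.Agent.Lib.SymChar81
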